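import Cfsg.Agent.H504.ZeroTI
import Cfsg.Agent.Characters.GaloisIrr
import Cfsg.Agent.H713.Engine
import Cfsg.Agent.S0191

/-!
# Counting zeros in the character table (S4895)

* `Big G` : `8 + #(non-linear irreducible characters) ≤ #(zeros (χ, class) with χ non-linear)`.
* `nv_le_card_centralizer` : at most `|C(x)|` irreducible characters do not vanish at `x`.
* `big_of_sum`, `big_of_row`, `big_of_dz`, `big_of_cols`, `big_of_ti` : criteria for `Big G`.
-/

set_option autoImplicit false
set_option linter.unusedSectionVars false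

open scoped ComplexConjugate

namespace Cfsg.Agent.H504.Zeros

open Cfsg Cfsg.Agent.Characters.Core Cfsg.Agent.SmallSimple.SelfCentSum
open Cfsg.Agent.Characters.GaloisBasic Cfsg.Agent.H504.ZeroTI

universe u v

/-- the pairs (non-linear irreducible character, conjugacy class where it vanishes) -/
abbrev ZP (G : Type*) [Group G] :=
  {x : IrrCharacter G × ConjClasses G // charDegree (x.1 : G → ℂ) ≠ 1 ∧
    ∀ g : G, ConjClasses.mk g = x.2 → (x.1 : G → ℂ) g = 0}

/-- the non-linear irreducible characters -/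
abbrev NL (G : Type*) [Group G] := {χ : IrrCharacter G // charDegree (χ : G → ℂ) ≠ 1}

/-- what S4895 asserts for every non-abelian simple group outside the three exceptions -/
def Big (G : Type*) [Group G] : Prop := 8 + Nat.card (NL G) ≤ Nat.card (ZP G)

/-- the number of classes where `χ` vanishes -/
noncomputable def zc {G : Type*} [Group G] (χ : IrrCharacter G) : ℕ :=
  Nat.card {c : ConjClasses G // ∀ g : G, ConjClasses.mk g = c → (χ : G → ℂ) g = 0}

/-- pairwise non-conjugate -/
def NonConj {G : Type*} [Group G] (s : Finset G) : Prop :=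
  ∀ g ∈ s, ∀ h ∈ s, IsConj g h → g = h

variable {G : Type u} [Group G]

theorem apply_eq_of_mk {χ : G → ℂ} (hχ : IsCharacter G χ) {g h : G}
    (e : ConjClasses.mk g = ConjClasses.mk h) : χ g = χ h := by
  obtain ⟨c, hc⟩ := isConj_iff.1 (ConjClasses.mk_eq_mk_iff_isConj.1 e)
  rw [← hc]
  exact (isCharacter_isClassFunction hχ _ _).symm

theorem charDegree_cast_irr (χ : IrrCharacter G) :
    (charDegree (χ : G → ℂ) : ℂ) = (χ : G → ℂ) 1 :=
  (Cfsg.Agent.Blocks.Basic.irr_one_eq_charDegree χ.2).symm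

/-- a vanishing irreducible character is non-linear -/
theorem nonlinear_of_zero [Finite G] {χ : IrrCharacter G} {g : G} (h : (χ : G → ℂ) g = 0) :
    charDegree (χ : G → ℂ) ≠ 1 := by
  intro h1
  have h2 : (χ : G → ℂ) 1 = 1 := by rw [← charDegree_cast_irr, h1, Nat.cast_one]
  obtain ⟨f, hf⟩ := Cfsg.Agent.Characters.Linear.exists_hom_of_isIrrCharacter χ.2 h2
  rw [hf] at h
  exact (f g).ne_zero h

theorem one_le_zc [Finite G] {χ : IrrCharacter G} (h : charDegree (χ : G → ℂ) ≠ 1) :
    1 ≤ zc χ := by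
  obtain ⟨n, ρ, hρ, hχ⟩ := χ.2
  have h1 : Module.finrank ℂ (Fin n → ℂ) = charDegree (χ : G → ℂ) := by
    have := charDegree_cast_irr χ
    rw [← hχ, Representation.char_one, hχ] at this
    exact_mod_cast this.symm
  have hpos : 0 < charDegree (χ : G → ℂ) := by
    obtain ⟨k, hk, hk'⟩ := isIrr_apply_one χ.2
    rw [← charDegree_cast_irr] at hk'
    have : charDegree (χ : G → ℂ) = k := by exact_mod_cast hk'
    omega
  obtain ⟨g, hg⟩ := Cfsg.Agent.S0191.result ρ (by omega)
  have : Finite {c : ConjClasses G // ∀ g : G, ConjClasses.mk g = c → (χ : G → ℂ) g = 0} :=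
    inferInstance
  refine Nat.one_le_iff_ne_zero.2 ?_
  rw [zc, Nat.card_ne_zero]
  refine ⟨⟨⟨ConjClasses.mk g, fun h hh => ?_⟩⟩, inferInstance⟩
  rw [apply_eq_of_mk (isIrr_isCharacter χ.2) hh, ← hχ, hg]

theorem le_zc [Finite G] {χ : IrrCharacter G} {s : Finset G} (hs : NonConj s)
    (hz : ∀ g ∈ s, (χ : G → ℂ) g = 0) : s.card ≤ zc χ := by
  classical
  let f : s → {c : ConjClasses G // ∀ g : G, ConjClasses.mk g = c → (χ : G → ℂ) g = 0} :=
    fun g => ⟨ConjClasses.mk (g : G), fun h hh => by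
      rw [apply_eq_of_mk (isIrr_isCharacter χ.2) hh]
      exact hz g g.2⟩
  have hf : Function.Injective f := by
    intro a b hab
    have h1 : ConjClasses.mk (a : G) = ConjClasses.mk (b : G) := congrArg Subtype.val hab
    exact Subtype.ext (hs a a.2 b b.2 (ConjClasses.mk_eq_mk_iff_isConj.1 h1))
  have h2 := Nat.card_le_card_of_injective f hf
  rwa [Nat.card_eq_fintype_card, Fintype.card_coe] at h2

open Classical in
theorem card_ZP [Finite G] [Fintype (IrrCharacter G)] :
    Nat.card (ZP G) = ∑ χ ∈ Finset.univ.filter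
      (fun χ : IrrCharacter G => charDegree (χ : G → ℂ) ≠ 1), zc χ := by
  have e : ZP G ≃ Σ χ : NL G,
      {c : ConjClasses G // ∀ g : G, ConjClasses.mk g = c → ((χ : IrrCharacter G) : G → ℂ) g = 0} :=
    { toFun := fun x => ⟨⟨x.1.1, x.2.1⟩, ⟨x.1.2, x.2.2⟩⟩
      invFun := fun y => ⟨(y.1.1, y.2.1), y.1.2, y.2.2⟩
      left_inv := fun x => rfl
      right_inv := fun y => rfl }
  rw [Nat.card_congr e, Nat.card_sigma]
  exact (Finset.sum_subtype (Finset.univ.filter
      (fun χ : IrrCharacter G => charDegree (χ : G → ℂ) ≠ 1)) (by simp) (fun χ => zc χ)).symm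

open Classical in
theorem card_NL [Finite G] [Fintype (IrrCharacter G)] :
    Nat.card (NL G) = (Finset.univ.filter
      (fun χ : IrrCharacter G => charDegree (χ : G → ℂ) ≠ 1)).card := by
  rw [Nat.card_eq_fintype_card, Fintype.card_subtype]

/-- rows: it is enough to find non-linear characters with many zeros -/
theorem big_of_sum [Finite G] (Z : Finset (IrrCharacter G)) (b : IrrCharacter G → ℕ)
    (hZ : ∀ χ ∈ Z, charDegree (χ : G → ℂ) ≠ 1) (hb : ∀ χ ∈ Z, b χ ≤ zc χ)
    (hsum : 8 ≤ ∑ χ ∈ Z, (b χ - 1)) : Big G := by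
  classical
  have := finite_irr (G := G)
  have := Fintype.ofFinite (IrrCharacter G)
  unfold Big
  rw [card_ZP, card_NL, Finset.card_eq_sum_ones]
  have h1 : ∑ χ ∈ Finset.univ.filter (fun χ : IrrCharacter G => charDegree (χ : G → ℂ) ≠ 1),
      zc χ = ∑ χ ∈ Finset.univ.filter
        (fun χ : IrrCharacter G => charDegree (χ : G → ℂ) ≠ 1), 1 +
      ∑ χ ∈ Finset.univ.filter (fun χ : IrrCharacter G => charDegree (χ : G → ℂ) ≠ 1),
        (zc χ - 1) := by
    rw [← Finset.sum_add_distrib]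
    refine Finset.sum_congr rfl fun χ hχ => ?_
    have := one_le_zc (Finset.mem_filter.1 hχ).2
    omega
  rw [h1, add_comm 8]
  refine Nat.add_le_add_left (hsum.trans ?_) _
  refine le_trans (Finset.sum_le_sum fun χ hχ => Nat.sub_le_sub_right (hb χ hχ) 1) ?_
  refine Finset.sum_le_sum_of_subset_of_nonneg (fun χ hχ => ?_) fun _ _ _ => Nat.zero_le _
  exact Finset.mem_filter.2 ⟨Finset.mem_univ _, hZ χ hχ⟩

/-- one irreducible character with nine zeros -/
theorem big_of_row [Finite G] (χ : IrrCharacter G) (s : Finset G) (hs : NonConj s)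
    (hz : ∀ g ∈ s, (χ : G → ℂ) g = 0) (hcard : 9 ≤ s.card) : Big G := by
  classical
  have hne : s.Nonempty := Finset.card_pos.1 (by omega)
  obtain ⟨g, hg⟩ := hne
  refine big_of_sum {χ} (fun _ => s.card) ?_ ?_ ?_
  · intro ψ hψ
    rw [Finset.mem_singleton] at hψ
    rw [hψ]
    exact nonlinear_of_zero (hz g hg)
  · intro ψ hψ
    rw [Finset.mem_singleton] at hψ
    rw [hψ]
    exact le_zc hs hz
  · rw [Finset.sum_singleton]
    omega

/-- a `p`-defect zero character and nine classes of `p`-singular elements -/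
theorem big_of_dz [Finite G] {p : ℕ} [Fact p.Prime] (h : Cfsg.Agent.H665.NoPQ.HasDZ p G)
    (s : Finset G) (hs : NonConj s) (hp : ∀ g ∈ s, p ∣ orderOf g) (hcard : 9 ≤ s.card) :
    Big G := by
  obtain ⟨χ, hχ⟩ := h
  exact big_of_row χ s hs (fun g hg => Cfsg.Agent.H713.irr_zero_of_singular hχ (hp g hg)) hcard

/-! ### Transfer along isomorphisms -/

theorem charDegree_comp {H : Type v} [Group H] (e : G ≃* H) (χ : H → ℂ) :
    charDegree (χ ∘ e) = charDegree χ := by
  rw [Cfsg.Agent.Blocks.Basic.charDegree_def, Cfsg.Agent.Blocks.Basic.charDegree_def]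
  simp

/-- transport of classes -/
noncomputable def ccEquiv {H : Type v} [Group H] (e : G ≃* H) : ConjClasses G ≃ ConjClasses H where
  toFun := ConjClasses.map e.toMonoidHom
  invFun := ConjClasses.map e.symm.toMonoidHom
  left_inv c := by
    obtain ⟨a, rfl⟩ := Quotient.exists_rep c
    exact congrArg ConjClasses.mk (e.symm_apply_apply a)
  right_inv c := by
    obtain ⟨a, rfl⟩ := Quotient.exists_rep c
    exact congrArg ConjClasses.mk (e.apply_symm_apply a)

theorem ccEquiv_mk {H : Type v} [Group H] (e : G ≃* H) (g : G) :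
    ccEquiv e (ConjClasses.mk g) = ConjClasses.mk (e g) := rfl

/-- transport of irreducible characters -/
noncomputable def irrEquiv {H : Type v} [Group H] (e : G ≃* H) : IrrCharacter H ≃ IrrCharacter G where
  toFun χ := ⟨(χ : H → ℂ) ∘ e, isIrr_comp (e : G →* H) e.surjective χ.2⟩
  invFun χ := ⟨(χ : G → ℂ) ∘ e.symm, isIrr_comp (e.symm : H →* G) e.symm.surjective χ.2⟩
  left_inv χ := Subtype.ext (funext fun g => by simp)
  right_inv χ := Subtype.ext (funext fun g => by simp)

theorem Big.of_equiv {H : Type v} [Group H] (e : G ≃* H) (h : Big H) : Big G := by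
  have h1 : Nat.card (NL G) = Nat.card (NL H) := by
    refine Nat.card_congr (Equiv.subtypeEquiv (irrEquiv e).symm fun χ => ?_)
    have := charDegree_comp e.symm (χ : G → ℂ)
    show charDegree (χ : G → ℂ) ≠ 1 ↔ charDegree ((χ : G → ℂ) ∘ e.symm) ≠ 1
    rw [this]
  have h2 : Nat.card (ZP G) = Nat.card (ZP H) := by
    refine Nat.card_congr (Equiv.subtypeEquiv ((irrEquiv e).symm.prodCongr
      (ccEquiv e)) fun x => ?_)
    have h3 := charDegree_comp e.symm (x.1 : G → ℂ)
    show (charDegree (x.1 : G → ℂ) ≠ 1 ∧ ∀ g : G, ConjClasses.mk g = x.2 → (x.1 : G → ℂ) g = 0) ↔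
      (charDegree ((x.1 : G → ℂ) ∘ e.symm) ≠ 1 ∧
        ∀ g : H, ConjClasses.mk g = ccEquiv e x.2 → (x.1 : G → ℂ) (e.symm g) = 0)
    rw [h3]
    refine and_congr_right fun _ => ?_
    constructor
    · intro h4 g hg
      apply h4
      apply (ccEquiv e).injective
      rw [ccEquiv_mk, e.apply_symm_apply, hg]
    · intro h4 g hg
      have := h4 (e g) (by rw [← ccEquiv_mk, hg])
      rwa [e.symm_apply_apply] at this
  unfold Big
  rw [h1, h2]
  exact h

/-! ### Columns -/

/-- the number of irreducible characters that do not vanish at `x` -/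
noncomputable def nv (x : G) : ℕ := Nat.card {χ : IrrCharacter G // (χ : G → ℂ) x ≠ 0}

theorem pow_congr_zmod [Finite G] (x : G) {a b : ℕ}
    (h : (a : ZMod (Nat.card G)) = (b : ZMod (Nat.card G))) : x ^ a = x ^ b := by
  rw [ZMod.natCast_eq_natCast_iff] at h
  exact (pow_eq_pow_iff_modEq).2 (h.of_dvd (orderOf_dvd_natCard x))

theorem card_centralizer_pow [Finite G] (x : G) {m : ℕ} (hm : m.Coprime (Nat.card G)) :
    Nat.card (Subgroup.centralizer ({x ^ m} : Set G)) =
      Nat.card (Subgroup.centralizer ({x} : Set G)) := by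
  have h : Subgroup.centralizer ({x ^ m} : Set G) = Subgroup.centralizer ({x} : Set G) := by
    apply le_antisymm
    · intro g hg
      rw [Subgroup.mem_centralizer_iff] at hg ⊢
      intro y hy
      rw [Set.mem_singleton_iff] at hy
      subst hy
      have h1 : Commute (y ^ m) g := hg _ rfl
      have hm' : m.Coprime (orderOf y) := hm.coprime_dvd_right (orderOf_dvd_natCard y)
      obtain ⟨k, hk⟩ := exists_pow_eq_self_of_coprime hm'
      rw [← hk]
      exact (h1.pow_left k).eq
    · intro g hg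
      rw [Subgroup.mem_centralizer_iff] at hg ⊢
      intro y hy
      rw [Set.mem_singleton_iff] at hy
      subst hy
      have h1 : Commute x g := hg _ rfl
      exact (h1.pow_left m).eq
  rw [h]

/-- at most `|C_G(x)|` irreducible characters do not vanish at `x` -/
theorem nv_le_card_centralizer [Finite G] (x : G) :
    nv x ≤ Nat.card (Subgroup.centralizer ({x} : Set G)) := by
  classical
  have := finite_irr (G := G)
  have := Fintype.ofFinite (IrrCharacter G)
  set n := Nat.card G with hn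
  have hn0 : n ≠ 0 := Nat.card_pos.ne'
  have : NeZero n := ⟨hn0⟩
  let N : Finset (IrrCharacter G) := Finset.univ.filter fun χ => (χ : G → ℂ) x ≠ 0
  have hN : nv x = N.card := by
    rw [nv, Nat.card_eq_fintype_card, Fintype.card_subtype]
  let ex : (ZMod n)ˣ → ℕ := fun j => (j : ZMod n).val
  have hex : ∀ j, (ex j).Coprime n := fun j => ZMod.val_coe_unit_coprime j
  -- the product
  set P : ℂ := ∏ j : (ZMod n)ˣ, ∏ χ ∈ N, (χ : G → ℂ) (x ^ ex j) with hP
  have hne : ∀ j, ∀ χ ∈ N, (χ : G → ℂ) (x ^ ex j) ≠ 0 := by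
    intro j χ hχ
    obtain ⟨σ, hσ⟩ := exists_ringEquiv_of_coprime (G := G) (hex j)
    rw [← hσ χ (isIrr_isCharacter χ.2) x]
    exact fun h => (Finset.mem_filter.1 hχ).2 ((map_eq_zero σ).1 h)
  have hP0 : P ≠ 0 :=
    Finset.prod_ne_zero_iff.2 fun j _ => Finset.prod_ne_zero_iff.2 fun χ hχ => hne j χ hχ
  have hPint : IsIntegral ℤ P := IsIntegral.prod _ fun j _ => IsIntegral.prod _ fun χ _ =>
    isIntegral_apply (isIrr_isCharacter χ.2) _
  have hfix : ∀ σ : ℂ ≃+* ℂ, σ P = P := by
    intro σ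
    obtain ⟨m, hm, hσ⟩ := exists_pow_of_ringEquiv (G := G) σ
    let u : (ZMod n)ˣ := ZMod.unitOfCoprime m hm
    rw [hP, map_prod]
    refine Fintype.prod_equiv (Equiv.mulRight u) _ _ fun j => ?_
    rw [map_prod]
    refine Finset.prod_congr rfl fun χ _ => ?_
    rw [hσ χ (isIrr_isCharacter χ.2), ← pow_mul]
    refine congrArg (χ : G → ℂ) (pow_congr_zmod x ?_)
    show ((ex j * m : ℕ) : ZMod n) = ((ex (j * u) : ℕ) : ZMod n)
    simp only [ex, u, Nat.cast_mul, ZMod.natCast_val, ZMod.cast_id', id_eq, Units.val_mul,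
      ZMod.coe_unitOfCoprime]
  obtain ⟨k, hk⟩ := Cfsg.Agent.Characters.Galois.exists_int_of_forall_ringEquiv hPint hfix
  have hk0 : k ≠ 0 := by
    rintro rfl
    exact hP0 (by rw [hk]; simp)
  have hPnorm : 1 ≤ ‖P‖ := by
    rw [hk, Complex.norm_intCast]
    exact_mod_cast Int.one_le_abs hk0
  have hpos : ∀ j, ∀ χ ∈ N, 0 < ‖(χ : G → ℂ) (x ^ ex j)‖ ^ 2 := fun j χ hχ => by
    have := norm_pos_iff.mpr (hne j χ hχ)
    positivity
  have hAG : ((Fintype.card (ZMod n)ˣ : ℝ) * N.card) ≤
      ∑ j : (ZMod n)ˣ, ∑ χ ∈ N, ‖(χ : G → ℂ) (x ^ ex j)‖ ^ 2 := by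
    have h1 : ∑ j : (ZMod n)ˣ, ∑ χ ∈ N, (Real.log (‖(χ : G → ℂ) (x ^ ex j)‖ ^ 2) + 1) ≤
        ∑ j : (ZMod n)ˣ, ∑ χ ∈ N, ‖(χ : G → ℂ) (x ^ ex j)‖ ^ 2 := by
      refine Finset.sum_le_sum fun j _ => Finset.sum_le_sum fun χ hχ => ?_
      have := Real.log_le_sub_one_of_pos (hpos j χ hχ)
      linarith
    have h2 : 0 ≤ ∑ j : (ZMod n)ˣ, ∑ χ ∈ N, Real.log (‖(χ : G → ℂ) (x ^ ex j)‖ ^ 2) := by
      have h3 : ∀ j : (ZMod n)ˣ, ∑ χ ∈ N, Real.log (‖(χ : G → ℂ) (x ^ ex j)‖ ^ 2) =
          2 * Real.log ‖∏ χ ∈ N, (χ : G → ℂ) (x ^ ex j)‖ := by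
        intro j
        rw [norm_prod, Real.log_prod (fun χ hχ => (norm_pos_iff.mpr (hne j χ hχ)).ne'),
          Finset.mul_sum]
        refine Finset.sum_congr rfl fun χ _ => ?_
        rw [Real.log_pow]
        norm_num
      rw [Finset.sum_congr rfl fun j _ => h3 j, ← Finset.mul_sum, ← Real.log_prod, ← norm_prod]
      · exact mul_nonneg zero_le_two (Real.log_nonneg hPnorm)
      · intro j _
        exact (norm_pos_iff.mpr (Finset.prod_ne_zero_iff.2 fun χ hχ => hne j χ hχ)).ne'
    simp only [Finset.sum_add_distrib, Finset.sum_const, nsmul_eq_mul, mul_one,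
      Finset.card_univ] at h1
    linarith
  have hup : ∑ j : (ZMod n)ˣ, ∑ χ ∈ N, ‖(χ : G → ℂ) (x ^ ex j)‖ ^ 2 ≤
      (Fintype.card (ZMod n)ˣ : ℝ) * Nat.card (Subgroup.centralizer ({x} : Set G)) := by
    rw [← nsmul_eq_mul, ← Finset.card_univ, ← Finset.sum_const]
    refine Finset.sum_le_sum fun j _ => ?_
    rw [← card_centralizer_pow x (hex j), ← sum_norm_sq]
    exact Finset.sum_le_sum_of_subset_of_nonneg (Finset.filter_subset _ _) fun _ _ _ =>
      sq_nonneg _
  have hfin := hAG.trans hup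
  have hJ : (0 : ℝ) < Fintype.card (ZMod n)ˣ := by exact_mod_cast Fintype.card_pos
  rw [hN]
  exact_mod_cast le_of_mul_le_mul_left hfin hJ

theorem card_NL_lt [Finite G] : Nat.card (NL G) + 1 ≤ Nat.card (ConjClasses G) := by
  classical
  have := finite_irr (G := G)
  have := Fintype.ofFinite (IrrCharacter G)
  rw [← card_irr, card_NL, Nat.card_eq_fintype_card, ← Finset.card_univ]
  have h1 : (⟨1, isIrr_one⟩ : IrrCharacter G) ∉ Finset.univ.filter
      (fun χ : IrrCharacter G => charDegree (χ : G → ℂ) ≠ 1) := by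
    intro h
    apply (Finset.mem_filter.1 h).2
    have := charDegree_cast_irr (⟨1, isIrr_one⟩ : IrrCharacter G)
    have h2 : (charDegree ((⟨1, isIrr_one⟩ : IrrCharacter G) : G → ℂ) : ℂ) = 1 := this
    exact_mod_cast h2
  rw [← Finset.card_insert_of_notMem h1]
  exact Finset.card_le_card (Finset.subset_univ _)

/-- the number of irreducible characters vanishing at `x` -/
theorem card_zero_add_nv [Finite G] (x : G) :
    Nat.card {χ : IrrCharacter G // (χ : G → ℂ) x = 0} + nv x = Nat.card (ConjClasses G) := by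
  classical
  have := finite_irr (G := G)
  have := Fintype.ofFinite (IrrCharacter G)
  rw [← card_irr, nv, Nat.card_eq_fintype_card, Nat.card_eq_fintype_card, Nat.card_eq_fintype_card,
    Fintype.card_subtype, Fintype.card_subtype, ← Finset.card_univ (α := IrrCharacter G)]
  exact Finset.card_filter_add_card_filter_not (s := Finset.univ)
    (fun χ : IrrCharacter G => (χ : G → ℂ) x = 0)

theorem le_card_ZP [Finite G] (s : Finset G) (hs : NonConj s) :
    s.card * Nat.card (ConjClasses G) ≤ Nat.card (ZP G) + ∑ g ∈ s, nv g := by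
  classical
  have := finite_irr (G := G)
  have := Fintype.ofFinite (IrrCharacter G)
  let f : (Σ g : s, {χ : IrrCharacter G // (χ : G → ℂ) g = 0}) → ZP G := fun y =>
    ⟨(y.2.1, ConjClasses.mk (y.1 : G)), nonlinear_of_zero y.2.2, fun h hh => by
      rw [apply_eq_of_mk (isIrr_isCharacter y.2.1.2) hh]
      exact y.2.2⟩
  have hf : Function.Injective f := by
    rintro ⟨a, χ, hχ⟩ ⟨b, ψ, hψ⟩ hab
    have h1 := congrArg Subtype.val hab
    have h2 : χ = ψ := congrArg Prod.fst h1
    have h3 : ConjClasses.mk (a : G) = ConjClasses.mk (b : G) := congrArg Prod.snd h1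
    have h4 : a = b := Subtype.ext (hs a a.2 b b.2 (ConjClasses.mk_eq_mk_iff_isConj.1 h3))
    subst h2 h4
    rfl
  have : Finite (ZP G) := inferInstance
  have h1 := Nat.card_le_card_of_injective f hf
  rw [Nat.card_sigma] at h1
  have h2 : s.card * Nat.card (ConjClasses G) =
      ∑ g : s, Nat.card {χ : IrrCharacter G // (χ : G → ℂ) g = 0} + ∑ g ∈ s, nv g := by
    rw [← Finset.sum_coe_sort s (fun g => nv g), ← Finset.sum_add_distrib]
    have h3 : ∀ g : s, Nat.card {χ : IrrCharacter G // (χ : G → ℂ) g = 0} + nv (g : G) =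
        Nat.card (ConjClasses G) := fun g => card_zero_add_nv (g : G)
    rw [Finset.sum_congr rfl fun g _ => h3 g, Finset.sum_const, Finset.card_univ,
      Fintype.card_coe, smul_eq_mul]
  omega

/-- **Columns**: non-conjugate elements `g ∈ s` at which at most `f g` irreducible characters do
not vanish, and `k ≤ #classes` with `7 + ∑ f g ≤ (#s - 1) k`. -/
theorem big_of_cols [Finite G] (s : Finset G) (hs : NonConj s) (f : G → ℕ)
    (hf : ∀ g ∈ s, nv g ≤ f g) (k : ℕ) (hk : k ≤ Nat.card (ConjClasses G)) (hs1 : 1 ≤ s.card)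
    (h : 7 + ∑ g ∈ s, f g ≤ (s.card - 1) * k) : Big G := by
  have h1 := le_card_ZP s hs
  have h2 := Finset.sum_le_sum hf
  have h3 := card_NL_lt (G := G)
  obtain ⟨c, hc⟩ : ∃ c, s.card = c + 1 := ⟨s.card - 1, by omega⟩
  rw [hc, Nat.add_sub_cancel] at h
  rw [hc, Nat.succ_mul] at h1
  have h4 := Nat.mul_le_mul_left c hk
  unfold Big
  omega

/-! ### The `TI`-lemma -/

theorem nv_le_of_cc [Finite G] {A : Subgroup G} (hA : CC A) {m : ℕ} (hm : 2 ≤ m)
    (hem : Nat.card A = eIdx A * m + 1) {a : G} (ha : a ∈ A) (ha1 : a ≠ 1) :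
    nv a ≤ eIdx A + m := by
  refine le_trans ?_ (hA.ncard_NV_le hm hem)
  have := finite_irr (G := G)
  exact Set.ncard_le_ncard (s := {χ : IrrCharacter G | (χ : G → ℂ) a ≠ 0})
    (fun χ hχ => ⟨a, ha, ha1, hχ⟩) (Set.toFinite _)

/-- representatives of the classes meeting `A#` -/
theorem exists_reps [Finite G] {A : Subgroup G} (hA : CC A) {m : ℕ}
    (hem : Nat.card A = eIdx A * m + 1) :
    ∃ s : Finset G, NonConj s ∧ s.card = m ∧ ∀ g ∈ s, g ∈ A ∧ g ≠ 1 := by
  classical
  have := Fintype.ofFinite A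
  have he0 : 0 < eIdx A := Nat.pos_of_ne_zero Subgroup.index_ne_zero_of_finite
  let D : Finset A := Finset.univ.erase 1
  let C : Finset (ConjClasses G) := D.image fun a : A => ConjClasses.mk (a : G)
  have hC : C.card = m := by
    have h1 := Finset.card_eq_sum_card_image (fun a : A => ConjClasses.mk (a : G)) D
    have h2 : ∀ c ∈ D.image (fun a : A => ConjClasses.mk (a : G)),
        (D.filter fun a : A => ConjClasses.mk (a : G) = c).card = eIdx A := by
      intro c hc
      obtain ⟨a, ha, rfl⟩ := Finset.mem_image.1 hc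
      have ha1 : a ≠ 1 := Finset.ne_of_mem_erase ha
      rw [← hA.card_conj ha1, Nat.card_eq_fintype_card, Fintype.card_subtype]
      congr 1
      ext b
      rw [Finset.mem_filter, Finset.mem_filter, ConjClasses.mk_eq_mk_iff_isConj]
      constructor
      · rintro ⟨-, h⟩
        exact ⟨Finset.mem_univ _, h.symm⟩
      · rintro ⟨-, h⟩
        refine ⟨Finset.mem_erase.2 ⟨?_, Finset.mem_univ _⟩, h.symm⟩
        rintro rfl
        rw [OneMemClass.coe_one, isConj_one_left] at h
        exact ha1 (Subtype.ext h)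
    rw [Finset.sum_congr rfl h2, Finset.sum_const, smul_eq_mul,
      Finset.card_erase_of_mem (Finset.mem_univ _), Finset.card_univ,
      ← Nat.card_eq_fintype_card, hem, Nat.add_sub_cancel, mul_comm] at h1
    exact (Nat.eq_of_mul_eq_mul_right he0 h1).symm
  have hex : ∀ c ∈ C, ∃ a : G, a ∈ A ∧ a ≠ 1 ∧ ConjClasses.mk a = c := by
    intro c hc
    obtain ⟨a, ha, rfl⟩ := Finset.mem_image.1 hc
    exact ⟨a, a.2, fun h => Finset.ne_of_mem_erase ha (Subtype.ext h), rfl⟩
  choose r hr1 hr2 hr3 using hex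
  refine ⟨C.attach.image fun c => r c.1 c.2, ?_, ?_, ?_⟩
  · intro g hg h hh hconj
    obtain ⟨c, -, rfl⟩ := Finset.mem_image.1 hg
    obtain ⟨d, -, rfl⟩ := Finset.mem_image.1 hh
    have h1 := ConjClasses.mk_eq_mk_iff_isConj.2 hconj
    rw [hr3, hr3] at h1
    have h2 : c = d := Subtype.ext h1
    rw [h2]
  · rw [Finset.card_image_of_injective, Finset.card_attach, hC]
    intro c d hcd
    apply Subtype.ext
    rw [← hr3 c.1 c.2, ← hr3 d.1 d.2]
    exact congrArg _ hcd
  · intro g hg
    obtain ⟨c, -, rfl⟩ := Finset.mem_image.1 hg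
    exact ⟨hr1 _ _, hr2 _ _⟩

/-- families of sets of classes on which many characters vanish -/
theorem big_of_family [Finite G] {ι : Type*} [DecidableEq ι] (I : Finset ι) (s : ι → Finset G)
    (hs : ∀ i ∈ I, ∀ j ∈ I, ∀ g ∈ s i, ∀ h ∈ s j, IsConj g h → i = j ∧ g = h)
    (Z : ι → Set (IrrCharacter G)) (hZ : ∀ i ∈ I, ∀ χ ∈ Z i, ∀ g ∈ s i, (χ : G → ℂ) g = 0)
    (h : 8 ≤ ∑ i ∈ I, ((s i).card - 1) * (Z i).ncard) : Big G := by
  classical
  have := finite_irr (G := G)
  have := Fintype.ofFinite (IrrCharacter G)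
  -- discard the indices with empty `s i`
  let J : Finset ι := I.filter fun i => (s i).Nonempty
  have hJ : ∑ i ∈ I, ((s i).card - 1) * (Z i).ncard = ∑ i ∈ J, ((s i).card - 1) * (Z i).ncard := by
    refine (Finset.sum_filter_of_ne fun i _ hi => ?_).symm
    by_contra h0
    rw [Finset.not_nonempty_iff_eq_empty] at h0
    apply hi
    rw [h0]
    simp
  rw [hJ] at h
  let b : IrrCharacter G → ℕ := fun χ => ∑ i ∈ J.filter (fun i => χ ∈ Z i), (s i).card
  let W : Finset (IrrCharacter G) := Finset.univ.filter fun χ => ∃ i ∈ J, χ ∈ Z i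
  refine big_of_sum W b ?_ ?_ ?_
  · intro χ hχ
    obtain ⟨-, i, hi, hχi⟩ := Finset.mem_filter.1 hχ
    obtain ⟨hiI, g, hg⟩ := Finset.mem_filter.1 hi
    exact nonlinear_of_zero (hZ i hiI χ hχi g hg)
  · intro χ _
    have h1 : ((J.filter (fun i => χ ∈ Z i)).biUnion s).card = b χ := by
      rw [Finset.card_biUnion]
      intro i hi j hj hij
      refine Finset.disjoint_left.2 ?_
      intro g hg hg'
      exact hij (hs i (Finset.mem_filter.1 (Finset.mem_filter.1 hi).1).1 j
        (Finset.mem_filter.1 (Finset.mem_filter.1 hj).1).1 g hg g hg' (IsConj.refl g)).1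
    rw [← h1]
    apply le_zc
    · intro g hg g' hg' hc
      obtain ⟨i, hi, hgi⟩ := Finset.mem_biUnion.1 hg
      obtain ⟨j, hj, hgj⟩ := Finset.mem_biUnion.1 hg'
      exact (hs i (Finset.mem_filter.1 (Finset.mem_filter.1 hi).1).1 j
        (Finset.mem_filter.1 (Finset.mem_filter.1 hj).1).1 g hgi g' hgj hc).2
    · intro g hg
      obtain ⟨i, hi, hgi⟩ := Finset.mem_biUnion.1 hg
      exact hZ i (Finset.mem_filter.1 (Finset.mem_filter.1 hi).1).1 χ
        (Finset.mem_filter.1 hi).2 g hgi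
  · refine h.trans ?_
    have h1 : ∀ i ∈ J, ((s i).card - 1) * (Z i).ncard =
        ∑ χ : IrrCharacter G, if χ ∈ Z i then (s i).card - 1 else 0 := by
      intro i _
      rw [← Finset.sum_filter, Finset.sum_const, smul_eq_mul, mul_comm]
      congr 1
      rw [← Set.ncard_coe_finset]
      congr 1
      ext χ
      simp
    rw [Finset.sum_congr rfl h1, Finset.sum_comm]
    have h2 : ∑ χ : IrrCharacter G, ∑ i ∈ J, (if χ ∈ Z i then (s i).card - 1 else 0) =
        ∑ χ ∈ W, ∑ i ∈ J, (if χ ∈ Z i then (s i).card - 1 else 0) := by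
      refine (Finset.sum_filter_of_ne fun χ _ hχ => ?_).symm
      by_contra h0
      push Not at h0
      apply hχ
      exact Finset.sum_eq_zero fun i hi => if_neg (h0 i hi)
    rw [h2]
    refine Finset.sum_le_sum fun χ hχ => ?_
    rw [← Finset.sum_filter]
    obtain ⟨-, i, hi, hχi⟩ := Finset.mem_filter.1 hχ
    have hmem : i ∈ J.filter (fun i => χ ∈ Z i) := Finset.mem_filter.2 ⟨hi, hχi⟩
    show _ ≤ (∑ i ∈ J.filter (fun i => χ ∈ Z i), (s i).card) - 1
    rw [← Finset.add_sum_erase _ _ hmem, ← Finset.add_sum_erase _ (fun i => (s i).card) hmem]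
    have h3 : ∑ j ∈ (J.filter (fun i => χ ∈ Z i)).erase i, ((s j).card - 1) ≤
        ∑ j ∈ (J.filter (fun i => χ ∈ Z i)).erase i, (s j).card :=
      Finset.sum_le_sum fun j _ => Nat.sub_le _ _
    have h4 : 1 ≤ (s i).card := Finset.card_pos.2 (Finset.mem_filter.1 hi).2
    omega

theorem le_ncard_compl [Finite G] {A : Subgroup G} (hA : CC A) {e m k : ℕ} (he : eIdx A = e)
    (hm : 2 ≤ m) (hem : Nat.card A = e * m + 1) (hk : k ≤ Nat.card (ConjClasses G)) :
    k - (e + m) ≤ ((NV A)ᶜ : Set (IrrCharacter G)).ncard := by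
  have := finite_irr (G := G)
  have h1 := Set.ncard_add_ncard_compl (NV A : Set (IrrCharacter G))
  have h2 := hA.ncard_NV_le hm (by rw [he]; exact hem)
  rw [card_irr] at h1
  rw [he] at h2
  omega

theorem apply_eq_zero_of_compl {A : Subgroup G} {χ : IrrCharacter G}
    (h : χ ∈ ((NV A)ᶜ : Set (IrrCharacter G))) {a : G} (ha : a ∈ A) (ha1 : a ≠ 1) :
    (χ : G → ℂ) a = 0 := by
  by_contra h0
  exact h ⟨a, ha, ha1, h0⟩

/-- **One abelian subgroup** `A` with `C_G(a) = A` for `1 ≠ a ∈ A`, `|N_G(A) : A| = e`,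
`|A| = e m + 1`, `m ≥ 2` and `(m - 1)(k - e - m) ≥ 8` for some `k ≤ #classes`. -/
theorem big_of_ti [Finite G] {A : Subgroup G} (hA : CC A) {e m k : ℕ} (he : eIdx A = e)
    (hm : 2 ≤ m) (hem : Nat.card A = e * m + 1) (hk : k ≤ Nat.card (ConjClasses G))
    (h : 8 ≤ (m - 1) * (k - (e + m))) : Big G := by
  obtain ⟨s, hs, hsc, hsA⟩ := exists_reps (m := m) hA (by rw [he]; exact hem)
  refine big_of_family (ι := Unit) {()} (fun _ => s) ?_ (fun _ => (NV A)ᶜ) ?_ ?_
  · intro _ _ _ _ g hg h hh hc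
    exact ⟨rfl, hs g hg h hh hc⟩
  · intro _ _ χ hχ g hg
    exact apply_eq_zero_of_compl hχ (hsA g hg).1 (hsA g hg).2
  · rw [Finset.sum_singleton, hsc]
    exact h.trans (Nat.mul_le_mul_left _ (le_ncard_compl hA he hm hem hk))

/-- **Two abelian subgroups** of coprime orders as in `big_of_ti`. -/
theorem big_of_ti2 [Finite G] {A B : Subgroup G} (hA : CC A) (hB : CC B)
    (hcop : (Nat.card A).Coprime (Nat.card B)) {e m e' m' k : ℕ} (he : eIdx A = e)
    (hm : 2 ≤ m) (hem : Nat.card A = e * m + 1) (he' : eIdx B = e') (hm' : 2 ≤ m')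
    (hem' : Nat.card B = e' * m' + 1) (hk : k ≤ Nat.card (ConjClasses G))
    (h : 8 ≤ (m - 1) * (k - (e + m)) + (m' - 1) * (k - (e' + m'))) : Big G := by
  obtain ⟨s, hs, hsc, hsA⟩ := exists_reps (m := m) hA (by rw [he]; exact hem)
  obtain ⟨s', hs', hsc', hsB⟩ := exists_reps (m := m') hB (by rw [he']; exact hem')
  have hne : ∀ g ∈ s, ∀ h ∈ s', ¬ IsConj g h := by
    intro g hg h hh hc
    have h1 : orderOf g = orderOf h := by
      obtain ⟨c, rfl⟩ := isConj_iff.1 hc
      exact (MulAut.conj c).orderOf_eq g ▸ rfl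
    have h2 : orderOf g ∣ Nat.card A := by
      have := orderOf_dvd_natCard (⟨g, (hsA g hg).1⟩ : A)
      rwa [← Subgroup.orderOf_coe] at this
    have h3 : orderOf g ∣ Nat.card B := by
      have := orderOf_dvd_natCard (⟨h, (hsB h hh).1⟩ : B)
      rwa [← Subgroup.orderOf_coe, ← h1] at this
    have h4 := Nat.dvd_gcd h2 h3
    rw [hcop.gcd_eq_one, Nat.dvd_one, orderOf_eq_one_iff] at h4
    exact (hsA g hg).2 h4
  refine big_of_family (ι := Bool) Finset.univ (fun b => if b then s else s') ?_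
    (fun b => if b then (NV A)ᶜ else (NV B)ᶜ) ?_ ?_
  · intro i _ j _ g hg h hh hc
    cases i <;> cases j <;> simp only [if_true, if_false, Bool.false_eq_true] at hg hh
    · exact ⟨rfl, hs' g hg h hh hc⟩
    · exact absurd hc.symm (hne h hh g hg)
    · exact absurd hc (hne g hg h hh)
    · exact ⟨rfl, hs g hg h hh hc⟩
  · intro i _ χ hχ g hg
    cases i <;> simp only [if_true, if_false, Bool.false_eq_true] at hg hχ
    · exact apply_eq_zero_of_compl hχ (hsB g hg).1 (hsB g hg).2
    · exact apply_eq_zero_of_compl hχ (hsA g hg).1 (hsA g hg).2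
  · rw [Fintype.sum_bool]
    simp only [if_true, if_false, Bool.false_eq_true]
    rw [hsc, hsc']
    exact h.trans (Nat.add_le_add (Nat.mul_le_mul_left _ (le_ncard_compl hA he hm hem hk))
      (Nat.mul_le_mul_left _ (le_ncard_compl hB he' hm' hem' hk)))

/-! ### Subgroups of prime order -/

theorem eIdx_mul [Finite G] (A : Subgroup G) :
    Nat.card A * eIdx A = Nat.card (Subgroup.normalizer (A : Set G)) := by
  rw [eIdx, ← Subgroup.card_mul_index (A.subgroupOf (Subgroup.normalizer (A : Set G)))]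
  congr 1
  exact (Nat.card_congr (Subgroup.subgroupOfEquivOfLe Subgroup.le_normalizer).toEquiv).symm

theorem exists_m [Finite G] {A : Subgroup G} (hA : CC A) : ∃ m, Nat.card A = eIdx A * m + 1 := by
  obtain ⟨m, hm⟩ := hA.dvd
  refine ⟨m, ?_⟩
  have : 0 < Nat.card A := Nat.card_pos
  omega

/-- a self-centralizing element of prime order generates a `CC`-subgroup -/
theorem cc_of_prime [Finite G] {x : G} {r : ℕ} (hr : r.Prime) (hx : orderOf x = r)
    (hc : Nat.card (Subgroup.centralizer ({x} : Set G)) = r) : CC (Subgroup.zpowers x) := by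
  have hle : Subgroup.zpowers x ≤ Subgroup.centralizer ({x} : Set G) := by
    rw [Subgroup.zpowers_le, Subgroup.mem_centralizer_iff]
    intro y hy
    rw [Set.mem_singleton_iff] at hy
    rw [hy]
  have hfin : Finite (Subgroup.centralizer ({x} : Set G)) := inferInstance
  have heq : Subgroup.zpowers x = Subgroup.centralizer ({x} : Set G) :=
    Subgroup.eq_of_le_of_card_ge hle (by rw [hc, Nat.card_zpowers, hx])
  refine ⟨fun a ha b hb => ?_, fun a ha ha1 => ?_⟩
  · obtain ⟨i, rfl⟩ := Subgroup.mem_zpowers_iff.1 ha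
    obtain ⟨j, rfl⟩ := Subgroup.mem_zpowers_iff.1 hb
    rw [← zpow_add, ← zpow_add, add_comm]
  · -- `x` is a power of `a`
    have hxa : x ∈ Subgroup.zpowers a := by
      have h1 : Subgroup.zpowers a = Subgroup.zpowers x := by
        have h2 : Subgroup.zpowers a ≤ Subgroup.zpowers x := Subgroup.zpowers_le.2 ha
        have h3 := Subgroup.card_dvd_of_le h2
        rw [Nat.card_zpowers, Nat.card_zpowers, hx] at h3
        rcases (Nat.dvd_prime hr).1 h3 with h4 | h4
        · exact absurd (orderOf_eq_one_iff.1 h4) ha1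
        · exact Subgroup.eq_of_le_of_card_ge h2 (by
            rw [Nat.card_zpowers, Nat.card_zpowers, hx, h4])
      rw [h1]
      exact Subgroup.mem_zpowers x
    apply le_antisymm
    · rw [heq]
      intro g hg
      rw [Subgroup.mem_centralizer_iff] at hg ⊢
      intro y hy
      rw [Set.mem_singleton_iff] at hy
      subst hy
      obtain ⟨i, hi⟩ := Subgroup.mem_zpowers_iff.1 hxa
      have h5 : Commute a g := hg a rfl
      rw [← hi]
      exact (h5.zpow_left i).eq
    · intro g hg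
      rw [heq, Subgroup.mem_centralizer_iff] at hg
      rw [Subgroup.mem_centralizer_iff]
      intro y hy
      rw [Set.mem_singleton_iff] at hy
      subst hy
      obtain ⟨i, hi⟩ := Subgroup.mem_zpowers_iff.1 ha
      have h5 : Commute x g := hg x rfl
      rw [← hi]
      exact (h5.zpow_left i).eq

/-- **A self-centralizing subgroup of prime order** `r` with `|N_G(⟨x⟩)| = r e`. -/
theorem big_of_prime [Finite G] {x : G} {r e m k : ℕ} (hr : r.Prime) (hx : orderOf x = r)
    (hc : Nat.card (Subgroup.centralizer ({x} : Set G)) = r)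
    (hN : Nat.card (Subgroup.normalizer ((Subgroup.zpowers x : Subgroup G) : Set G)) = r * e)
    (hm : 2 ≤ m) (hem : r = e * m + 1) (hk : k ≤ Nat.card (ConjClasses G))
    (h : 8 ≤ (m - 1) * (k - (e + m))) : Big G := by
  have hA := cc_of_prime hr hx hc
  have hcard : Nat.card (Subgroup.zpowers x) = r := by rw [Nat.card_zpowers, hx]
  have he : eIdx (Subgroup.zpowers x) = e := by
    have h1 := eIdx_mul (Subgroup.zpowers x)
    rw [hcard, hN] at h1
    exact Nat.eq_of_mul_eq_mul_left hr.pos h1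
  exact big_of_ti hA he hm (by rw [hcard]; exact hem) hk h

/-- for a `CC`-subgroup `A`: if two non-identity elements of `A` are not conjugate, `m ≥ 2` -/
theorem two_le_m [Finite G] {A : Subgroup G} (hA : CC A) {m : ℕ}
    (hem : Nat.card A = eIdx A * m + 1) {a b : G} (ha : a ∈ A) (hb : b ∈ A) (ha1 : a ≠ 1)
    (hb1 : b ≠ 1) (hab : ¬ IsConj a b) : 2 ≤ m := by
  classical
  obtain ⟨s, hs, hsc, hsA⟩ := exists_reps hA hem
  by_contra hm
  push Not at hm
  have h1 : eIdx A = Nat.card {c : A // IsConj a (c : G)} :=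
    (hA.card_conj (a := ⟨a, ha⟩) fun h => ha1 (congrArg Subtype.val h)).symm
  have h2 : Nat.card {c : A // IsConj a (c : G)} < Nat.card {c : A // c ≠ 1} := by
    have hsub : {c : A | IsConj a (c : G)} ⊂ {c : A | c ≠ 1} := by
      refine ⟨fun c hc h => ?_, fun h => ?_⟩
      · have hc' : IsConj a (c : G) := hc
        have h' : c = 1 := h
        rw [h', OneMemClass.coe_one, isConj_one_left] at hc'
        exact ha1 hc'
      · exact hab (h (show (⟨b, hb⟩ : A) ≠ 1 from fun h => hb1 (congrArg Subtype.val h)))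
    exact Set.ncard_lt_ncard hsub (Set.toFinite _)
  have h3 : Nat.card {c : A // c ≠ 1} = Nat.card A - 1 := by
    have : Fintype A := Fintype.ofFinite A
    rw [Nat.card_eq_fintype_card, Nat.card_eq_fintype_card, Fintype.card_subtype_compl,
      Fintype.card_subtype_eq]
  rw [h3, ← h1, hem, Nat.add_sub_cancel] at h2
  have : m = 0 ∨ m = 1 := by omega
  rcases this with rfl | rfl <;> simp at h2

/-- for a `CC`-subgroup `A`: if two different non-identity elements of `A` are conjugate,
`e ≥ 2` -/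
theorem two_le_e [Finite G] {A : Subgroup G} (hA : CC A) {a b : G} (ha : a ∈ A) (hb : b ∈ A)
    (ha1 : a ≠ 1) (hne : a ≠ b) (hab : IsConj a b) : 2 ≤ eIdx A := by
  rw [← hA.card_conj (a := ⟨a, ha⟩) fun h => ha1 (congrArg Subtype.val h)]
  have : Nontrivial {c : A // IsConj (((⟨a, ha⟩ : A) : G)) (c : G)} :=
    ⟨⟨⟨⟨a, ha⟩, IsConj.refl a⟩, ⟨⟨b, hb⟩, hab⟩, fun h => hne
      (congrArg (fun y : {c : A // IsConj (((⟨a, ha⟩ : A) : G)) (c : G)} => ((y : A) : G)) h)⟩⟩
  exact Finite.one_lt_card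

/-- A self-centralizing subgroup of prime order whose automizer is only known to be neither
trivial nor the full automorphism group. -/
theorem big_of_prime' [Finite G] {x : G} {r k : ℕ} (hr : r.Prime) (hx : orderOf x = r)
    (hc : Nat.card (Subgroup.centralizer ({x} : Set G)) = r)
    (h1 : ∃ i : ℕ, x ^ i ≠ x ∧ IsConj x (x ^ i)) (h2 : ∃ j : ℕ, x ^ j ≠ 1 ∧ ¬ IsConj x (x ^ j))
    (hk : k ≤ Nat.card (ConjClasses G))
    (h : ∀ e ∈ Finset.range r, ∀ m ∈ Finset.range r, 2 ≤ e → 2 ≤ m → e * m + 1 = r →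
      8 ≤ (m - 1) * (k - (e + m))) : Big G := by
  have hA := cc_of_prime hr hx hc
  have hcard : Nat.card (Subgroup.zpowers x) = r := by rw [Nat.card_zpowers, hx]
  have hx1 : x ≠ 1 := by
    rintro rfl
    rw [orderOf_one] at hx
    exact hr.ne_one hx.symm
  have hxm : ∀ i : ℕ, x ^ i ∈ Subgroup.zpowers x := fun i => Subgroup.npow_mem_zpowers x i
  obtain ⟨m, hm⟩ := exists_m hA
  obtain ⟨i, hi, hi'⟩ := h1
  obtain ⟨j, hj, hj'⟩ := h2
  have he2 := two_le_e hA (Subgroup.mem_zpowers x) (hxm i) hx1 hi.symm hi'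
  have hm2 := two_le_m hA hm (Subgroup.mem_zpowers x) (hxm j) hx1 hj hj'
  refine big_of_ti hA rfl hm2 hm hk (h _ ?_ m ?_ he2 hm2 ?_)
  · rw [Finset.mem_range, ← hcard, hm]
    nlinarith
  · rw [Finset.mem_range, ← hcard, hm]
    nlinarith
  · rw [← hcard, hm]

/-- `m` classes inside `A#` and the classes outside -/
theorem m_add_card_le [Finite G] {A : Subgroup G} (hA : CC A) {m : ℕ}
    (hem : Nat.card A = eIdx A * m + 1) (t : Finset G) (ht : NonConj t)
    (hout : ∀ g ∈ t, ∀ a ∈ A, a ≠ 1 → ¬ IsConj g a) :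
    m + t.card ≤ Nat.card (ConjClasses G) := by
  classical
  obtain ⟨s, hs, hsc, hsA⟩ := exists_reps hA hem
  have hdisj : Disjoint s t := by
    refine Finset.disjoint_left.2 fun g hg hg' => ?_
    exact hout g hg' g (hsA g hg).1 (hsA g hg).2 (IsConj.refl g)
  have hst : NonConj (s ∪ t) := by
    intro g hg h hh hc
    rcases Finset.mem_union.1 hg with hg | hg <;> rcases Finset.mem_union.1 hh with hh | hh
    · exact hs g hg h hh hc
    · exact absurd hc.symm (hout h hh g (hsA g hg).1 (hsA g hg).2)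
    · exact absurd hc (hout g hg h (hsA h hh).1 (hsA h hh).2)
    · exact ht g hg h hh hc
  let f : (s ∪ t : Finset G) → ConjClasses G := fun g => ConjClasses.mk (g : G)
  have hf : Function.Injective f := fun a b hab =>
    Subtype.ext (hst a a.2 b b.2 (ConjClasses.mk_eq_mk_iff_isConj.1 hab))
  have h1 := Nat.card_le_card_of_injective f hf
  rw [Nat.card_eq_fintype_card, Fintype.card_coe, Finset.card_union_of_disjoint hdisj, hsc] at h1
  exact h1

/-- `big_of_ti` with a set `t` of non-conjugate elements not conjugate into `A#`: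
`(m - 1)(#t - e) ≥ 8`. -/
theorem big_of_ti_out [Finite G] {A : Subgroup G} (hA : CC A) {e m : ℕ} (he : eIdx A = e)
    (hm : 2 ≤ m) (hem : Nat.card A = e * m + 1) (t : Finset G) (ht : NonConj t)
    (hout : ∀ g ∈ t, ∀ a ∈ A, a ≠ 1 → ¬ IsConj g a) (h : 8 ≤ (m - 1) * (t.card - e)) : Big G := by
  refine big_of_ti hA he hm hem (m_add_card_le hA (by rw [he]; exact hem) t ht hout) ?_
  rwa [show m + t.card - (e + m) = t.card - e by omega]

/-- distinct orders give non-conjugate elements -/
theorem exists_of_orders [Finite G] (s : Finset ℕ) (h : ∀ n ∈ s, ∃ g : G, orderOf g = n) :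
    ∃ t : Finset G, NonConj t ∧ t.card = s.card ∧ ∀ g ∈ t, orderOf g ∈ s := by
  classical
  choose r hr using h
  refine ⟨s.attach.image fun n => r n.1 n.2, ?_, ?_, ?_⟩
  · intro g hg h hh hc
    obtain ⟨c, -, rfl⟩ := Finset.mem_image.1 hg
    obtain ⟨d, -, rfl⟩ := Finset.mem_image.1 hh
    have h1 : orderOf (r c.1 c.2) = orderOf (r d.1 d.2) := by
      obtain ⟨u, hu⟩ := isConj_iff.1 hc
      rw [← hu]
      exact ((MulAut.conj u).orderOf_eq _).symm
    rw [hr, hr] at h1
    rw [show c = d from Subtype.ext h1]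
  · rw [Finset.card_image_of_injective, Finset.card_attach]
    intro c d hcd
    apply Subtype.ext
    rw [← hr c.1 c.2, ← hr d.1 d.2]
    exact congrArg orderOf hcd
  · intro g hg
    obtain ⟨c, -, rfl⟩ := Finset.mem_image.1 hg
    rw [hr]
    exact c.2

/-- nine different orders of `p`-singular elements and a character of `p`-defect zero -/
theorem big_of_orders [Finite G] {p : ℕ} [Fact p.Prime] (h : Cfsg.Agent.H665.NoPQ.HasDZ p G)
    (s : Finset ℕ) (hs : ∀ n ∈ s, p ∣ n ∧ ∃ g : G, orderOf g = n) (hcard : 9 ≤ s.card) : Big G := by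
  obtain ⟨t, ht, htc, hto⟩ := exists_of_orders (G := G) s fun n hn => (hs n hn).2
  exact big_of_dz h t ht (fun g hg => (hs _ (hto g hg)).1) (by omega)

end Cfsg.Agent.H504.Zeros
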