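import Cfsg.Agent.H504.Zeros

/-!
# `CC`-subgroups: the automizer is determined by the index (S4895)

* `index_eq` : `|G : A| = (|A| t + 1) e`, so `e = |G : A| mod |A|` (`eIdx_eq_mod`).
* `big_of_index` : `Big G` from `|A|`, `|G|` and a class number bound.
* `big_of_isolated` : the same for a self-centralizing subgroup of prime order `r`.
-/

set_option autoImplicit false

namespace Cfsg.Agent.H504.Zeros

open Cfsg Cfsg.Agent.H504.ZeroTI

universe u

variable {G : Type u} [Group G]

/-- an element of `A` that normalizes a conjugate of `A` lies in that conjugate -/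
theorem normalizer_of_mem [Finite G] {A : Subgroup G} (hA : CC A) {a g : G} (ha : a ∈ A)
    (ha1 : a ≠ 1) (h : g⁻¹ * a * g ∈ Subgroup.normalizer (A : Set G)) :
    g ∈ Subgroup.normalizer (A : Set G) := by
  -- the element `b = a ^ g` lies in `A`, a normal Hall subgroup of `N(A)`
  set b := g⁻¹ * a * g with hb
  have hob : orderOf b = orderOf a := by
    have : b = MulAut.conj g⁻¹ a := by simp [hb]
    rw [this]
    exact (MulAut.conj g⁻¹).orderOf_eq a
  have hoa : orderOf a ∣ Nat.card A := by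
    have := orderOf_dvd_natCard (⟨a, ha⟩ : A)
    rwa [← Subgroup.orderOf_coe] at this
  have hcop : (Nat.card A).Coprime (eIdx A) := by
    have h1 := hA.dvd
    have h2 : 0 < Nat.card A := Nat.card_pos
    refine Nat.Coprime.coprime_dvd_right h1 ?_
    exact (Nat.coprime_self_sub_right (by omega)).2 (Nat.coprime_one_right _)
  have hbA : b ∈ A := by
    have hn : (A.subgroupOf (Subgroup.normalizer (A : Set G))).Normal := Subgroup.normal_in_normalizer
    have h1 : (⟨b, h⟩ : Subgroup.normalizer (A : Set G)) ^ eIdx A ∈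
        A.subgroupOf (Subgroup.normalizer (A : Set G)) := Subgroup.pow_index_mem _ _
    rw [Subgroup.mem_subgroupOf] at h1
    have h2 : b ^ eIdx A ∈ A := h1
    have h3 : (orderOf b).Coprime (eIdx A) := Nat.Coprime.coprime_dvd_left (hob ▸ hoa) hcop
    obtain ⟨k, hk⟩ := exists_pow_eq_self_of_coprime h3.symm
    rw [← hk]
    exact A.pow_mem h2 k
  have hb1 : b ≠ 1 := by
    intro h1
    rw [h1, orderOf_one] at hob
    exact ha1 (orderOf_eq_one_iff.1 hob.symm)
  rw [Subgroup.mem_normalizer_iff]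
  intro x
  have e1 := hA.mem_iff hbA hb1 x
  have e2 := hA.mem_iff ha ha1 (g * x * g⁻¹)
  rw [e1, e2]
  have h4 : g * (b * x) * g⁻¹ = a * (g * x * g⁻¹) := by rw [hb]; group
  have h5 : g * (x * b) * g⁻¹ = g * x * g⁻¹ * a := by rw [hb]; group
  rw [← h4, ← h5]
  constructor
  · intro h6
    rw [h6]
  · intro h6
    have h7 := mul_right_cancel h6
    exact mul_left_cancel h7

/-- `|G : A| = (|A| t + 1) e` -/
theorem index_eq [Finite G] {A : Subgroup G} (hA : CC A) :
    ∃ t, A.index = (Nat.card A * t + 1) * eIdx A := by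
  classical
  set N := Subgroup.normalizer (A : Set G) with hN
  have hle : A ≤ N := Subgroup.le_normalizer
  have hidx : A.index = N.index * eIdx A := by
    have h1 := Subgroup.relIndex_mul_index hle
    rw [← h1, mul_comm]
    rfl
  -- the action of `A` on the nontrivial cosets of `N`
  let X := {x : G ⧸ N // x ≠ (QuotientGroup.mk 1 : G ⧸ N)}
  let p : SubMulAction A (G ⧸ N) :=
    { carrier := {x | x ≠ (QuotientGroup.mk 1 : G ⧸ N)}
      smul_mem' := by
        intro a x hx h1
        apply hx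
        have h2 : x = a⁻¹ • (QuotientGroup.mk 1 : G ⧸ N) := by rw [← h1, inv_smul_smul]
        rw [h2]
        have h3 : (a⁻¹ • (QuotientGroup.mk 1 : G ⧸ N)) = QuotientGroup.mk (((a⁻¹ : A) : G) * 1) := rfl
        rw [h3, QuotientGroup.eq]
        simp only [mul_one]
        exact N.inv_mem (hle (a⁻¹).2) }
  have hfree : ∀ x : p, MulAction.stabilizer A x = ⊥ := by
    rintro ⟨x, hx⟩
    rw [Subgroup.eq_bot_iff_forall]
    intro a ha
    obtain ⟨g, rfl⟩ := QuotientGroup.mk_surjective x
    have h1 : (a • (QuotientGroup.mk g : G ⧸ N)) = QuotientGroup.mk g :=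
      congrArg Subtype.val (MulAction.mem_stabilizer_iff.1 ha)
    by_contra ha1
    apply hx
    have h2 : (QuotientGroup.mk ((a : G) * g) : G ⧸ N) = QuotientGroup.mk g := h1
    rw [QuotientGroup.eq] at h2
    have h3 : g⁻¹ * (a : G) * g ∈ N := by
      have := N.inv_mem h2
      have h4 : (((a : G) * g)⁻¹ * g)⁻¹ = g⁻¹ * (a : G) * g := by group
      rwa [h4] at this
    have h4 := normalizer_of_mem hA a.2 (fun h => ha1 (Subtype.ext h)) h3
    rw [QuotientGroup.eq]
    simpa using N.inv_mem h4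
  have hp : Nat.card A ∣ Nat.card p := by
    have h1 := index_dvd_card (N := A) (X := p) (⊥ : Subgroup A) hfree
    rwa [Subgroup.index_bot] at h1
  obtain ⟨t, ht⟩ := hp
  refine ⟨t, ?_⟩
  have hcard : N.index = Nat.card p + 1 := by
    have h1 : N.index = Nat.card (G ⧸ N) := rfl
    have h2 : Nat.card (G ⧸ N) = Nat.card p + 1 := by
      have h3 : Fintype (G ⧸ N) := Fintype.ofFinite _
      have h4 : Nat.card p = Nat.card {x : G ⧸ N // x ≠ (QuotientGroup.mk 1 : G ⧸ N)} := rfl
      have h6 : 0 < Fintype.card (G ⧸ N) := Fintype.card_pos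
      rw [h4, Nat.card_eq_fintype_card, Nat.card_eq_fintype_card, Fintype.card_subtype_compl,
        Fintype.card_subtype_eq]
      omega
    rw [h1, h2]
  rw [hidx, hcard, ht]

/-- **the automizer of a `CC`-subgroup**: `e = |G : A| mod |A|`. -/
theorem eIdx_eq_mod [Finite G] {A : Subgroup G} (hA : CC A) (h1 : 1 < Nat.card A) {n : ℕ}
    (hn : Nat.card G = Nat.card A * n) : eIdx A = n % Nat.card A := by
  obtain ⟨t, ht⟩ := index_eq hA
  have h2 : A.index = n := by
    have h3 := A.card_mul_index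
    rw [hn] at h3
    exact Nat.eq_of_mul_eq_mul_left (by omega) h3
  rw [h2] at ht
  have h4 : eIdx A < Nat.card A := by
    have := Nat.le_of_dvd (by omega) hA.dvd
    omega
  rw [ht]
  have h5 : (Nat.card A * t + 1) * eIdx A = eIdx A + Nat.card A * (t * eIdx A) := by ring
  rw [h5, Nat.add_mul_mod_self_left, Nat.mod_eq_of_lt h4]

/-- `Big G` from a `CC`-subgroup of order `a = e m + 1`, `|G| = a n`, `n % a = e`. -/
theorem big_of_index [Finite G] {A : Subgroup G} (hA : CC A) {a n e m k : ℕ} (ha : Nat.card A = a)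
    (hn : Nat.card G = a * n) (he : n % a = e) (hm : 2 ≤ m) (hem : a = e * m + 1) (ha1 : 1 < a)
    (hk : k ≤ Nat.card (ConjClasses G)) (h : 8 ≤ (m - 1) * (k - (e + m))) : Big G := by
  have h1 := eIdx_eq_mod hA (by omega) (n := n) (by rw [hn, ha])
  rw [ha, he] at h1
  exact big_of_ti hA h1 hm (by rw [ha, hem]) hk h

/-- **self-centralizing subgroups of prime order** -/
theorem big_of_isolated [Finite G] {x : G} {r n e m k : ℕ} (hr : r.Prime) (hx : orderOf x = r)
    (hc : Nat.card (Subgroup.centralizer ({x} : Set G)) = r) (hn : Nat.card G = r * n)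
    (he : n % r = e) (hm : 2 ≤ m) (hem : r = e * m + 1)
    (hk : k ≤ Nat.card (ConjClasses G)) (h : 8 ≤ (m - 1) * (k - (e + m))) : Big G :=
  big_of_index (cc_of_prime hr hx hc) (by rw [Nat.card_zpowers, hx]) hn he hm hem hr.one_lt hk h

/-- the same with two primes -/
theorem big_of_isolated2 [Finite G] {x y : G} {r n e m r' n' e' m' k : ℕ} (hr : r.Prime)
    (hx : orderOf x = r) (hc : Nat.card (Subgroup.centralizer ({x} : Set G)) = r)
    (hn : Nat.card G = r * n) (he : n % r = e) (hm : 2 ≤ m) (hem : r = e * m + 1)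
    (hr' : r'.Prime) (hy : orderOf y = r')
    (hc' : Nat.card (Subgroup.centralizer ({y} : Set G)) = r')
    (hn' : Nat.card G = r' * n') (he' : n' % r' = e') (hm' : 2 ≤ m') (hem' : r' = e' * m' + 1)
    (hrr : r ≠ r') (hk : k ≤ Nat.card (ConjClasses G))
    (h : 8 ≤ (m - 1) * (k - (e + m)) + (m' - 1) * (k - (e' + m'))) : Big G := by
  have hA := cc_of_prime hr hx hc
  have hB := cc_of_prime hr' hy hc'
  have cA : Nat.card (Subgroup.zpowers x) = r := by rw [Nat.card_zpowers, hx]
  have cB : Nat.card (Subgroup.zpowers y) = r' := by rw [Nat.card_zpowers, hy]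
  have h1 := eIdx_eq_mod hA (by rw [cA]; exact hr.one_lt) (n := n) (by rw [hn, cA])
  have h2 := eIdx_eq_mod hB (by rw [cB]; exact hr'.one_lt) (n := n') (by rw [hn', cB])
  rw [cA, he] at h1
  rw [cB, he'] at h2
  exact big_of_ti2 hA hB (by rw [cA, cB]; exact (Nat.coprime_primes hr hr').2 hrr) h1 hm
    (by rw [cA, hem]) h2 hm' (by rw [cB, hem']) hk h

/-- `m` classes inside `⟨x⟩#` and the classes outside, for an isolated prime: the class number
bound from a set of orders prime to `r` -/
theorem big_of_isolated_out [Finite G] {x : G} {r n e m : ℕ} (hr : r.Prime) (hx : orderOf x = r)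
    (hc : Nat.card (Subgroup.centralizer ({x} : Set G)) = r) (hn : Nat.card G = r * n)
    (he : n % r = e) (hm : 2 ≤ m) (hem : r = e * m + 1)
    (t : Finset G) (ht : NonConj t) (hout : ∀ g ∈ t, orderOf g ≠ r)
    (h : 8 ≤ (m - 1) * (t.card - e)) : Big G := by
  have hA := cc_of_prime hr hx hc
  have cA : Nat.card (Subgroup.zpowers x) = r := by rw [Nat.card_zpowers, hx]
  have h1 := eIdx_eq_mod hA (by rw [cA]; exact hr.one_lt) (n := n) (by rw [hn, cA])
  rw [cA, he] at h1
  refine big_of_ti_out hA h1 hm (by rw [cA, hem]) t ht ?_ h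
  intro g hg a ha ha1 hc'
  apply hout g hg
  have h2 : orderOf g = orderOf a := by
    obtain ⟨c, rfl⟩ := isConj_iff.1 hc'
    exact ((MulAut.conj c).orderOf_eq g).symm
  have h3 : orderOf a ∣ r := by
    have := orderOf_dvd_natCard (⟨a, ha⟩ : Subgroup.zpowers x)
    rwa [← Subgroup.orderOf_coe, cA] at this
  rcases (Nat.dvd_prime hr).1 h3 with h4 | h4
  · exact absurd (orderOf_eq_one_iff.1 h4) ha1
  · rw [h2, h4]

/-- `Big G` from a `CC`-subgroup of order `a = e m + 1`, `|G| = a n`, `n % a = e`, and a set `s`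
of orders of elements not dividing `a` (or equal to one) with `(m - 1)(#s - e) ≥ 8`. -/
theorem big_of_index_orders [Finite G] {A : Subgroup G} (hA : CC A) {a n e m : ℕ}
    (ha : Nat.card A = a) (hn : Nat.card G = a * n) (he : n % a = e) (hm : 2 ≤ m)
    (hem : a = e * m + 1) (ha1 : 1 < a) (s : Finset ℕ) (hs : ∀ n ∈ s, ∃ g : G, orderOf g = n)
    (hsa : ∀ n ∈ s, n = 1 ∨ ¬ n ∣ a) (h : 8 ≤ (m - 1) * (s.card - e)) : Big G := by
  have h1 := eIdx_eq_mod hA (by omega) (n := n) (by rw [hn, ha])
  rw [ha, he] at h1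
  obtain ⟨t, ht, htc, hto⟩ := exists_of_orders (G := G) s hs
  refine big_of_ti_out hA h1 hm (by rw [ha, hem]) t ht ?_ (by rw [htc]; exact h)
  intro g hg b hb hb1 hc
  have h2 : orderOf g = orderOf b := by
    obtain ⟨c, rfl⟩ := isConj_iff.1 hc
    exact ((MulAut.conj c).orderOf_eq g).symm
  have h3 : orderOf b ∣ a := by
    have := orderOf_dvd_natCard (⟨b, hb⟩ : A)
    rwa [← Subgroup.orderOf_coe, ha] at this
  rcases hsa _ (hto g hg) with h4 | h4
  · rw [h2] at h4
    exact hb1 (orderOf_eq_one_iff.1 h4)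
  · exact h4 (h2 ▸ h3)

end Cfsg.Agent.H504.Zeros
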