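import Cfsg.Agent.H504.Zeros
import Cfsg.Agent.H167.HasSt

/-!
# Zeros of the Steinberg character
-/

set_option autoImplicit false

namespace Cfsg.Agent.H504.Zeros

open Cfsg Cfsg.Agent.Characters.Core

universe u

variable {G : Type u} [Group G]

/-- a Steinberg character has defect zero -/
theorem hasDZ_of_hasSt {p : ℕ} [hp : Fact p.Prime] (h : Cfsg.Agent.H167.StChar.HasSt p G) :
    Cfsg.Agent.H665.NoPQ.HasDZ p G := by
  obtain ⟨χ, hχ, h1, -⟩ := h
  refine ⟨⟨χ, hχ⟩, ?_⟩
  have h2 := charDegree_cast_irr (⟨χ, hχ⟩ : IrrCharacter G)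
  have h3 : charDegree (((⟨χ, hχ⟩ : IrrCharacter G)) : G → ℂ) =
      p ^ (Nat.card G).factorization p := by
    have h4 : (charDegree (((⟨χ, hχ⟩ : IrrCharacter G)) : G → ℂ) : ℂ) =
      ((p ^ (Nat.card G).factorization p : ℕ) : ℂ) := by
      rw [h2]
      exact h1
    exact_mod_cast h4
  rw [h3, hp.out.factorization_pow, Finsupp.single_eq_same]

/-- **Steinberg**: nine non-conjugate `p`-singular elements in a group with a Steinberg
character. -/
theorem big_of_hasSt [Finite G] {p : ℕ} [Fact p.Prime] (h : Cfsg.Agent.H167.StChar.HasSt p G)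
    (s : Finset G) (hs : NonConj s) (hp : ∀ g ∈ s, p ∣ orderOf g) (hcard : 9 ≤ s.card) :
    Big G :=
  big_of_dz (hasDZ_of_hasSt h) s hs hp hcard

end Cfsg.Agent.H504.Zeros
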