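import Cfsg.Agent.H504.Zeros
import Cfsg.Agent.S0252
import Cfsg.Agent.S0253
import Cfsg.Agent.S0254
import Cfsg.Agent.S0255
import Cfsg.Agent.S0256
import Cfsg.Agent.LieClassical.FieldTransfer
import Cfsg.Prelude.Def_Classification2

/-!
# S4895: assembly of the rows
-/

set_option autoImplicit false

namespace Cfsg.Agent.H504.Zeros

open Cfsg Matrix

universe u

/-- the rows -/
structure Rows : Prop where
  alt : ∀ n : ℕ, 7 ≤ n → Big (alternatingGroup (Fin n))
  psl2 : ∀ (F : Type) [Field F] [Fintype F], 8 ≤ Fintype.card F → Fintype.card F ≠ 9 →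
    Big (ProjectiveSpecialLinearGroup (Fin 2) F)
  psl3 : ∀ (F : Type) [Field F] [Fintype F], 3 ≤ Fintype.card F →
    Big (ProjectiveSpecialLinearGroup (Fin 3) F)
  psl : ∀ (F : Type) [Field F] [Fintype F] (n : ℕ), 4 ≤ n → (n = 4 → 3 ≤ Fintype.card F) →
    Big (ProjectiveSpecialLinearGroup (Fin n) F)
  psp4 : ∀ (F : Type) [Field F] [Fintype F], 3 ≤ Fintype.card F → Big (PSp 2 F)
  psp : ∀ (F : Type) [Field F] [Fintype F] (m : ℕ), 3 ≤ m → Big (PSp m F)
  psu3 : ∀ (F : Type) [Field F] [Fintype F] (q : ℕ), Fintype.card F = q ^ 2 → q ≠ 2 →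
    Big (PSU 3 F q)
  psu : ∀ (F : Type) [Field F] [Fintype F] (n q : ℕ), Fintype.card F = q ^ 2 → 4 ≤ n →
    Big (PSU n F q)
  oodd : ∀ (F : Type) [Field F] [Fintype F] (m : ℕ), 3 ≤ m → Odd (Fintype.card F) →
    Big (POmega F (quadFormOdd m F))
  oplus : ∀ (F : Type) [Field F] [Fintype F] (m : ℕ), 4 ≤ m → Big (POmega F (quadFormPlus m F))
  ominus : ∀ (F : Type) [Field F] [Fintype F] (m : ℕ) (a b : F), 4 ≤ m →
    (∀ z₁ z₂ : F, z₁ ^ 2 + a * z₁ * z₂ + b * z₂ ^ 2 = 0 → z₁ = 0 ∧ z₂ = 0) →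
    Big (POmega F (quadFormMinus (m - 1) F a b))
  g2 : ∀ (F : Type) [Field F] [Fintype F], 3 ≤ Fintype.card F → Big (Lie.chevG2.group F)
  f4 : ∀ (F : Type) [Field F] [Fintype F], Big (Lie.chevF4.group F)
  e6 : ∀ (F : Type) [Field F] [Fintype F], Big (Lie.chevE6.group F)
  e7 : ∀ (F : Type) [Field F] [Fintype F], Big (Lie.chevE7.group F)
  e8 : ∀ (F : Type) [Field F] [Fintype F], Big (Lie.chevE8.group F)
  te6 : ∀ (K : Type) [Field K] [Fintype K] (q : ℕ), IsPrimePow q → Fintype.card K = q ^ 2 →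
    Big (Lie.twistedE6 K q)
  td4 : ∀ (K : Type) [Field K] [Fintype K] (q : ℕ), IsPrimePow q → Fintype.card K = q ^ 3 →
    Big (Lie.twistedD4 K q)
  sz : ∀ (K : Type) [Field K] [Fintype K] (m : ℕ), 1 ≤ m → Fintype.card K = 2 ^ (2 * m + 1) →
    Big (Lie.Sz K (2 ^ (m + 1)))
  ree : ∀ (K : Type) [Field K] [Fintype K] (m : ℕ), 1 ≤ m → Fintype.card K = 3 ^ (2 * m + 1) →
    Big (Lie.twistedG2 K (3 ^ m))
  tf4 : ∀ (K : Type) [Field K] [Fintype K] (m : ℕ), 1 ≤ m → Fintype.card K = 2 ^ (2 * m + 1) →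
    Big (Lie.twistedF4 K (2 ^ m))

/-- the sporadic rows -/
def SporRows : Prop := ∀ {S : Type u} [Group S], IsSporadicGroup S → Big S

/-- the row of the Tits group -/
def TitsRow : Prop := ∀ {S : Type u} [Group S], Lie.IsoTits S → Big S

theorem not_comm_of_cyclic {G : Type u} [Group G] (h : IsPrimeCyclic G) : IsMulCommutative G := by
  have : Fact (Nat.card G).Prime := ⟨h⟩
  have hc : IsCyclic G := isCyclic_of_prime_card rfl
  exact ⟨⟨fun a b => by
    obtain ⟨g, hg⟩ := hc.exists_generator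
    obtain ⟨k, rfl⟩ := hg a
    obtain ⟨l, rfl⟩ := hg b
    exact (Commute.refl g).zpow_zpow k l⟩⟩

/-- **every known simple group outside the three exceptions has many zeros** -/
theorem big_of_known (R : Rows) (RS : SporRows.{u}) (RT : TitsRow.{u}) {G : Type u} [Group G]
    (h : IsKnownSimple' G) (hG : ¬ IsMulCommutative G)
    (h5 : ¬ Nonempty (G ≃* alternatingGroup (Fin 5)))
    (h7 : ¬ Nonempty (G ≃* ProjectiveSpecialLinearGroup (Fin 2) (ZMod 7)))
    (h6 : ¬ Nonempty (G ≃* alternatingGroup (Fin 6))) : Big G := by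
  have : Fact (Nat.Prime 7) := ⟨by norm_num⟩
  have hz7 : Fintype.card (ZMod 7) = 7 := ZMod.card 7
  rcases h with h | ⟨n, hn, ⟨e⟩⟩ | ⟨F, _, _, n, hn, hq, ⟨e⟩⟩ | ⟨F, _, _, m, hm, hq, ⟨e⟩⟩ |
    ⟨F, _, _, n, q, hF, hn, hne, ⟨e⟩⟩ | ⟨F, _, _, m, hm, ho, ⟨e⟩⟩ | ⟨F, _, _, m, hm, ⟨e⟩⟩ |
    ⟨F, _, _, m, a, b, hm, hab, ⟨e⟩⟩ | h | h
  · exact absurd (not_comm_of_cyclic h) hG
  · refine Big.of_equiv e (R.alt n ?_)
    by_contra hc
    have : n = 5 ∨ n = 6 := by omega
    rcases this with rfl | rfl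
    · exact h5 ⟨e⟩
    · exact h6 ⟨e⟩
  · rcases Nat.lt_or_ge n 4 with h4 | h4
    · have : n = 2 ∨ n = 3 := by omega
      rcases this with rfl | rfl
      · have hq4 := hq rfl
        by_cases h9 : Fintype.card F = 9
        · obtain ⟨e'⟩ := S0254.result h9
          exact absurd ⟨e.trans e'⟩ h6
        refine Big.of_equiv e (R.psl2 F ?_ h9)
        by_contra hc
        have : Fintype.card F = 4 ∨ Fintype.card F = 5 ∨ Fintype.card F = 6 ∨
          Fintype.card F = 7 := by omega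
        rcases this with h | h | h | h
        · obtain ⟨e'⟩ := S0252.result h
          exact h5 ⟨e.trans e'⟩
        · obtain ⟨e'⟩ := S0253.result h
          exact h5 ⟨e.trans e'⟩
        · have h8 : IsPrimePow 6 := h ▸ FiniteField.isPrimePow_card F
          exact absurd h8 (by
            rw [isPrimePow_nat_iff]
            rintro ⟨p, k, hp, hk, hpk⟩
            have h2 : p ∣ 6 := hpk ▸ dvd_pow_self p hk.ne'
            have h2' : 2 ∣ p ^ k := by rw [hpk]; norm_num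
            have h3' : 3 ∣ p ^ k := by rw [hpk]; norm_num
            have e2 := (Nat.prime_dvd_prime_iff_eq Nat.prime_two hp).1
              (Nat.prime_two.dvd_of_dvd_pow h2')
            have e3 := (Nat.prime_dvd_prime_iff_eq Nat.prime_three hp).1
              (Nat.prime_three.dvd_of_dvd_pow h3')
            omega)
        · have e' := Cfsg.Agent.LieClassical.FieldTransfer.pslCongr (ι := Fin 2)
            (FiniteField.ringEquivOfCardEq (K := F) (K' := ZMod 7) (h.trans hz7.symm))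
          exact h7 ⟨e.trans e'⟩
      · refine Big.of_equiv e (R.psl3 F ?_)
        by_contra hc
        have h2 : 2 ≤ Fintype.card F := Fintype.one_lt_card
        obtain ⟨e'⟩ := S0255.result (F := ZMod 7) (K := F) hz7 (by omega)
        exact h7 ⟨e.trans e'.symm⟩
    · by_cases h42 : n = 4 ∧ Fintype.card F = 2
      · obtain ⟨rfl, hF⟩ := h42
        obtain ⟨e'⟩ := S0256.result hF
        exact Big.of_equiv (e.trans e') (R.alt 8 (by norm_num))
      · have h2 : 2 ≤ Fintype.card F := Fintype.one_lt_card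
        exact Big.of_equiv e (R.psl F n h4 fun h => by omega)
  · rcases Nat.eq_or_lt_of_le hm with h | h
    · subst h
      exact Big.of_equiv e (R.psp4 F (hq rfl))
    · exact Big.of_equiv e (R.psp F m h)
  · rcases Nat.eq_or_lt_of_le hn with h | h
    · subst h
      exact Big.of_equiv e (R.psu3 F q hF fun h => hne ⟨rfl, h⟩)
    · exact Big.of_equiv e (R.psu F n q hF h)
  · exact Big.of_equiv e (R.oodd F m hm ho)
  · exact Big.of_equiv e (R.oplus F m hm)
  · exact Big.of_equiv e (R.ominus F m a b hm hab)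
  · rcases h with ⟨F, _, _, h3, ⟨e⟩⟩ | ⟨F, _, _, ⟨e⟩⟩ | ⟨F, _, _, ⟨e⟩⟩ | ⟨F, _, _, ⟨e⟩⟩ |
      ⟨F, _, _, ⟨e⟩⟩ | ⟨K, _, _, q, hq, hK, ⟨e⟩⟩ | ⟨K, _, _, q, hq, hK, ⟨e⟩⟩ |
      ⟨K, _, _, m, hm, hK, ⟨e⟩⟩ | ⟨K, _, _, m, hm, hK, ⟨e⟩⟩ | ⟨K, _, _, m, hm, hK, ⟨e⟩⟩ | h
    · exact Big.of_equiv e (R.g2 F h3)
    · exact Big.of_equiv e (R.f4 F)
    · exact Big.of_equiv e (R.e6 F)
    · exact Big.of_equiv e (R.e7 F)
    · exact Big.of_equiv e (R.e8 F)
    · exact Big.of_equiv e (R.te6 K q hq hK)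
    · exact Big.of_equiv e (R.td4 K q hq hK)
    · exact Big.of_equiv e (R.sz K m hm hK)
    · exact Big.of_equiv e (R.ree K m hm hK)
    · exact Big.of_equiv e (R.tf4 K m hm hK)
    · exact RT h
  · exact RS h

end Cfsg.Agent.H504.Zeros
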