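import Cfsg.Agent.H504.TwoExt
import Cfsg.Agent.H504.ZerosRows

/-!
# S4897: assembly of the rows
-/

set_option autoImplicit false

namespace Cfsg.Agent.H504.TwoZ

open Cfsg Matrix

/-- the row of a simple group -/
def RowT (S : Type) [Group S] : Prop := Row1 S ∧ Row2 S

theorem Four.of_equiv {G H : Type*} [Group G] [Group H] (e : G ≃* H) (h : Four H) : Four G := by
  rcases h with h | h | h | h <;> obtain ⟨f⟩ := h
  · exact Or.inl ⟨e.trans f⟩
  · exact Or.inr (Or.inl ⟨e.trans f⟩)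
  · exact Or.inr (Or.inr (Or.inl ⟨e.trans f⟩))
  · exact Or.inr (Or.inr (Or.inr ⟨e.trans f⟩))

theorem Row2.of_equiv {S T : Type} [Group S] [Group T] (e : S ≃* T) (h : Row2 T) : Row2 S := by
  rintro G _ _ N _ ⟨f⟩ h1 h2 h3
  exact h G N ⟨f.trans e⟩ h1 h2 h3

theorem RowT.of_equiv {S T : Type} [Group S] [Group T] [Finite S] (e : S ≃* T) (h : RowT T) : RowT S := by
  refine ⟨?_, h.2.of_equiv e⟩
  rcases h.1 with h1 | h1
  · exact Or.inl (h1.of_equiv e)
  · exact Or.inr (h1.of_equiv e)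

/-- the rows -/
structure RowsT : Prop where
  a5 : Row2 (alternatingGroup (Fin 5))
  a6 : Row2 (alternatingGroup (Fin 6))
  l7 : Row2 (ProjectiveSpecialLinearGroup (Fin 2) (ZMod 7))
  alt : ∀ n : ℕ, 7 ≤ n → RowT (alternatingGroup (Fin n))
  psl2 : ∀ (F : Type) [Field F] [Fintype F], 8 ≤ Fintype.card F → Fintype.card F ≠ 9 →
    RowT (ProjectiveSpecialLinearGroup (Fin 2) F)
  psl3 : ∀ (F : Type) [Field F] [Fintype F], 3 ≤ Fintype.card F →
    RowT (ProjectiveSpecialLinearGroup (Fin 3) F)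
  psl : ∀ (F : Type) [Field F] [Fintype F] (n : ℕ), 4 ≤ n → (n = 4 → 3 ≤ Fintype.card F) →
    RowT (ProjectiveSpecialLinearGroup (Fin n) F)
  psp4 : ∀ (F : Type) [Field F] [Fintype F], 3 ≤ Fintype.card F → RowT (PSp 2 F)
  psp : ∀ (F : Type) [Field F] [Fintype F] (m : ℕ), 3 ≤ m → RowT (PSp m F)
  psu3 : ∀ (F : Type) [Field F] [Fintype F] (q : ℕ), Fintype.card F = q ^ 2 → q ≠ 2 →
    RowT (PSU 3 F q)
  psu : ∀ (F : Type) [Field F] [Fintype F] (n q : ℕ), Fintype.card F = q ^ 2 → 4 ≤ n →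
    RowT (PSU n F q)
  oodd : ∀ (F : Type) [Field F] [Fintype F] (m : ℕ), 3 ≤ m → Odd (Fintype.card F) →
    RowT (POmega F (quadFormOdd m F))
  oplus : ∀ (F : Type) [Field F] [Fintype F] (m : ℕ), 4 ≤ m → RowT (POmega F (quadFormPlus m F))
  ominus : ∀ (F : Type) [Field F] [Fintype F] (m : ℕ) (a b : F), 4 ≤ m →
    (∀ z₁ z₂ : F, z₁ ^ 2 + a * z₁ * z₂ + b * z₂ ^ 2 = 0 → z₁ = 0 ∧ z₂ = 0) →
    RowT (POmega F (quadFormMinus (m - 1) F a b))
  g2 : ∀ (F : Type) [Field F] [Fintype F], 3 ≤ Fintype.card F → RowT (Lie.chevG2.group F)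
  f4 : ∀ (F : Type) [Field F] [Fintype F], RowT (Lie.chevF4.group F)
  e6 : ∀ (F : Type) [Field F] [Fintype F], RowT (Lie.chevE6.group F)
  e7 : ∀ (F : Type) [Field F] [Fintype F], RowT (Lie.chevE7.group F)
  e8 : ∀ (F : Type) [Field F] [Fintype F], RowT (Lie.chevE8.group F)
  te6 : ∀ (K : Type) [Field K] [Fintype K] (q : ℕ), IsPrimePow q → Fintype.card K = q ^ 2 →
    RowT (Lie.twistedE6 K q)
  td4 : ∀ (K : Type) [Field K] [Fintype K] (q : ℕ), IsPrimePow q → Fintype.card K = q ^ 3 →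
    RowT (Lie.twistedD4 K q)
  sz : ∀ (K : Type) [Field K] [Fintype K] (m : ℕ), 1 ≤ m → Fintype.card K = 2 ^ (2 * m + 1) →
    RowT (Lie.Sz K (2 ^ (m + 1)))
  ree : ∀ (K : Type) [Field K] [Fintype K] (m : ℕ), 1 ≤ m → Fintype.card K = 3 ^ (2 * m + 1) →
    RowT (Lie.twistedG2 K (3 ^ m))
  tf4 : ∀ (K : Type) [Field K] [Fintype K] (m : ℕ), 1 ≤ m → Fintype.card K = 2 ^ (2 * m + 1) →
    RowT (Lie.twistedF4 K (2 ^ m))
  tits : ∀ {S : Type} [Group S], Lie.IsoTits S → RowT S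
  spor : ∀ {S : Type} [Group S], IsSporadicGroup S → RowT S

/-- **every known non-abelian simple group has its row** -/
theorem rowT_of_known (R : RowsT) {G : Type} [Group G] [Finite G]
    (h : IsKnownSimple' G) (hG : ¬ IsMulCommutative G) : RowT G := by
  have : Fact (Nat.Prime 7) := ⟨by norm_num⟩
  have hz7 : Fintype.card (ZMod 7) = 7 := ZMod.card 7
  have h5 : ∀ e : G ≃* alternatingGroup (Fin 5), RowT G := fun e =>
    ⟨Or.inr (Or.inl ⟨e⟩), R.a5.of_equiv e⟩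
  have h6 : ∀ e : G ≃* alternatingGroup (Fin 6), RowT G := fun e =>
    ⟨Or.inr (Or.inr (Or.inr (Or.inr ⟨e⟩))), R.a6.of_equiv e⟩
  have h7 : ∀ e : G ≃* ProjectiveSpecialLinearGroup (Fin 2) (ZMod 7), RowT G := fun e =>
    ⟨Or.inr (Or.inr (Or.inr (Or.inl ⟨e⟩))), R.l7.of_equiv e⟩
  rcases h with h | ⟨n, hn, ⟨e⟩⟩ | ⟨F, _, _, n, hn, hq, ⟨e⟩⟩ | ⟨F, _, _, m, hm, hq, ⟨e⟩⟩ |
    ⟨F, _, _, n, q, hF, hn, hne, ⟨e⟩⟩ | ⟨F, _, _, m, hm, ho, ⟨e⟩⟩ | ⟨F, _, _, m, hm, ⟨e⟩⟩ |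
    ⟨F, _, _, m, a, b, hm, hab, ⟨e⟩⟩ | h | h
  · exact absurd (Zeros.not_comm_of_cyclic h) hG
  · by_cases hc : n = 5 ∨ n = 6
    · rcases hc with rfl | rfl
      · exact h5 e
      · exact h6 e
    · exact RowT.of_equiv e (R.alt n (by omega))
  · rcases Nat.lt_or_ge n 4 with h4 | h4
    · have : n = 2 ∨ n = 3 := by omega
      rcases this with rfl | rfl
      · have hq4 := hq rfl
        by_cases h9 : Fintype.card F = 9
        · obtain ⟨e'⟩ := S0254.result h9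
          exact h6 (e.trans e')
        by_cases h8 : 8 ≤ Fintype.card F
        · exact RowT.of_equiv e (R.psl2 F h8 h9)
        have : Fintype.card F = 4 ∨ Fintype.card F = 5 ∨ Fintype.card F = 6 ∨
          Fintype.card F = 7 := by omega
        rcases this with h | h | h | h
        · obtain ⟨e'⟩ := S0252.result h
          exact h5 (e.trans e')
        · obtain ⟨e'⟩ := S0253.result h
          exact h5 (e.trans e')
        · have h8 : IsPrimePow 6 := h ▸ FiniteField.isPrimePow_card F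
          exact absurd h8 (by
            rw [isPrimePow_nat_iff]
            rintro ⟨p, k, hp, hk, hpk⟩
            have h2 : p ∣ 6 := hpk ▸ dvd_pow_self p hk.ne'
            have h2' : 2 ∣ p ^ k := by rw [hpk]; norm_num
            have h3' : 3 ∣ p ^ k := by rw [hpk]; norm_num
            have e2 := (Nat.prime_dvd_prime_iff_eq Nat.prime_two hp).1
              (Nat.prime_two.dvd_of_dvd_pow h2')
            have e3 := (Nat.prime_dvd_prime_iff_eq Nat.prime_three hp).1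
              (Nat.prime_three.dvd_of_dvd_pow h3')
            omega)
        · have e' := Cfsg.Agent.LieClassical.FieldTransfer.pslCongr (ι := Fin 2)
            (FiniteField.ringEquivOfCardEq (K := F) (K' := ZMod 7) (h.trans hz7.symm))
          exact h7 (e.trans e')
      · by_cases hc : 3 ≤ Fintype.card F
        · exact RowT.of_equiv e (R.psl3 F hc)
        have h2 : 2 ≤ Fintype.card F := Fintype.one_lt_card
        obtain ⟨e'⟩ := S0255.result (F := ZMod 7) (K := F) hz7 (by omega)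
        exact h7 (e.trans e'.symm)
    · by_cases h42 : n = 4 ∧ Fintype.card F = 2
      · obtain ⟨rfl, hF⟩ := h42
        obtain ⟨e'⟩ := S0256.result hF
        exact RowT.of_equiv (e.trans e') (R.alt 8 (by norm_num))
      · have h2 : 2 ≤ Fintype.card F := Fintype.one_lt_card
        exact RowT.of_equiv e (R.psl F n h4 fun h => by omega)
  · rcases Nat.eq_or_lt_of_le hm with h | h
    · subst h
      exact RowT.of_equiv e (R.psp4 F (hq rfl))
    · exact RowT.of_equiv e (R.psp F m h)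
  · rcases Nat.eq_or_lt_of_le hn with h | h
    · subst h
      exact RowT.of_equiv e (R.psu3 F q hF fun h => hne ⟨rfl, h⟩)
    · exact RowT.of_equiv e (R.psu F n q hF h)
  · exact RowT.of_equiv e (R.oodd F m hm ho)
  · exact RowT.of_equiv e (R.oplus F m hm)
  · exact RowT.of_equiv e (R.ominus F m a b hm hab)
  · rcases h with ⟨F, _, _, h3, ⟨e⟩⟩ | ⟨F, _, _, ⟨e⟩⟩ | ⟨F, _, _, ⟨e⟩⟩ | ⟨F, _, _, ⟨e⟩⟩ |
      ⟨F, _, _, ⟨e⟩⟩ | ⟨K, _, _, q, hq, hK, ⟨e⟩⟩ | ⟨K, _, _, q, hq, hK, ⟨e⟩⟩ |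
      ⟨K, _, _, m, hm, hK, ⟨e⟩⟩ | ⟨K, _, _, m, hm, hK, ⟨e⟩⟩ | ⟨K, _, _, m, hm, hK, ⟨e⟩⟩ | h
    · exact RowT.of_equiv e (R.g2 F h3)
    · exact RowT.of_equiv e (R.f4 F)
    · exact RowT.of_equiv e (R.e6 F)
    · exact RowT.of_equiv e (R.e7 F)
    · exact RowT.of_equiv e (R.e8 F)
    · exact RowT.of_equiv e (R.te6 K q hq hK)
    · exact RowT.of_equiv e (R.td4 K q hq hK)
    · exact RowT.of_equiv e (R.sz K m hm hK)
    · exact RowT.of_equiv e (R.ree K m hm hK)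
    · exact RowT.of_equiv e (R.tf4 K m hm hK)
    · exact R.tits h
  · exact R.spor h

end Cfsg.Agent.H504.TwoZ
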