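import Cfsg.Agent.H504.ZerosIso
import Cfsg.Agent.H129.CycT

/-!
# `Big G` from a cyclic self-centralizing torus (`CycExact`)
-/

set_option autoImplicit false

namespace Cfsg.Agent.H504.Zeros

open Cfsg Cfsg.Agent.H504.ZeroTI Cfsg.Agent.H129.CycT

universe u

variable {G : Type u} [Group G]

theorem cc_of_cyclic {T : Subgroup G} (h : IsCyclic T)
    (hc : ∀ y ∈ T, y ≠ 1 → Subgroup.centralizer {y} = T) : CC T := by
  refine ⟨fun a ha b hb => ?_, hc⟩
  have := (IsCyclic.commGroup (α := T)).mul_comm ⟨a, ha⟩ ⟨b, hb⟩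
  exact congrArg Subtype.val this

/-- the automizer from the order of the group, computed in `ZMod a` -/
theorem eIdx_of_int [Finite G] {A : Subgroup G} (hA : CC A) {a e : ℕ} (ha : Nat.card A = a)
    (hea : e < a) (h1 : 1 < a) {N : ℤ} (hN : (Nat.card G : ℤ) = a * N)
    (hmod : ((N : ℤ) : ZMod a) = e) : eIdx A = e := by
  have h2 : Nat.card G = Nat.card A * A.index := (A.card_mul_index).symm
  have h3 := eIdx_eq_mod hA (by omega) h2
  have h4 : (A.index : ℤ) = N := by
    have h5 : ((a : ℕ) : ℤ) * (A.index : ℤ) = a * N := by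
      rw [← hN, h2, ha]
      push_cast
      ring
    exact mul_left_cancel₀ (by positivity) h5
  have h5 : ((A.index : ℕ) : ZMod a) = ((e : ℕ) : ZMod a) := by
    rw [← hmod, ← h4]
    push_cast
    rfl
  have h6 : A.index ≡ e [MOD a] := (ZMod.natCast_eq_natCast_iff _ _ _).1 h5
  rw [h3, ha]
  have h7 : A.index % a = e % a := h6
  rw [h7, Nat.mod_eq_of_lt hea]

/-- **`Big G` from a cyclic torus** of order `a` and the class number -/
theorem big_of_exact [Finite G] {a e k : ℕ} (h : CycExact G a) (hea : e < a) (h1 : 1 < a) {N : ℤ}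
    (hN : (Nat.card G : ℤ) = a * N) (hmod : ((N : ℤ) : ZMod a) = e)
    (hk : k ≤ Nat.card (ConjClasses G))
    (hm : ∀ m, a = e * m + 1 → 2 ≤ m ∧ 8 ≤ (m - 1) * (k - (e + m))) : Big G := by
  obtain ⟨T, hT, hc, hz⟩ := h
  have hA := cc_of_cyclic hT hz
  have he := eIdx_of_int hA hc hea h1 hN hmod
  obtain ⟨m, hem⟩ := exists_m hA
  rw [hc, he] at hem
  obtain ⟨h2, h3⟩ := hm m hem
  exact big_of_ti hA he h2 (by rw [hc]; exact hem) hk h3

/-- the same with a set of orders not dividing `a` -/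
theorem big_of_exact_orders [Finite G] {a e : ℕ} (h : CycExact G a) (hea : e < a) (h1 : 1 < a)
    {N : ℤ} (hN : (Nat.card G : ℤ) = a * N) (hmod : ((N : ℤ) : ZMod a) = e)
    (s : Finset ℕ) (hs : ∀ n ∈ s, ∃ g : G, orderOf g = n)
    (hsa : ∀ n ∈ s, n = 1 ∨ ¬ n ∣ a)
    (hm : ∀ m, a = e * m + 1 → 2 ≤ m ∧ 8 ≤ (m - 1) * (s.card - e)) : Big G := by
  obtain ⟨T, hT, hc, hz⟩ := h
  have hA := cc_of_cyclic hT hz
  have he := eIdx_of_int hA hc hea h1 hN hmod
  obtain ⟨m, hem⟩ := exists_m hA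
  rw [hc, he] at hem
  obtain ⟨h2, h3⟩ := hm m hem
  obtain ⟨t, ht, htc, hto⟩ := exists_of_orders (G := G) s hs
  refine big_of_ti_out hA he h2 (by rw [hc]; exact hem) t ht ?_ (by rw [htc]; exact h3)
  intro g hg b hb hb1 hcj
  have h4 : orderOf g = orderOf b := by
    obtain ⟨c, rfl⟩ := isConj_iff.1 hcj
    exact ((MulAut.conj c).orderOf_eq g).symm
  have h5 : orderOf b ∣ a := by
    have := orderOf_dvd_natCard (⟨b, hb⟩ : T)
    rwa [← Subgroup.orderOf_coe, hc] at this
  rcases hsa _ (hto g hg) with h6 | h6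
  · rw [h4] at h6
    exact hb1 (orderOf_eq_one_iff.1 h6)
  · exact h6 (h4 ▸ h5)

/-- a subset of the classes gives a class number bound -/
theorem le_classes_of_subtype [Finite G] {P : ConjClasses G → Prop} {k : ℕ}
    (h : Nat.card {c : ConjClasses G // P c} = k) : k ≤ Nat.card (ConjClasses G) := by
  have : Finite (ConjClasses G) := inferInstance
  rw [← h]
  exact Nat.card_le_card_of_injective Subtype.val Subtype.val_injective

end Cfsg.Agent.H504.Zeros
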