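import Mathlib

/-!
# Orders of the exceptional groups modulo the order of a Coxeter-type torus (S4895)
-/

set_option autoImplicit false

namespace Cfsg.Agent.H504.ZerosMod

theorem mod_G2_3 {R : Type*} [CommRing R] {x : R} (h : 1 + x + x ^ 2 = 0) :
    x ^ 6 * (x ^ 2 - 1) * (-1 + x - x ^ 3 + x ^ 4) = 6 := by
  have p2 : x ^ 2 = -1 - x := by
    rw [show x ^ 2 = x ^ 1 * x ^ 1 by ring]
    linear_combination (1) * h
  have p3 : x ^ 3 = 1 := by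
    rw [show x ^ 3 = x ^ 1 * x ^ 2 by ring, p2]
    linear_combination (-1) * h
  have p4 : x ^ 4 = x := by
    rw [show x ^ 4 = x ^ 2 * x ^ 2 by ring, p2]
    linear_combination (1) * h
  have p6 : x ^ 6 = 1 := by
    rw [show x ^ 6 = x ^ 3 * x ^ 3 by ring, p3]
    linear_combination (0) * h
  have s0 : x ^ 6 = 1 := p6
  have s1 : x ^ 6 * (x ^ 2 - 1) = -2 - x := by
    rw [s0, p2]
    linear_combination (0) * h
  have s2 : x ^ 6 * (x ^ 2 - 1) * (-1 + x - x ^ 3 + x ^ 4) = 6 := by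
    rw [s1, p3, p4]
    linear_combination (-2) * h
  rw [s2]

theorem mod_G2_6 {R : Type*} [CommRing R] {x : R} (h : 1 - x + x ^ 2 = 0) :
    x ^ 6 * (x ^ 2 - 1) * (-1 - x + x ^ 3 + x ^ 4) = 6 := by
  have p2 : x ^ 2 = -1 + x := by
    rw [show x ^ 2 = x ^ 1 * x ^ 1 by ring]
    linear_combination (1) * h
  have p3 : x ^ 3 = -1 := by
    rw [show x ^ 3 = x ^ 1 * x ^ 2 by ring, p2]
    linear_combination (1) * h
  have p4 : x ^ 4 = -x := by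
    rw [show x ^ 4 = x ^ 2 * x ^ 2 by ring, p2]
    linear_combination (1) * h
  have p6 : x ^ 6 = 1 := by
    rw [show x ^ 6 = x ^ 3 * x ^ 3 by ring, p3]
    linear_combination (0) * h
  have s0 : x ^ 6 = 1 := p6
  have s1 : x ^ 6 * (x ^ 2 - 1) = -2 + x := by
    rw [s0, p2]
    linear_combination (0) * h
  have s2 : x ^ 6 * (x ^ 2 - 1) * (-1 - x + x ^ 3 + x ^ 4) = 6 := by
    rw [s1, p3, p4]
    linear_combination (-2) * h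
  rw [s2]

theorem mod_F4_12 {R : Type*} [CommRing R] {x : R} (h : 1 - x ^ 2 + x ^ 4 = 0) :
    x ^ 24 * (x ^ 2 - 1) * (x ^ 6 - 1) * (x ^ 8 - 1) * (-1 - x ^ 2 + x ^ 6 + x ^ 8) = 12 := by
  have p6 : x ^ 6 = -1 := by
    rw [show x ^ 6 = x ^ 3 * x ^ 3 by ring]
    linear_combination (1 + x ^ 2) * h
  have p4 : x ^ 4 = -1 + x ^ 2 := by
    rw [show x ^ 4 = x ^ 2 * x ^ 2 by ring]
    linear_combination (1) * h
  have p8 : x ^ 8 = -x ^ 2 := by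
    rw [show x ^ 8 = x ^ 4 * x ^ 4 by ring, p4]
    linear_combination (1) * h
  have p12 : x ^ 12 = 1 := by
    rw [show x ^ 12 = x ^ 6 * x ^ 6 by ring, p6]
    linear_combination (0) * h
  have p24 : x ^ 24 = 1 := by
    rw [show x ^ 24 = x ^ 12 * x ^ 12 by ring, p12]
    linear_combination (0) * h
  have s0 : x ^ 24 = 1 := p24
  have s1 : x ^ 24 * (x ^ 2 - 1) = -1 + x ^ 2 := by
    rw [s0]
    linear_combination (0) * h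
  have s2 : x ^ 24 * (x ^ 2 - 1) * (x ^ 6 - 1) = 2 - 2 * x ^ 2 := by
    rw [s1, p6]
    linear_combination (0) * h
  have s3 : x ^ 24 * (x ^ 2 - 1) * (x ^ 6 - 1) * (x ^ 8 - 1) = -4 + 2 * x ^ 2 := by
    rw [s2, p8]
    linear_combination (2) * h
  have s4 : x ^ 24 * (x ^ 2 - 1) * (x ^ 6 - 1) * (x ^ 8 - 1) * (-1 - x ^ 2 + x ^ 6 + x ^ 8) = 12 := by
    rw [s3, p6, p8]
    linear_combination (-4) * h
  rw [s4]

theorem mod_F4_8 {R : Type*} [CommRing R] {x : R} (h : 1 + x ^ 4 = 0) :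
    x ^ 24 * (x ^ 2 - 1) * (x ^ 6 - 1) * (x ^ 4 - 1) * (x ^ 12 - 1) = 8 := by
  have p4 : x ^ 4 = -1 := by
    rw [show x ^ 4 = x ^ 2 * x ^ 2 by ring]
    linear_combination (1) * h
  have p6 : x ^ 6 = -x ^ 2 := by
    rw [show x ^ 6 = x ^ 3 * x ^ 3 by ring]
    linear_combination (x ^ 2) * h
  have p12 : x ^ 12 = -1 := by
    rw [show x ^ 12 = x ^ 6 * x ^ 6 by ring, p6]
    linear_combination (1) * h
  have p24 : x ^ 24 = 1 := by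
    rw [show x ^ 24 = x ^ 12 * x ^ 12 by ring, p12]
    linear_combination (0) * h
  have s0 : x ^ 24 = 1 := p24
  have s1 : x ^ 24 * (x ^ 2 - 1) = -1 + x ^ 2 := by
    rw [s0]
    linear_combination (0) * h
  have s2 : x ^ 24 * (x ^ 2 - 1) * (x ^ 6 - 1) = 2 := by
    rw [s1, p6]
    linear_combination (-1) * h
  have s3 : x ^ 24 * (x ^ 2 - 1) * (x ^ 6 - 1) * (x ^ 4 - 1) = -4 := by
    rw [s2, p4]
    linear_combination (0) * h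
  have s4 : x ^ 24 * (x ^ 2 - 1) * (x ^ 6 - 1) * (x ^ 4 - 1) * (x ^ 12 - 1) = 8 := by
    rw [s3, p12]
    linear_combination (0) * h
  rw [s4]

theorem mod_E6_9 {R : Type*} [CommRing R] {x : R} (h : 1 + x ^ 3 + x ^ 6 = 0) :
    x ^ 36 * (x ^ 2 - 1) * (x ^ 5 - 1) * (x ^ 6 - 1) * (x ^ 8 - 1) * (x ^ 3 - 1) * (x ^ 12 - 1) = 9 := by
  have p6 : x ^ 6 = -1 - x ^ 3 := by
    rw [show x ^ 6 = x ^ 3 * x ^ 3 by ring]
    linear_combination (1) * h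
  have p8 : x ^ 8 = -x ^ 2 - x ^ 5 := by
    rw [show x ^ 8 = x ^ 4 * x ^ 4 by ring]
    linear_combination (x ^ 2) * h
  have p12 : x ^ 12 = x ^ 3 := by
    rw [show x ^ 12 = x ^ 6 * x ^ 6 by ring, p6]
    linear_combination (1) * h
  have p9 : x ^ 9 = 1 := by
    rw [show x ^ 9 = x ^ 4 * x ^ 5 by ring]
    linear_combination (-1 + x ^ 3) * h
  have p18 : x ^ 18 = 1 := by
    rw [show x ^ 18 = x ^ 9 * x ^ 9 by ring, p9]
    linear_combination (0) * h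
  have p36 : x ^ 36 = 1 := by
    rw [show x ^ 36 = x ^ 18 * x ^ 18 by ring, p18]
    linear_combination (0) * h
  have s0 : x ^ 36 = 1 := p36
  have s1 : x ^ 36 * (x ^ 2 - 1) = -1 + x ^ 2 := by
    rw [s0]
    linear_combination (0) * h
  have s2 : x ^ 36 * (x ^ 2 - 1) * (x ^ 5 - 1) = 1 - x - x ^ 2 - x ^ 4 - x ^ 5 := by
    rw [s1]
    linear_combination (x) * h
  have s3 : x ^ 36 * (x ^ 2 - 1) * (x ^ 5 - 1) * (x ^ 6 - 1) = -2 + x + x ^ 2 - x ^ 3 + 2 * x ^ 4 + 2 * x ^ 5 := by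
    rw [s2, p6]
    linear_combination (x + x ^ 2) * h
  have s4 : x ^ 36 * (x ^ 2 - 1) * (x ^ 5 - 1) * (x ^ 6 - 1) * (x ^ 8 - 1) = 3 + 3 * x ^ 3 := by
    rw [s3, p8]
    linear_combination (-1 - x + x ^ 2 - 2 * x ^ 3 - 2 * x ^ 4) * h
  have s5 : x ^ 36 * (x ^ 2 - 1) * (x ^ 5 - 1) * (x ^ 6 - 1) * (x ^ 8 - 1) * (x ^ 3 - 1) = -6 - 3 * x ^ 3 := by
    rw [s4]
    linear_combination (3) * h
  have s6 : x ^ 36 * (x ^ 2 - 1) * (x ^ 5 - 1) * (x ^ 6 - 1) * (x ^ 8 - 1) * (x ^ 3 - 1) * (x ^ 12 - 1) = 9 := by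
    rw [s5, p12]
    linear_combination (-3) * h
  rw [s6]

theorem mod_tE6_18 {R : Type*} [CommRing R] {x : R} (h : 1 - x ^ 3 + x ^ 6 = 0) :
    x ^ 36 * (x ^ 2 - 1) * (x ^ 5 + 1) * (x ^ 6 - 1) * (x ^ 8 - 1) * (x ^ 3 + 1) * (x ^ 12 - 1) = 9 := by
  have p6 : x ^ 6 = -1 + x ^ 3 := by
    rw [show x ^ 6 = x ^ 3 * x ^ 3 by ring]
    linear_combination (1) * h
  have p8 : x ^ 8 = -x ^ 2 + x ^ 5 := by
    rw [show x ^ 8 = x ^ 4 * x ^ 4 by ring]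
    linear_combination (x ^ 2) * h
  have p12 : x ^ 12 = -x ^ 3 := by
    rw [show x ^ 12 = x ^ 6 * x ^ 6 by ring, p6]
    linear_combination (1) * h
  have p9 : x ^ 9 = -1 := by
    rw [show x ^ 9 = x ^ 4 * x ^ 5 by ring]
    linear_combination (1 + x ^ 3) * h
  have p18 : x ^ 18 = 1 := by
    rw [show x ^ 18 = x ^ 9 * x ^ 9 by ring, p9]
    linear_combination (0) * h
  have p36 : x ^ 36 = 1 := by
    rw [show x ^ 36 = x ^ 18 * x ^ 18 by ring, p18]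
    linear_combination (0) * h
  have s0 : x ^ 36 = 1 := p36
  have s1 : x ^ 36 * (x ^ 2 - 1) = -1 + x ^ 2 := by
    rw [s0]
    linear_combination (0) * h
  have s2 : x ^ 36 * (x ^ 2 - 1) * (x ^ 5 + 1) = -1 - x + x ^ 2 + x ^ 4 - x ^ 5 := by
    rw [s1]
    linear_combination (x) * h
  have s3 : x ^ 36 * (x ^ 2 - 1) * (x ^ 5 + 1) * (x ^ 6 - 1) = 2 + x - x ^ 2 - x ^ 3 - 2 * x ^ 4 + 2 * x ^ 5 := by
    rw [s2, p6]
    linear_combination (x - x ^ 2) * h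
  have s4 : x ^ 36 * (x ^ 2 - 1) * (x ^ 5 + 1) * (x ^ 6 - 1) * (x ^ 8 - 1) = -3 + 3 * x ^ 3 := by
    rw [s3, p8]
    linear_combination (1 - x - x ^ 2 - 2 * x ^ 3 + 2 * x ^ 4) * h
  have s5 : x ^ 36 * (x ^ 2 - 1) * (x ^ 5 + 1) * (x ^ 6 - 1) * (x ^ 8 - 1) * (x ^ 3 + 1) = -6 + 3 * x ^ 3 := by
    rw [s4]
    linear_combination (3) * h
  have s6 : x ^ 36 * (x ^ 2 - 1) * (x ^ 5 + 1) * (x ^ 6 - 1) * (x ^ 8 - 1) * (x ^ 3 + 1) * (x ^ 12 - 1) = 9 := by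
    rw [s5, p12]
    linear_combination (-3) * h
  rw [s6]

theorem mod_D4_12 {R : Type*} [CommRing R] {x : R} (h : 1 - x ^ 2 + x ^ 4 = 0) :
    x ^ 12 * (x ^ 2 - 1) * (x ^ 6 - 1) * (1 + x ^ 2 + x ^ 4) = 4 := by
  have p4 : x ^ 4 = -1 + x ^ 2 := by
    rw [show x ^ 4 = x ^ 2 * x ^ 2 by ring]
    linear_combination (1) * h
  have p6 : x ^ 6 = -1 := by
    rw [show x ^ 6 = x ^ 3 * x ^ 3 by ring]
    linear_combination (1 + x ^ 2) * h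
  have p12 : x ^ 12 = 1 := by
    rw [show x ^ 12 = x ^ 6 * x ^ 6 by ring, p6]
    linear_combination (0) * h
  have s0 : x ^ 12 = 1 := p12
  have s1 : x ^ 12 * (x ^ 2 - 1) = -1 + x ^ 2 := by
    rw [s0]
    linear_combination (0) * h
  have s2 : x ^ 12 * (x ^ 2 - 1) * (x ^ 6 - 1) = 2 - 2 * x ^ 2 := by
    rw [s1, p6]
    linear_combination (0) * h
  have s3 : x ^ 12 * (x ^ 2 - 1) * (x ^ 6 - 1) * (1 + x ^ 2 + x ^ 4) = 4 := by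
    rw [s2, p4]
    linear_combination (-4) * h
  rw [s3]

theorem mod_E8_30 {R : Type*} [CommRing R] {x : R} (h : 1 + x - x ^ 3 - x ^ 4 - x ^ 5 + x ^ 7 + x ^ 8 = 0) :
    x ^ 120 * (x ^ 2 - 1) * (x ^ 8 - 1) * (x ^ 12 - 1) * (x ^ 14 - 1) * (x ^ 18 - 1) * (x ^ 20 - 1) * (x ^ 24 - 1) * (-1 + x - x ^ 2 - x ^ 5 + x ^ 6 - x ^ 7 + x ^ 15 - x ^ 16 + x ^ 17 + x ^ 20 - x ^ 21 + x ^ 22) = 30 := by
  have p8 : x ^ 8 = -1 - x + x ^ 3 + x ^ 4 + x ^ 5 - x ^ 7 := by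
    rw [show x ^ 8 = x ^ 4 * x ^ 4 by ring]
    linear_combination (1) * h
  have p12 : x ^ 12 = -x ^ 2 + x ^ 7 := by
    rw [show x ^ 12 = x ^ 6 * x ^ 6 by ring]
    linear_combination (x ^ 2 - x ^ 3 + x ^ 4) * h
  have p14 : x ^ 14 = 1 - x ^ 2 - x ^ 3 - x ^ 4 + x ^ 6 + x ^ 7 := by
    rw [show x ^ 14 = x ^ 7 * x ^ 7 by ring]
    linear_combination (-1 + x + x ^ 4 - x ^ 5 + x ^ 6) * h
  have p15 : x ^ 15 = -1 := by
    rw [show x ^ 15 = x ^ 7 * x ^ 8 by ring, p8]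
    linear_combination (1 - x + x ^ 2 + x ^ 5 - x ^ 6) * h
  have p16 : x ^ 16 = -x := by
    rw [show x ^ 16 = x ^ 8 * x ^ 8 by ring, p8]
    linear_combination (1 + 2 * x - x ^ 2 - x ^ 4 - x ^ 5 + x ^ 6) * h
  have p9 : x ^ 9 = 1 - x ^ 2 - x ^ 3 + x ^ 6 + x ^ 7 := by
    rw [show x ^ 9 = x ^ 4 * x ^ 5 by ring]
    linear_combination (-1 + x) * h
  have p17 : x ^ 17 = -x ^ 2 := by
    rw [show x ^ 17 = x ^ 8 * x ^ 9 by ring, p8, p9]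
    linear_combination (-1 + 2 * x ^ 2 + x ^ 4 - x ^ 6) * h
  have p18 : x ^ 18 = -x ^ 3 := by
    rw [show x ^ 18 = x ^ 9 * x ^ 9 by ring, p9]
    linear_combination (1 - x - x ^ 2 + x ^ 3 + x ^ 5 + x ^ 6) * h
  have p10 : x ^ 10 = -1 + x ^ 5 := by
    rw [show x ^ 10 = x ^ 5 * x ^ 5 by ring]
    linear_combination (1 - x + x ^ 2) * h
  have p20 : x ^ 20 = -x ^ 5 := by
    rw [show x ^ 20 = x ^ 10 * x ^ 10 by ring, p10]
    linear_combination (1 - x + x ^ 2) * h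
  have p11 : x ^ 11 = -x + x ^ 6 := by
    rw [show x ^ 11 = x ^ 5 * x ^ 6 by ring]
    linear_combination (x - x ^ 2 + x ^ 3) * h
  have p21 : x ^ 21 = -x ^ 6 := by
    rw [show x ^ 21 = x ^ 10 * x ^ 11 by ring, p10, p11]
    linear_combination (x - x ^ 2 + x ^ 3) * h
  have p22 : x ^ 22 = -x ^ 7 := by
    rw [show x ^ 22 = x ^ 11 * x ^ 11 by ring, p11]
    linear_combination (x ^ 2 - x ^ 3 + x ^ 4) * h
  have p24 : x ^ 24 = -1 + x ^ 2 + x ^ 3 - x ^ 6 - x ^ 7 := by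
    rw [show x ^ 24 = x ^ 12 * x ^ 12 by ring, p12]
    linear_combination (1 - x + x ^ 4 - x ^ 5 + x ^ 6) * h
  have p30 : x ^ 30 = 1 := by
    rw [show x ^ 30 = x ^ 15 * x ^ 15 by ring, p15]
    linear_combination (0) * h
  have p60 : x ^ 60 = 1 := by
    rw [show x ^ 60 = x ^ 30 * x ^ 30 by ring, p30]
    linear_combination (0) * h
  have p120 : x ^ 120 = 1 := by
    rw [show x ^ 120 = x ^ 60 * x ^ 60 by ring, p60]
    linear_combination (0) * h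
  have s0 : x ^ 120 = 1 := p120
  have s1 : x ^ 120 * (x ^ 2 - 1) = -1 + x ^ 2 := by
    rw [s0]
    linear_combination (0) * h
  have s2 : x ^ 120 * (x ^ 2 - 1) * (x ^ 8 - 1) = 1 + x - x ^ 2 - x ^ 3 - x ^ 4 + x ^ 7 := by
    rw [s1, p8]
    linear_combination (1 - x) * h
  have s3 : x ^ 120 * (x ^ 2 - 1) * (x ^ 8 - 1) * (x ^ 12 - 1) = -2 - x + x ^ 2 + 2 * x ^ 3 + 2 * x ^ 4 + x ^ 5 - x ^ 6 - 2 * x ^ 7 := by
    rw [s2, p12]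
    linear_combination (1 - x - x ^ 3 + x ^ 4 - x ^ 5 + x ^ 6) * h
  have s4 : x ^ 120 * (x ^ 2 - 1) * (x ^ 8 - 1) * (x ^ 12 - 1) * (x ^ 14 - 1) = 1 - x ^ 2 - 2 * x ^ 3 - x ^ 4 + x ^ 6 := by
    rw [s3, p14]
    linear_combination (-1 + x + 2 * x ^ 2 + 2 * x ^ 3 + x ^ 4 - x ^ 5 - 2 * x ^ 6) * h
  have s5 : x ^ 120 * (x ^ 2 - 1) * (x ^ 8 - 1) * (x ^ 12 - 1) * (x ^ 14 - 1) * (x ^ 18 - 1) = -2 + 2 * x ^ 2 + 2 * x ^ 3 + x ^ 4 + x ^ 5 := by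
    rw [s4, p18]
    linear_combination (1 - x) * h
  have s6 : x ^ 120 * (x ^ 2 - 1) * (x ^ 8 - 1) * (x ^ 12 - 1) * (x ^ 14 - 1) * (x ^ 18 - 1) * (x ^ 20 - 1) = 4 + 2 * x - x ^ 2 - 3 * x ^ 3 - 3 * x ^ 4 - 2 * x ^ 5 - x ^ 6 - x ^ 7 := by
    rw [s5, p20]
    linear_combination (-2 - x ^ 2) * h
  have s7 : x ^ 120 * (x ^ 2 - 1) * (x ^ 8 - 1) * (x ^ 12 - 1) * (x ^ 14 - 1) * (x ^ 18 - 1) * (x ^ 20 - 1) * (x ^ 24 - 1) = -8 - 7 * x + 5 * x ^ 3 + 4 * x ^ 4 + 3 * x ^ 5 - x ^ 7 := by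
    rw [s6, p24]
    linear_combination (3 * x + 3 * x ^ 2 + 4 * x ^ 3 + 2 * x ^ 4 + x ^ 5 + x ^ 6) * h
  have s8 : x ^ 120 * (x ^ 2 - 1) * (x ^ 8 - 1) * (x ^ 12 - 1) * (x ^ 14 - 1) * (x ^ 18 - 1) * (x ^ 20 - 1) * (x ^ 24 - 1) * (-1 + x - x ^ 2 - x ^ 5 + x ^ 6 - x ^ 7 + x ^ 15 - x ^ 16 + x ^ 17 + x ^ 20 - x ^ 21 + x ^ 22) = 30 := by
    rw [s7, p15, p16, p17, p20, p21, p22]
    linear_combination (-14 + 12 * x - 10 * x ^ 2 - 4 * x ^ 5 + 2 * x ^ 6) * h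
  rw [s8]

end Cfsg.Agent.H504.ZerosMod
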