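import Cfsg.Agent.H504.ZerosCyc
import Cfsg.Agent.H504.ZerosMod
import Cfsg.Agent.H129.CycT2
import Cfsg.Agent.S2382
import Cfsg.Agent.S1059
import Cfsg.Agent.S1062
import Cfsg.Agent.S1065
import Cfsg.Agent.H92.ExcOrd

/-!
# S4895: the rows `G₂(q)` (`q ≥ 4`), `F₄(q)`, `E₈(q)`
-/

set_option autoImplicit false

namespace Cfsg.Agent.H504.ZerosExc

open Cfsg Cfsg.Lie Cfsg.Agent.H504.Zeros Cfsg.Agent.H504.ZerosMod Cfsg.Agent.H129.CycT

theorem cast_sub {q d : ℕ} (hq : 1 ≤ q) : ((q ^ d - 1 : ℕ) : ℤ) = (q : ℤ) ^ d - 1 := by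
  rw [Nat.cast_sub (Nat.one_le_pow _ _ hq)]
  push_cast
  rfl

theorem zmod_zero {a : ℕ} {z : ℤ} (h : (a : ℤ) = z) : ((z : ℤ) : ZMod a) = 0 := by
  rw [← h]
  simp

section

variable {F : Type} [Field F] [Fintype F]

/-- the number of semisimple classes -/
theorem pow_le_classes (D : ChevalleyDatum) (hD : D ∈ [chevG2, chevF4, chevE8]) :
    Fintype.card F ^ D.rank ≤ Nat.card (ConjClasses ↥(D.group F)) := by
  obtain ⟨p, hp⟩ := CharP.exists F
  have hpr : Fact p.Prime := ⟨CharP.char_is_prime F p⟩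
  exact le_classes_of_subtype (Cfsg.Agent.S2382.result rfl p D hD)

/-- **`G₂(q)`, `q ≥ 4`** -/
theorem big_g2 (h4 : 4 ≤ Fintype.card F) : Big (chevG2.group F) := by
  set q := Fintype.card F with hq
  have hk : q ^ 2 ≤ Nat.card (ConjClasses ↥(chevG2.group F)) := pow_le_classes chevG2 (by simp)
  have hcard := Cfsg.Agent.S1059.result (F := F) hq.symm
  have hc : (Nat.card ↥(chevG2.group F) : ℤ) = (q : ℤ) ^ 6 * ((q : ℤ) ^ 2 - 1) * ((q : ℤ) ^ 6 - 1) := by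
    rw [hcard]
    push_cast [cast_sub (d := 2) (show 1 ≤ q by omega), cast_sub (d := 6) (show 1 ≤ q by omega)]
    ring
  by_cases h3 : q % 3 = 1
  · -- `Φ₆`
    obtain ⟨a, ha⟩ : ∃ a, a = q ^ 2 - q + 1 := ⟨_, rfl⟩
    have hle : q ≤ q ^ 2 := by nlinarith
    have haz : (a : ℤ) = 1 - (q : ℤ) + (q : ℤ) ^ 2 := by
      rw [ha]
      push_cast [Nat.cast_sub hle]
      ring
    have h3a : ¬ 3 ∣ a := by
      intro h
      have h5 : (3 : ℤ) ∣ 1 - (q : ℤ) + (q : ℤ) ^ 2 := by rw [← haz]; exact_mod_cast h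
      obtain ⟨c, hc'⟩ : ∃ c : ℤ, (q : ℤ) = 3 * c + 1 := ⟨(q : ℤ) / 3, by omega⟩
      rw [hc'] at h5
      ring_nf at h5
      omega
    refine big_of_exact (a := a) (e := 6) (k := q ^ 2) (exact_G2_6 hq.symm haz h3a) ?_ ?_
      (N := (q : ℤ) ^ 6 * ((q : ℤ) ^ 2 - 1) * (-1 - (q : ℤ) + (q : ℤ) ^ 3 + (q : ℤ) ^ 4)) ?_ ?_ hk ?_
    · nlinarith
    · nlinarith
    · rw [hc, haz]
      ring
    · have h5 := zmod_zero haz
      push_cast at h5 ⊢
      exact mod_G2_6 h5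
    · intro m hm
      have h5 : 6 * m = q ^ 2 - q := by omega
      have h6 : 6 * m + q = q ^ 2 := by omega
      have h7 : 2 ≤ m := by nlinarith
      refine ⟨h7, ?_⟩
      rcases Nat.lt_or_ge q 7 with h | h
      · have : q = 4 := by omega
        rw [this] at h6 ⊢
        have : m = 2 := by omega
        rw [this]
        norm_num
      · have h8 : 7 ≤ m := by nlinarith
        have h9 : 6 + m + 8 ≤ q ^ 2 := by nlinarith
        have h10 : 8 ≤ q ^ 2 - (6 + m) := by omega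
        calc 8 = 1 * 8 := rfl
          _ ≤ (m - 1) * (q ^ 2 - (6 + m)) := Nat.mul_le_mul (by omega) h10
  · -- `Φ₃`
    obtain ⟨a, ha⟩ : ∃ a, a = q ^ 2 + q + 1 := ⟨_, rfl⟩
    have haz : (a : ℤ) = 1 + (q : ℤ) + (q : ℤ) ^ 2 := by
      rw [ha]
      push_cast
      ring
    have h3a : ¬ 3 ∣ a := by
      intro h
      have h5 : (3 : ℤ) ∣ 1 + (q : ℤ) + (q : ℤ) ^ 2 := by rw [← haz]; exact_mod_cast h
      have h6 : q % 3 = 0 ∨ q % 3 = 2 := by omega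
      rcases h6 with h6 | h6
      · obtain ⟨c, hc'⟩ : ∃ c : ℤ, (q : ℤ) = 3 * c := ⟨(q : ℤ) / 3, by omega⟩
        rw [hc'] at h5
        ring_nf at h5
        omega
      · obtain ⟨c, hc'⟩ : ∃ c : ℤ, (q : ℤ) = 3 * c + 2 := ⟨(q : ℤ) / 3, by omega⟩
        rw [hc'] at h5
        ring_nf at h5
        omega
    refine big_of_exact (a := a) (e := 6) (k := q ^ 2) (exact_G2_3 hq.symm haz h3a) ?_ ?_
      (N := (q : ℤ) ^ 6 * ((q : ℤ) ^ 2 - 1) * (-1 + (q : ℤ) - (q : ℤ) ^ 3 + (q : ℤ) ^ 4)) ?_ ?_ hk ?_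
    · nlinarith
    · nlinarith
    · rw [hc, haz]
      ring
    · have h5 := zmod_zero haz
      push_cast at h5 ⊢
      exact mod_G2_3 h5
    · intro m hm
      have h6 : 6 * m = q ^ 2 + q := by omega
      have hq5 : 5 ≤ q := by
        by_contra h
        have : q = 4 := by omega
        omega
      have h7 : 5 ≤ m := by nlinarith
      refine ⟨by omega, ?_⟩
      have h9 : 6 + m + 2 ≤ q ^ 2 := by nlinarith
      have h10 : 2 ≤ q ^ 2 - (6 + m) := by omega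
      calc 8 = 4 * 2 := rfl
        _ ≤ (m - 1) * (q ^ 2 - (6 + m)) := Nat.mul_le_mul (by omega) h10

/-- semisimple classes and classes of different `p`-singular orders -/
theorem add_le_classes {G : Type*} [Group G] [Finite G] {p N : ℕ}
    (h : Nat.card {c : ConjClasses G // ∃ g : G, ConjClasses.mk g = c ∧ (orderOf g).Coprime p} = N)
    (s : Finset ℕ) (hs : ∀ n ∈ s, (∃ g : G, orderOf g = n) ∧ ¬ n.Coprime p) :
    N + s.card ≤ Nat.card (ConjClasses G) := by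
  classical
  obtain ⟨t, ht, htc, hto⟩ := exists_of_orders (G := G) s fun n hn => (hs n hn).1
  let f : {c : ConjClasses G // ∃ g : G, ConjClasses.mk g = c ∧ (orderOf g).Coprime p} ⊕ t →
      ConjClasses G := Sum.elim Subtype.val fun g => ConjClasses.mk (g : G)
  have hord : ∀ g h : G, ConjClasses.mk g = ConjClasses.mk h → orderOf g = orderOf h := by
    intro g h he
    obtain ⟨c, rfl⟩ := isConj_iff.1 (ConjClasses.mk_eq_mk_iff_isConj.1 he)
    exact ((MulAut.conj c).orderOf_eq g).symm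
  have hf : Function.Injective f := by
    rintro (⟨c, g, hg, hgp⟩ | ⟨g, hg⟩) (⟨d, g', hg', hgp'⟩ | ⟨g', hg'⟩) he
    · have he' : c = d := he
      subst he'
      rfl
    · have he' : c = ConjClasses.mk g' := he
      rw [← hg] at he'
      exact absurd (hord _ _ he' ▸ hgp) (hs _ (hto g' hg')).2
    · have he' : ConjClasses.mk g = d := he
      rw [← hg'] at he'
      exact absurd ((hord _ _ he').symm ▸ hgp') (hs _ (hto g hg)).2
    · have he' : ConjClasses.mk g = ConjClasses.mk g' := he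
      have := ht g hg g' hg' (ConjClasses.mk_eq_mk_iff_isConj.1 he')
      subst this
      rfl
  have h1 := Nat.card_le_card_of_injective f hf
  rw [Nat.card_sum, h, Nat.card_eq_fintype_card, Fintype.card_coe, htc] at h1
  exact h1

/-- **`F₄(q)`** -/
theorem big_f4 : Big (chevF4.group F) := by
  set q := Fintype.card F with hq
  have hq2 : 2 ≤ q := Fintype.one_lt_card
  have hk : q ^ 4 ≤ Nat.card (ConjClasses ↥(chevF4.group F)) := pow_le_classes chevF4 (by simp)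
  have hcard := Cfsg.Agent.S1062.result (F := F) hq.symm
  have hc : (Nat.card ↥(chevF4.group F) : ℤ) = (q : ℤ) ^ 24 * ((q : ℤ) ^ 2 - 1) *
      ((q : ℤ) ^ 6 - 1) * ((q : ℤ) ^ 8 - 1) * ((q : ℤ) ^ 12 - 1) := by
    rw [hcard]
    push_cast [cast_sub (d := 2) (show 1 ≤ q by omega), cast_sub (d := 6) (show 1 ≤ q by omega),
      cast_sub (d := 8) (show 1 ≤ q by omega), cast_sub (d := 12) (show 1 ≤ q by omega)]
    ring
  rcases Nat.eq_or_lt_of_le hq2 with h2 | h3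
  · -- `q = 2`
    have hF2 : (2 : F) = 0 := by
      have h := FiniteField.cast_card_eq_zero F
      rw [← hq, ← h2] at h
      exact_mod_cast h
    have hp2 : Fact (Nat.Prime 2) := ⟨Nat.prime_two⟩
    have hch : CharP F 2 := by
      refine CharTwo.of_one_ne_zero_of_two_eq_zero one_ne_zero hF2
    obtain ⟨o4, o6, o12⟩ := Cfsg.Agent.H92.ExcOrd.f4_two hF2
    have hk' := add_le_classes (Cfsg.Agent.S2382.result hq.symm 2 chevF4 (by simp)) {4, 6, 12} (by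
      intro n hn
      simp only [Finset.mem_insert, Finset.mem_singleton] at hn
      rcases hn with rfl | rfl | rfl
      · exact ⟨o4, by decide⟩
      · exact ⟨o6, by decide⟩
      · exact ⟨o12, by decide⟩)
    have hk2 : 19 ≤ Nat.card (ConjClasses ↥(chevF4.group F)) := by
      refine le_trans ?_ hk'
      rw [← h2]
      decide
    have haz : ((17 : ℕ) : ℤ) = 1 + (q : ℤ) ^ 4 := by
      rw [← h2]
      norm_num
    refine big_of_exact (a := 17) (e := 8) (k := 19) (exact_F4_8 hq.symm haz (by norm_num))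
      (by norm_num) (by norm_num)
      (N := (q : ℤ) ^ 24 * ((q : ℤ) ^ 2 - 1) * ((q : ℤ) ^ 6 - 1) * ((q : ℤ) ^ 4 - 1) *
        ((q : ℤ) ^ 12 - 1)) ?_ ?_ hk2 ?_
    · rw [hc, haz]
      ring
    · have h5 := zmod_zero haz
      push_cast at h5 ⊢
      exact mod_F4_8 h5
    · intro m hm
      have : m = 2 := by omega
      rw [this]
      norm_num
  · -- `q ≥ 3`
    obtain ⟨a, ha⟩ : ∃ a, a = q ^ 4 - q ^ 2 + 1 := ⟨_, rfl⟩
    have h9 : 9 ≤ q ^ 2 := by nlinarith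
    have h4 : q ^ 4 = q ^ 2 * q ^ 2 := by ring
    have hle : q ^ 2 ≤ q ^ 4 := by nlinarith
    have haz : (a : ℤ) = 1 - (q : ℤ) ^ 2 + (q : ℤ) ^ 4 := by
      rw [ha]
      push_cast [Nat.cast_sub hle]
      ring
    have ha' : a + q ^ 2 = q ^ 4 + 1 := by omega
    refine big_of_exact (a := a) (e := 12) (k := q ^ 4) (exact_F4_12 hq.symm haz) ?_ ?_
      (N := (q : ℤ) ^ 24 * ((q : ℤ) ^ 2 - 1) * ((q : ℤ) ^ 6 - 1) * ((q : ℤ) ^ 8 - 1) *
        (-1 - (q : ℤ) ^ 2 + (q : ℤ) ^ 6 + (q : ℤ) ^ 8)) ?_ ?_ hk ?_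
    · nlinarith
    · nlinarith
    · rw [hc, haz]
      ring
    · have h5 := zmod_zero haz
      push_cast at h5 ⊢
      exact mod_F4_12 h5
    · intro m hm
      have h5 : 12 * m + q ^ 2 = q ^ 4 := by omega
      have h6 : 6 ≤ m := by nlinarith
      refine ⟨by omega, ?_⟩
      have h10 : 2 ≤ q ^ 4 - (12 + m) := by
        have : 12 * m ≤ q ^ 4 := by omega
        have : 81 ≤ q ^ 4 := by nlinarith
        omega
      calc 8 ≤ 5 * 2 := by norm_num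
        _ ≤ (m - 1) * (q ^ 4 - (12 + m)) := Nat.mul_le_mul (by omega) h10

/-- **`E₈(q)`** -/
theorem big_e8 : Big (chevE8.group F) := by
  set q := Fintype.card F with hq
  have hq2 : 2 ≤ q := Fintype.one_lt_card
  have hk : q ^ 8 ≤ Nat.card (ConjClasses ↥(chevE8.group F)) := pow_le_classes chevE8 (by simp)
  have hcard := Cfsg.Agent.S1065.result (F := F) hq.symm
  have hc : (Nat.card ↥(chevE8.group F) : ℤ) = (q : ℤ) ^ 120 * ((q : ℤ) ^ 2 - 1) *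
      ((q : ℤ) ^ 8 - 1) * ((q : ℤ) ^ 12 - 1) * ((q : ℤ) ^ 14 - 1) * ((q : ℤ) ^ 18 - 1) *
      ((q : ℤ) ^ 20 - 1) * ((q : ℤ) ^ 24 - 1) * ((q : ℤ) ^ 30 - 1) := by
    rw [hcard, Nat.cast_mul, Nat.cast_mul, Nat.cast_mul, Nat.cast_mul, Nat.cast_mul, Nat.cast_mul,
      Nat.cast_mul, Nat.cast_mul, cast_sub (by omega), cast_sub (by omega), cast_sub (by omega),
      cast_sub (by omega), cast_sub (by omega), cast_sub (by omega), cast_sub (by omega),
      cast_sub (by omega), Nat.cast_pow]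
  -- powers of `q`
  obtain ⟨t, ht⟩ : ∃ t, t = q ^ 3 := ⟨_, rfl⟩
  have e4 : q ^ 4 = q * t := by rw [ht]; ring
  have e5 : q ^ 5 = q * (q * t) := by rw [ht]; ring
  have e7 : q ^ 7 = q * (t * t) := by rw [ht]; ring
  have e8 : q ^ 8 = q * (q * (t * t)) := by rw [ht]; ring
  have t8 : 8 ≤ t := by
    rw [ht]
    calc 8 = 2 ^ 3 := by norm_num
      _ ≤ q ^ 3 := Nat.pow_le_pow_left hq2 3
  have f5 : q ^ 5 + q ^ 4 + q ^ 3 ≤ q ^ 7 := by
    rw [e4, e5, e7, ← ht]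
    nlinarith [Nat.mul_le_mul_left t t8, Nat.mul_le_mul_left (q * t) t8, Nat.mul_le_mul hq2 hq2]
  have f7 : 2 * q ^ 7 ≤ q ^ 8 := by
    rw [e8, e7]
    exact Nat.mul_le_mul_right _ hq2
  have f8 : 256 ≤ q ^ 8 := by
    calc 256 = 2 ^ 8 := by norm_num
      _ ≤ q ^ 8 := Nat.pow_le_pow_left hq2 8
  have f1 : q ≤ q ^ 3 := by
    calc q = q ^ 1 := (pow_one q).symm
      _ ≤ q ^ 3 := Nat.pow_le_pow_right (by omega) (by norm_num)
  obtain ⟨a, ha⟩ : ∃ a, a = q ^ 8 + (q ^ 7 - (q ^ 5 + q ^ 4 + q ^ 3)) + q + 1 := ⟨_, rfl⟩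
  have haz : (a : ℤ) = 1 + (q : ℤ) - (q : ℤ) ^ 3 - (q : ℤ) ^ 4 - (q : ℤ) ^ 5 + (q : ℤ) ^ 7 +
      (q : ℤ) ^ 8 := by
    rw [ha]
    push_cast [Nat.cast_sub f5]
    ring
  refine big_of_exact (a := a) (e := 30) (k := q ^ 8) (exact_E8_30 hq.symm haz) ?_ ?_
    (N := (q : ℤ) ^ 120 * ((q : ℤ) ^ 2 - 1) *
      ((q : ℤ) ^ 8 - 1) * ((q : ℤ) ^ 12 - 1) * ((q : ℤ) ^ 14 - 1) * ((q : ℤ) ^ 18 - 1) *
      ((q : ℤ) ^ 20 - 1) * ((q : ℤ) ^ 24 - 1) * (-1 + (q : ℤ) - (q : ℤ) ^ 2 - (q : ℤ) ^ 5 + (q : ℤ) ^ 6 - (q : ℤ) ^ 7 + (q : ℤ) ^ 15 - (q : ℤ) ^ 16 + (q : ℤ) ^ 17 + (q : ℤ) ^ 20 - (q : ℤ) ^ 21 + (q : ℤ) ^ 22)) ?_ ?_ hk ?_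
  · omega
  · omega
  · rw [hc, haz]
    have h30 : ((q : ℤ) ^ 30 - 1) = (1 + (q : ℤ) - (q : ℤ) ^ 3 - (q : ℤ) ^ 4 - (q : ℤ) ^ 5 +
      (q : ℤ) ^ 7 + (q : ℤ) ^ 8) * (-1 + (q : ℤ) - (q : ℤ) ^ 2 - (q : ℤ) ^ 5 + (q : ℤ) ^ 6 - (q : ℤ) ^ 7 + (q : ℤ) ^ 15 - (q : ℤ) ^ 16 + (q : ℤ) ^ 17 + (q : ℤ) ^ 20 - (q : ℤ) ^ 21 + (q : ℤ) ^ 22) := by ring
    rw [h30]
    ring
  · have h5 := zmod_zero haz
    push_cast at h5 ⊢
    exact mod_E8_30 h5
  · intro m hm
    have h5 : 30 * m = q ^ 8 + (q ^ 7 - (q ^ 5 + q ^ 4 + q ^ 3)) + q := by omega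
    have h6 : 9 ≤ m := by omega
    refine ⟨by omega, ?_⟩
    have h10 : 1 ≤ q ^ 8 - (30 + m) := by omega
    calc 8 ≤ 8 * 1 := by norm_num
      _ ≤ (m - 1) * (q ^ 8 - (30 + m)) := Nat.mul_le_mul (by omega) h10

end

end Cfsg.Agent.H504.ZerosExc
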