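import Cfsg.Agent.H504.ZerosLie
import Cfsg.Agent.H504.ZerosCyc
import Cfsg.Agent.H504.ZerosExc
import Cfsg.Agent.H92.ExcThree
import Cfsg.Agent.S1055

/-!
# S4895: the row `G₂(3)`, hence `G₂(q)`
-/

set_option autoImplicit false

namespace Cfsg.Agent.H504.Zeros

open Cfsg Cfsg.Lie Cfsg.Agent.H504.ZeroTI

/-- a `CC`-subgroup together with a character of defect zero -/
theorem big_of_ti_dz {G : Type*} [Group G] [Finite G] {p : ℕ} [Fact p.Prime]
    (hdz : Cfsg.Agent.H665.NoPQ.HasDZ p G) {A : Subgroup G} (hA : CC A)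
    (hpA : ¬ p ∣ Nat.card A) {e m k : ℕ} (he : eIdx A = e)
    (hm : 2 ≤ m) (hem : Nat.card A = e * m + 1) (hk : k ≤ Nat.card (ConjClasses G))
    (t : Finset G) (ht : NonConj t) (htp : ∀ g ∈ t, p ∣ orderOf g)
    (h : 8 ≤ (m - 1) * (k - (e + m)) + (t.card - 1)) : Big G := by
  obtain ⟨s, hs, hsc, hsA⟩ := exists_reps (m := m) hA (by rw [he]; exact hem)
  obtain ⟨χ, hχ⟩ := hdz
  have hdis : ∀ g ∈ s, ∀ h ∈ t, ¬ IsConj g h := by
    intro g hg h hh hc
    have h1 : orderOf g = orderOf h := by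
      obtain ⟨c, rfl⟩ := isConj_iff.1 hc
      exact ((MulAut.conj c).orderOf_eq g).symm
    have h2 : orderOf g ∣ Nat.card A := by
      have := orderOf_dvd_natCard (⟨g, (hsA g hg).1⟩ : A)
      rwa [← Subgroup.orderOf_coe] at this
    exact hpA ((h1 ▸ htp h hh).trans h2)
  refine big_of_family (ι := Bool) Finset.univ (fun b => if b then s else t) ?_
    (fun b => if b then (NV A)ᶜ else {χ}) ?_ ?_
  · intro i _ j _ g hg h hh hc
    cases i <;> cases j <;> simp only [if_true, if_false, Bool.false_eq_true] at hg hh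
    · exact ⟨rfl, ht g hg h hh hc⟩
    · exact absurd hc.symm (hdis h hh g hg)
    · exact absurd hc (hdis g hg h hh)
    · exact ⟨rfl, hs g hg h hh hc⟩
  · intro i _ ψ hψ g hg
    cases i <;> simp only [if_true, if_false, Bool.false_eq_true] at hg hψ
    · rw [Set.mem_singleton_iff] at hψ
      rw [hψ]
      exact Cfsg.Agent.H713.irr_zero_of_singular hχ (htp g hg)
    · exact apply_eq_zero_of_compl hψ (hsA g hg).1 (hsA g hg).2
  · rw [Fintype.sum_bool]
    simp only [if_true, if_false, Bool.false_eq_true]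
    rw [hsc, Set.ncard_singleton, mul_one]
    exact h.trans (Nat.add_le_add_right (Nat.mul_le_mul_left _ (le_ncard_compl hA he hm hem hk)) _)

/-- a list of pairwise non-conjugate elements as a finite set -/
theorem exists_finset_of_pairwise {G : Type*} [Group G] (l : List G)
    (h : l.Pairwise fun x y => ¬ IsConj x y) :
    ∃ s : Finset G, NonConj s ∧ s.card = l.length ∧ ∀ g ∈ s, g ∈ l := by
  classical
  have hnd : l.Nodup := by
    refine List.Pairwise.imp (fun {x y} hxy e => ?_) h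
    subst e
    exact hxy (IsConj.refl x)
  refine ⟨l.toFinset, ?_, List.toFinset_card_of_nodup hnd, fun g hg => List.mem_toFinset.1 hg⟩
  intro g hg k hk hc
  by_contra hne
  have h1 := List.mem_toFinset.1 hg
  have h2 := List.mem_toFinset.1 hk
  have h3 : ∀ x ∈ l, ∀ y ∈ l, x ≠ y → ¬ IsConj x y := by
    have hsym : Std.Symm (fun x y : G => ¬ IsConj x y) := ⟨fun x y hxy hc => hxy hc.symm⟩
    intro x hx y hy hxy
    exact h.forall hx hy hxy
  exact h3 g h1 k h2 hne hc

end Cfsg.Agent.H504.Zeros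

namespace Cfsg.Agent.H504.ZerosG23

open Cfsg Cfsg.Lie Cfsg.Agent.H504.Zeros Cfsg.Agent.H504.ZeroTI Cfsg.Agent.H129.CycT
open Cfsg.Agent.H92.ExcThree Cfsg.Agent.ChevalleyStructure.Elts Cfsg.Agent.H92.ExcSL2 Cfsg.Agent.H92.ExcOrd

attribute [local instance] fact3

/-- six classes of elements of order divisible by three -/
theorem six {T : Type*} [Group T] [Finite T] {a b t s : T} (ha : orderOf a = 3) (hb : orderOf b = 3)
    (ht : orderOf t = 4) (hs : orderOf s = 4) (hat : Commute a t) (hbs : Commute b s)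
    (hab : ¬ IsConj a b) : ∃ S : Finset T, NonConj S ∧ S.card = 6 ∧ ∀ g ∈ S, 3 ∣ orderOf g := by
  have e1 : orderOf (a * t) = 12 := by
    rw [hat.orderOf_mul_eq_mul_orderOf_of_coprime (by rw [ha, ht]; decide), ha, ht]
  have e2 : orderOf (b * s) = 12 := by
    rw [hbs.orderOf_mul_eq_mul_orderOf_of_coprime (by rw [hb, hs]; decide), hb, hs]
  have f1 : orderOf ((a * t) ^ 2) = 6 := by rw [orderOf_pow, e1]; decide
  have f2 : orderOf ((b * s) ^ 2) = 6 := by rw [orderOf_pow, e2]; decide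
  have g1 : (a * t) ^ 4 = a := pow_four_aux hat ha ht
  have g2 : (b * s) ^ 4 = b := pow_four_aux hbs hb hs
  have n1 : ¬ IsConj (a * t) (b * s) := fun h => hab (by have := h.pow 4; rwa [g1, g2] at this)
  have n2 : ¬ IsConj ((a * t) ^ 2) ((b * s) ^ 2) := fun h => hab (by
    have := h.pow 2
    rwa [← pow_mul, ← pow_mul, g1, g2] at this)
  have key : ∀ {x y : T}, orderOf x ≠ orderOf y → ¬ IsConj x y := fun h hc =>
    h (Cfsg.Agent.H92.KTools.orderOf_eq_of_isConj hc)
  obtain ⟨S, hS, hc, hm⟩ := exists_finset_of_pairwise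
    [a * t, b * s, (a * t) ^ 2, (b * s) ^ 2, a, b] (by
      simp only [List.pairwise_cons, List.mem_cons, List.not_mem_nil, or_false, forall_eq_or_imp,
        forall_eq, List.Pairwise.nil, and_true, IsEmpty.forall_iff, implies_true]
      refine ⟨⟨n1, key ?_, key ?_, key ?_, key ?_⟩, ⟨key ?_, key ?_, key ?_, key ?_⟩,
        ⟨n2, key ?_, key ?_⟩, ⟨key ?_, key ?_⟩, hab⟩ <;>
      simp only [e1, e2, f1, f2, ha, hb] <;> decide)
  refine ⟨S, hS, hc, fun g hg => ?_⟩
  have := hm g hg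
  simp only [List.mem_cons, List.not_mem_nil, or_false] at this
  rcases this with rfl | rfl | rfl | rfl | rfl | rfl
  · rw [e1]; decide
  · rw [e2]; decide
  · rw [f1]; decide
  · rw [f2]; decide
  · rw [ha]
  · rw [hb]

/-- the same for a subgroup -/
theorem six' {L : Type*} [Group L] (G : Subgroup L) [Finite G] {a b t s : L} (haG : a ∈ G)
    (hbG : b ∈ G) (htG : t ∈ G) (hsG : s ∈ G) (ha : orderOf a = 3) (hb : orderOf b = 3)
    (ht : orderOf t = 4) (hs : orderOf s = 4) (hat : Commute a t) (hbs : Commute b s)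
    (hab : ¬ IsConj a b) : ∃ S : Finset G, NonConj S ∧ S.card = 6 ∧ ∀ g ∈ S, 3 ∣ orderOf g := by
  have key : ∀ (x : L) (hx : x ∈ G), orderOf (⟨x, hx⟩ : G) = orderOf x := fun x hx =>
    (orderOf_injective G.subtype G.subtype_injective ⟨x, hx⟩).symm
  exact six (a := ⟨a, haG⟩) (b := ⟨b, hbG⟩) (t := ⟨t, htG⟩) (s := ⟨s, hsG⟩) ((key _ _).trans ha)
    ((key _ _).trans hb) ((key _ _).trans ht) ((key _ _).trans hs) (Subtype.ext hat) (Subtype.ext hbs)
    (fun h => hab (G.subtype.map_isConj h))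

theorem six_g2 : ∃ S : Finset ↥(chevG2.group (ZMod 3)), NonConj S ∧ S.card = 6 ∧
    ∀ g ∈ S, 3 ∣ orderOf g :=
  six' (chevG2.group (ZMod 3)) (a := xG hG2 11 1) (b := xG hG2 9 1) (t := nG hG2 7 1)
    (s := nG hG2 6 1) (xG_mem_group hG2 _ _) (xG_mem_group hG2 _ _) (nG_mem_group hG2 _ _)
    (nG_mem_group hG2 _ _) (orderOf_xG hG2 (by decide) 3) (orderOf_xG hG2 (by decide) 3)
    (ord_wel (i := 0) (t := 6) (by decide) (by decide) (by decide) (by decide) rfl)
    (ord_wel (i := 1) (t := 7) (by decide) (by decide) (by decide) (by decide) rfl)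
    (com_wel (by decide) (by decide) (by decide)) (com_wel (by decide) (by decide) (by decide))
    long_short

theorem big_g2_three' : Big ↥(chevG2.group (ZMod 3)) := by
  have h3 : Fintype.card (ZMod 3) = 3 := ZMod.card 3
  have hcard := Cfsg.Agent.S1059.result (F := ZMod 3) h3
  have hcard' : Nat.card ↥(chevG2.group (ZMod 3)) = 4245696 := by
    rw [hcard]
    norm_num
  have hk := k_g2_three (by rw [hcard']; norm_num) (by rw [hcard']; norm_num)
  have hs : IsSimpleGroup ↥(chevG2.group (ZMod 3)) :=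
    (Cfsg.Agent.S1055.result (F := ZMod 3) ⟨2, by decide, by decide⟩).1
  have hL : IsLieTypeChar 3 ↥(chevG2.group (ZMod 3)) := by
    refine Or.inr (Or.inr (Or.inr (Or.inr (Or.inr (Or.inr (Or.inl
      ⟨ZMod 3, inferInstance, inferInstance, inferInstance, ?_⟩))))))
    exact Or.inl ⟨by rw [h3], ⟨MulEquiv.refl _⟩⟩
  have hdz := hasDZ_of_hasSt (Cfsg.Agent.H167.StChar.hasSt_of_lie Nat.prime_three hL)
  obtain ⟨S, hS, hSc, hSp⟩ := six_g2
  have haz : ((13 : ℕ) : ℤ) = 1 + ((3 : ℕ) : ℤ) + ((3 : ℕ) : ℤ) ^ 2 := by norm_num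
  obtain ⟨T, hT, hTc, hz⟩ := exact_G2_3 (F := ZMod 3) h3 haz (by norm_num)
  have hA := cc_of_cyclic hT hz
  have he : eIdx T = 6 := by
    have h1 := eIdx_eq_mod hA (by rw [hTc]; norm_num) (n := 326592) (by rw [hTc, hcard'])
    rw [h1, hTc]
  refine big_of_ti_dz hdz hA (by rw [hTc]; norm_num) (m := 2) he le_rfl (by rw [hTc]) hk S hS hSp ?_
  rw [hSc]
  norm_num

/-- **The row `G₂(q)`.** -/
theorem big_g2 {F : Type} [Field F] [Fintype F] (h3 : 3 ≤ Fintype.card F) :
    Big (chevG2.group F) := by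
  rcases Nat.eq_or_lt_of_le h3 with h | h
  · have h' : Fintype.card F = Fintype.card (ZMod 3) := by rw [← h, ZMod.card]
    have e2 : F ≃+* ZMod 3 := FiniteField.ringEquivOfCardEq h'
    exact Big.of_equiv (Cfsg.Agent.ChevalleyStructure.FieldIso.groupEquiv chevG2 e2) big_g2_three'
  · exact Cfsg.Agent.H504.ZerosExc.big_g2 h

end Cfsg.Agent.H504.ZerosG23
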