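import Mathlib
import Cfsg.Agent.Transfer.NormalPComplement

/-!
# Small tools: `p'`-elements, coprime orders, permutations of at most four points
-/

set_option autoImplicit false

namespace Cfsg.Agent.H504.Basics

open Subgroup

/-- If every `p'`-element of `K` is killed by `φ`, then `K.map φ` is a `p`-group. -/
theorem isPGroup_map_of_coprime {Y M : Type*} [Group Y] [Finite Y] [Group M] {p : ℕ}
    [hp : Fact p.Prime] (φ : Y →* M) (K : Subgroup Y)
    (h : ∀ y ∈ K, (orderOf y).Coprime p → φ y = 1) : IsPGroup p (K.map φ) := by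
  rw [isPGroup_iff_pow_pow_eq_one]
  rintro ⟨_, y, hy, rfl⟩
  refine ⟨(orderOf y).factorization p, ?_⟩
  apply Subtype.ext
  have h1 := h (y ^ (p ^ (orderOf y).factorization p)) (K.pow_mem hy _)
    (Cfsg.Agent.Transfer.NormalPComplement.coprime_orderOf_pow_ordProj (isOfFinOrder_of_finite y))
  rw [map_pow] at h1
  simpa using h1

/-- An element of order prime to `p` whose image lies in a `p`-subgroup is killed. -/
theorem map_eq_one_of_mem {Y M : Type*} [Group Y] [Group M] {p : ℕ}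
    [hp : Fact p.Prime] (φ : Y →* M) {Q : Subgroup M} (hQ : IsPGroup p Q) {x : Y}
    (hx : (orderOf x).Coprime p) (hxQ : φ x ∈ Q) : φ x = 1 := by
  obtain ⟨k, hk⟩ := isPGroup_iff_pow_pow_eq_one.mp hQ ⟨φ x, hxQ⟩
  have hk' : (φ x) ^ p ^ k = 1 := by simpa using congrArg Subtype.val hk
  have h1 : orderOf (φ x) ∣ orderOf x := orderOf_map_dvd φ x
  have h2 : orderOf (φ x) ∣ p ^ k := orderOf_dvd_of_pow_eq_one hk'
  have h3 : Nat.Coprime (orderOf x) (p ^ k) := hx.pow_right k
  rw [← orderOf_eq_one_iff]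
  exact Nat.eq_one_of_dvd_coprimes h3 h1 h2

/-- If `Y = N K` with `N` normal and all `p'`-elements of `N` and of `K` killed by `φ`, then all
`p'`-elements are killed. -/
theorem map_eq_one_of_sup {Y M : Type*} [Group Y] [Finite Y] [Group M] {p : ℕ}
    [hp : Fact p.Prime] (φ : Y →* M) (N K : Subgroup Y) [N.Normal]
    (hN : IsPGroup p (N.map φ)) (hK : IsPGroup p (K.map φ)) (hNK : N ⊔ K = ⊤) {x : Y}
    (hx : (orderOf x).Coprime p) : φ x = 1 := by
  have hle : K.map φ ≤ normalizer (N.map φ : Set M) := by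
    rw [le_normalizer_iff]
    rintro _ ⟨k, -, rfl⟩ _ ⟨n, hn, rfl⟩
    refine ⟨k * n * k⁻¹, ‹N.Normal›.conj_mem n hn k, ?_⟩
    simp
  have h1 : IsPGroup p (N.map φ ⊔ K.map φ : Subgroup M) := hN.to_sup_of_normal_left' hK hle
  rw [← Subgroup.map_sup, hNK] at h1
  exact map_eq_one_of_mem φ h1 hx (mem_map_of_mem φ (mem_top x))

/-- `p'`-elements of the quotient by a normal `p`-subgroup lift to `p'`-elements. -/
theorem exists_lift_coprime {Y : Type*} [Group Y] [Finite Y] {p : ℕ}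
    [hp : Fact p.Prime] (H : Subgroup Y) [H.Normal] {y : Y}
    (hy : (orderOf (y : Y ⧸ H)).Coprime p) :
    ∃ n : ℕ, (orderOf (y ^ n)).Coprime p ∧ ((y ^ n : Y) : Y ⧸ H) = (y : Y ⧸ H) := by
  -- `k = p`-part of the order of `y`
  set k := p ^ (orderOf y).factorization p with hk
  have h1 : (orderOf (y ^ k)).Coprime p :=
    Cfsg.Agent.Transfer.NormalPComplement.coprime_orderOf_pow_ordProj (isOfFinOrder_of_finite y)
  have h2 : Nat.Coprime k (orderOf (y : Y ⧸ H)) := (hy.pow_right _).symm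
  -- invert `k` modulo the order of the image
  obtain ⟨j, hj⟩ : ∃ j : ℕ, k * j ≡ 1 [MOD orderOf (y : Y ⧸ H)] := by
    obtain ⟨j, -, hj⟩ := Nat.exists_mul_mod_eq_of_coprime 1 h2 (orderOf_pos _).ne'
    exact ⟨j, hj⟩
  refine ⟨k * j, ?_, ?_⟩
  · rw [pow_mul]
    exact Nat.Coprime.coprime_dvd_left (orderOf_pow_dvd j) h1
  · rw [QuotientGroup.mk_pow]
    conv_rhs => rw [← pow_one (y : Y ⧸ H)]
    exact pow_eq_pow_iff_modEq.mpr hj

/-- A permutation of at most four points of odd order prime to `3` is trivial. -/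
theorem perm_eq_one {X : Type*} [Finite X] (hX : Nat.card X ≤ 4) (σ : Equiv.Perm X) {m : ℕ}
    (hm : σ ^ m = 1) (h2 : Odd m) (h3 : ¬ 3 ∣ m) : σ = 1 := by
  have h4 : orderOf σ ∣ Nat.card (Equiv.Perm X) := orderOf_dvd_natCard σ
  rw [Nat.card_perm] at h4
  have h5 : (Nat.card X).factorial ∣ 24 := by
    have h : (Nat.card X).factorial ∣ (4).factorial := Nat.factorial_dvd_factorial hX
    have h' : (4).factorial = 24 := by decide
    rwa [h'] at h
  have h6 : orderOf σ ∣ 24 := h4.trans h5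
  have h7 : orderOf σ ∣ m := orderOf_dvd_of_pow_eq_one hm
  have h8 : Nat.Coprime m 24 := by
    have : (24 : ℕ) = 2 ^ 3 * 3 := by norm_num
    rw [this]
    refine Nat.Coprime.mul_right ?_ ?_
    · exact Nat.Coprime.pow_right 3 ((Nat.coprime_two_right).mpr h2)
    · exact ((Nat.Prime.coprime_iff_not_dvd Nat.prime_three).mpr h3).symm
  rw [← orderOf_eq_one_iff]
  exact Nat.eq_one_of_dvd_coprimes h8 h7 h6

/-- If `x ∈ h T` with `h` normalising `T` and the orders of `x` and `h` coprime then `x ∈ T`. -/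
theorem mem_of_coprime {Γ : Type*} [Group Γ] {T : Subgroup Γ} {h x : Γ}
    (hh : h ∈ normalizer (T : Set Γ)) (hx : h⁻¹ * x ∈ T)
    (hcop : (orderOf x).Coprime (orderOf h)) : x ∈ T := by
  have key : ∀ n : ℕ, (h ^ n)⁻¹ * x ^ n ∈ T := by
    intro n
    induction n with
    | zero => simp
    | succ n ih =>
      have h1 : (h ^ (n + 1))⁻¹ * x ^ (n + 1) =
          ((h ^ n)⁻¹ * (h⁻¹ * x) * h ^ n) * ((h ^ n)⁻¹ * x ^ n) := by
        rw [pow_succ', pow_succ']; group
      rw [h1]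
      refine T.mul_mem ?_ ih
      have h2 : (h ^ n)⁻¹ ∈ normalizer (T : Set Γ) := inv_mem (pow_mem hh n)
      have := (mem_normalizer_iff.mp h2 (h⁻¹ * x)).mp hx
      simpa using this
  obtain ⟨n, hn1, hn2⟩ := Nat.chineseRemainder hcop 1 0
  have h3 : x ^ n = x := by
    conv_rhs => rw [← pow_one x]
    exact pow_eq_pow_iff_modEq.mpr hn1
  have h4 : h ^ n = 1 := by
    have : h ^ n = h ^ 0 := pow_eq_pow_iff_modEq.mpr hn2
    simpa using this
  have := key n
  rw [h3, h4] at this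
  simpa using this

end Cfsg.Agent.H504.Basics
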