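import Mathlib
import Cfsg.Agent.S0056
import Cfsg.Agent.S0058
import Cfsg.Agent.H504.Basics

/-!
# The normaliser of a maximal "bad" subgroup when the Sylow `2`-subgroup has class two

`structure_of_maximal`: `Y` is a finite group with a normal `2`-subgroup `H` and a self-normalising
Sylow `2`-subgroup `P` of class at most two containing `C_P(H)`.  If for every `2`-subgroup `K > H`
the elements of odd order in `N(K)` centralise `H`, but some `x` of odd order does not, then
`[Y, H] ≤ Z(H)`, the index of `H` in `P` is two, and `P \ H` inverts `x` modulo `H`.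
-/

set_option autoImplicit false

namespace Cfsg.Agent.H504.MaxBad

open Subgroup
open scoped commutatorElement

/-- In an abelian `2`-group, elements of odd order centralising the involutions centralise. -/
theorem commute_of_involutions {Y : Type*} [Group Y] [Finite Y] {Z : Subgroup Y}
    (hZ2 : IsPGroup 2 Z) (hZc : ∀ a ∈ Z, ∀ b ∈ Z, a * b = b * a) {y : Y}
    (hy : y ∈ normalizer (Z : Set Y)) (ho : (orderOf y).Coprime 2)
    (hU : ∀ a ∈ Z, a * a = 1 → a * y = y * a) : ∀ a ∈ Z, y * a = a * y := by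
  have hcomm : IsMulCommutative Z := ⟨⟨fun a b => Subtype.ext (hZc a a.2 b b.2)⟩⟩
  have hle : zpowers y ≤ normalizer (Z : Set Y) := by
    rw [zpowers_le]; exact hy
  have hcop : (Nat.card (zpowers y)).Coprime (Nat.card Z) := by
    rw [Nat.card_zpowers]
    obtain ⟨k, hk⟩ := IsPGroup.iff_card.mp hZ2
    rw [hk]
    exact ho.pow_right k
  have h1 := Cfsg.Agent.S0056.result (zpowers y) Z hle hcop (by
    intro v hv hvp a ha
    have h2 : orderOf v = 2 := by
      obtain ⟨k, hk⟩ := (IsPGroup.iff_orderOf.mp hZ2) ⟨v, hv⟩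
      rw [Subgroup.orderOf_mk] at hk
      rw [hk] at hvp ⊢
      have h3 : 2 ∣ 2 ^ k := by
        rcases Nat.eq_zero_or_pos k with h | h
        · rw [h] at hvp; exact absurd hvp (by norm_num)
        · exact dvd_pow_self 2 h.ne'
      exact ((Nat.prime_dvd_prime_iff_eq Nat.prime_two hvp).mp h3).symm
    have h3 : v * v = 1 := by
      rw [← pow_two, ← h2, pow_orderOf_eq_one]
    have h4 := hU v hv h3
    have h5 : a ∈ centralizer ({v} : Set Y) := by
      have h6 : zpowers y ≤ centralizer ({v} : Set Y) := by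
        rw [zpowers_le, mem_centralizer_singleton_iff]
        exact h4.symm
      exact h6 ha
    exact (mem_centralizer_singleton_iff.mp h5))
  intro a ha
  have h2 := mem_centralizer_iff.mp (h1 (mem_zpowers y)) a ha
  exact h2.symm

/-- Elements of odd order acting trivially on `H / Z` and on `Z ≤ Z(H)` centralise the `2`-group
`H`. -/
theorem commute_of_chain {Y : Type*} [Group Y] [Finite Y] {H : Subgroup Y}
    (hH2 : IsPGroup 2 H) {y : Y} (hy : y ∈ normalizer (H : Set Y)) (ho : (orderOf y).Coprime 2)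
    (hc : ∀ h ∈ H, y * (y * h * y⁻¹ * h⁻¹) = (y * h * y⁻¹ * h⁻¹) * y) :
    ∀ h ∈ H, y * h = h * y := by
  intro h hh
  set c := y * h * y⁻¹ * h⁻¹ with hcdef
  have hcy : y * c * y⁻¹ = c := by rw [hc h hh, mul_inv_cancel_right]
  have hcH : c ∈ H := H.mul_mem ((mem_normalizer_iff.mp hy h).mp hh) (H.inv_mem hh)
  have h1 : ∀ n : ℕ, y ^ n * h * (y ^ n)⁻¹ = c ^ n * h := by
    intro n
    induction n with
    | zero => simp
    | succ n ih =>
      have e1 : y ^ (n + 1) * h * (y ^ (n + 1))⁻¹ = y * (y ^ n * h * (y ^ n)⁻¹) * y⁻¹ := by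
        rw [pow_succ']; group
      rw [e1, ih]
      have e2 : y * (c ^ n * h) * y⁻¹ = (y * c * y⁻¹) ^ n * (y * h * y⁻¹) := by
        rw [conj_pow]; group
      rw [e2, hcy, pow_succ, mul_assoc, mul_assoc]
      congr 1
      rw [hcdef]; group
  have h2 := h1 (orderOf y)
  rw [pow_orderOf_eq_one] at h2
  have h3 : c ^ orderOf y = 1 := by
    have : h = c ^ orderOf y * h := by simpa using h2
    exact (mul_eq_right.mp this.symm)
  have h5 : c = 1 := by
    obtain ⟨j, hj⟩ := (IsPGroup.iff_orderOf.mp hH2) ⟨c, hcH⟩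
    rw [Subgroup.orderOf_mk] at hj
    have h6 : orderOf c ∣ orderOf y := orderOf_dvd_of_pow_eq_one h3
    rw [← orderOf_eq_one_iff]
    exact Nat.eq_one_of_dvd_coprimes (ho.pow_right j) h6 (hj ▸ dvd_rfl)
  rw [h5] at hcdef
  exact mul_inv_eq_iff_eq_mul.mp (mul_inv_eq_one.mp hcdef.symm)

theorem structure_of_maximal {Y : Type*} [Group Y] [Finite Y] (H : Subgroup Y) [hHn : H.Normal]
    (P : Sylow 2 Y) (hHP : H ≤ P)
    (hcl : ∀ a ∈ (P : Subgroup Y), ∀ b ∈ (P : Subgroup Y), ∀ c ∈ (P : Subgroup Y),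
      ⁅a, b⁆ * c = c * ⁅a, b⁆)
    (hcent : ∀ c ∈ (P : Subgroup Y), (∀ h ∈ H, c * h = h * c) → c ∈ H)
    (hN : normalizer ((P : Subgroup Y) : Set Y) ≤ P)
    (hmax : ∀ K : Subgroup Y, H ≤ K → IsPGroup 2 K → K ≠ H →
      ∀ y ∈ normalizer (K : Set Y), (orderOf y).Coprime 2 → y ∈ centralizer (H : Set Y))
    (x : Y) (hx : (orderOf x).Coprime 2) (hxc : x ∉ centralizer (H : Set Y)) :
    (∀ y : Y, ∀ h ∈ H, ∀ k ∈ H, ⁅y, h⁆ * k = k * ⁅y, h⁆) ∧
    (∀ a ∈ (P : Subgroup Y), ∀ b ∈ (P : Subgroup Y), a ∉ H → b ∉ H → a * b⁻¹ ∈ H) ∧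
    (∀ t ∈ (P : Subgroup Y), t ∉ H → t * x * t⁻¹ * x ∈ H) := by
  have hH2 : IsPGroup 2 H := P.2.to_le hHP
  have hcommP : ∀ a ∈ (P : Subgroup Y), ∀ b ∈ (P : Subgroup Y), ⁅a, b⁆ ∈ (P : Subgroup Y) := by
    intro a ha b hb
    rw [commutatorElement_def]
    exact mul_mem (mul_mem (mul_mem ha hb) (inv_mem ha)) (inv_mem hb)
  have hcommH : ∀ a ∈ (P : Subgroup Y), ∀ b ∈ (P : Subgroup Y), ⁅a, b⁆ ∈ H := fun a ha b hb =>
    hcent _ (hcommP a ha b hb) fun h hh => hcl a ha b hb h (hHP hh)
  -- Step 0: `[Y, H] ≤ Z(H)`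
  set Z : Subgroup Y := H ⊓ centralizer (H : Set Y) with hZdef
  have hZn : Z.Normal := by
    rw [hZdef]; infer_instance
  have hZH : Z ≤ H := inf_le_left
  have hZc : ∀ a ∈ Z, ∀ b ∈ H, a * b = b * a := by
    rintro a ⟨-, ha⟩ b hb
    exact (mem_centralizer_iff.mp ha b hb).symm
  have step0 : ∀ y : Y, ∀ h ∈ H, ⁅y, h⁆ ∈ Z := by
    set C₁ : Subgroup Y :=
      (centralizer ((H.map (QuotientGroup.mk' Z) : Subgroup (Y ⧸ Z)) : Set (Y ⧸ Z))).comap
        (QuotientGroup.mk' Z) with hC₁
    have hC₁n : C₁.Normal := by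
      have h1 : (H.map (QuotientGroup.mk' Z)).Normal := hHn.map _ (QuotientGroup.mk'_surjective Z)
      rw [hC₁]; infer_instance
    have hmemC₁ : ∀ y, y ∈ C₁ ↔ ∀ h ∈ H, ⁅y, h⁆ ∈ Z := by
      intro y
      rw [hC₁, mem_comap, mem_centralizer_iff]
      constructor
      · intro h k hk
        have h1 := h (QuotientGroup.mk' Z k) (mem_map_of_mem _ hk)
        rw [← QuotientGroup.eq_one_iff, ← QuotientGroup.mk'_apply, map_commutatorElement,
          commutatorElement_eq_one_iff_mul_comm]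
        exact h1.symm
      · rintro h _ ⟨k, hk, rfl⟩
        have h1 := h k hk
        rw [← QuotientGroup.eq_one_iff, ← QuotientGroup.mk'_apply, map_commutatorElement,
          commutatorElement_eq_one_iff_mul_comm] at h1
        exact h1.symm
    have hPC₁ : (P : Subgroup Y) ≤ C₁ := by
      intro p hp
      rw [hmemC₁]
      intro h hh
      refine ⟨hcommH p hp h (hHP hh), mem_centralizer_iff.mpr ?_⟩
      intro k hk
      exact (hcl p hp h (hHP hh) k (hHP hk)).symm
    have htop := Sylow.normalizer_sup_eq_top' P hPC₁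
    have hC₁top : C₁ = ⊤ := by
      rw [← htop]
      apply le_antisymm le_sup_right
      exact sup_le (hN.trans hPC₁) le_rfl
    intro y
    have : y ∈ C₁ := by rw [hC₁top]; exact mem_top y
    exact (hmemC₁ y).mp this
  have hxH : ∀ y : Y, y ∈ normalizer (H : Set Y) := fun y => by
    rw [normalizer_eq_top]; exact mem_top y
  have hZ2 : IsPGroup 2 Z := hH2.to_le hZH
  -- an element of odd order centralising the involutions of `Z` centralises `H`
  have hodd : ∀ y : Y, (orderOf y).Coprime 2 → (∀ a ∈ Z, a * a = 1 → a * y = y * a) →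
      y ∈ centralizer (H : Set Y) := by
    intro y hy hU
    have h1 : ∀ a ∈ Z, y * a = a * y :=
      commute_of_involutions hZ2 (fun a ha b hb => hZc a ha b (hZH hb))
        (by rw [normalizer_eq_top]; exact mem_top y) hy hU
    have h2 := commute_of_chain hH2 (hxH y) hy (fun h hh => h1 _ (by
      have := step0 y h hh
      rwa [commutatorElement_def] at this))
    rw [mem_centralizer_iff]
    intro h hh
    exact (h2 h hh).symm
  let φ : Y →* MulAut H := MulAut.conjNormal
  have hφ : ∀ y : Y, φ y = 1 ↔ y ∈ centralizer (H : Set Y) := by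
    intro y
    rw [mem_centralizer_iff]
    constructor
    · intro h k hk
      have h1 : ((φ y ⟨k, hk⟩ : H) : Y) = k := by rw [h]; rfl
      rw [MulAut.conjNormal_apply] at h1
      have h2 : y * k * y⁻¹ = k := h1
      exact (mul_inv_eq_iff_eq_mul.mp h2).symm
    · intro h
      ext ⟨k, hk⟩
      rw [MulAut.conjNormal_apply]
      change y * k * y⁻¹ = k
      rw [← h k hk, mul_inv_cancel_right]
  -- Step 1: squares of elements of `P` lie in `H`
  have step1 : ∀ f ∈ (P : Subgroup Y), f * f ∈ H := by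
    intro f hf
    by_contra hff
    -- the subgroup of involutions of `Z`
    let U : Subgroup Y :=
      { carrier := {a | a ∈ Z ∧ a * a = 1}
        one_mem' := ⟨Z.one_mem, by simp⟩
        mul_mem' := by
          rintro a b ⟨ha1, ha2⟩ ⟨hb1, hb2⟩
          refine ⟨Z.mul_mem ha1 hb1, ?_⟩
          have hab : a * b = b * a := hZc a ha1 b (hZH hb1)
          calc a * b * (a * b) = a * b * (b * a) := by rw [hab]
            _ = a * (b * b) * a := by group
            _ = 1 := by rw [hb2, mul_one, ha2]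
        inv_mem' := by
          rintro a ⟨ha1, ha2⟩
          refine ⟨Z.inv_mem ha1, ?_⟩
          rw [← mul_inv_rev, ha2, inv_one] }
    have hmemU : ∀ a, a ∈ U ↔ a ∈ Z ∧ a * a = 1 := fun a => Iff.rfl
    have hUn : U.Normal := by
      refine ⟨fun a ha g => ?_⟩
      rw [hmemU] at ha ⊢
      refine ⟨hZn.conj_mem a ha.1 g, ?_⟩
      calc g * a * g⁻¹ * (g * a * g⁻¹) = g * (a * a) * g⁻¹ := by group
        _ = 1 := by rw [ha.2]; group
    set K₀ : Subgroup Y := centralizer (U : Set Y) with hK₀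
    have hK₀n : K₀.Normal := by rw [hK₀]; infer_instance
    have hHK₀ : H ≤ K₀ := by
      intro h hh
      rw [hK₀, mem_centralizer_iff]
      intro a ha
      exact hZc a ((hmemU a).mp ha).1 h hh
    have hfK₀ : f * f ∈ K₀ := by
      rw [hK₀, mem_centralizer_iff]
      intro a ha
      obtain ⟨ha1, ha2⟩ := (hmemU a).mp ha
      have haP : a ∈ (P : Subgroup Y) := hHP (hZH ha1)
      set c := ⁅f, a⁆ with hc
      have hcP : c ∈ (P : Subgroup Y) := hcommP f hf a haP
      have hcc : ∀ g ∈ (P : Subgroup Y), c * g = g * c := fun g hg => hcl f hf a haP g hg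
      have e1 : f * a * f⁻¹ = c * a := by rw [hc, commutatorElement_def]; group
      have e2 : c * c = 1 := by
        have e3 : (f * a * f⁻¹) * (f * a * f⁻¹) = 1 := by
          calc (f * a * f⁻¹) * (f * a * f⁻¹) = f * (a * a) * f⁻¹ := by group
            _ = 1 := by rw [ha2]; group
        rw [e1] at e3
        calc c * c = c * c * (a * a) := by rw [ha2, mul_one]
          _ = c * (c * a) * a := by group
          _ = c * (a * c) * a := by rw [hcc a haP]
          _ = c * a * (c * a) := by group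
          _ = 1 := e3
      have e4 : (f * f) * a * (f * f)⁻¹ = a := by
        calc (f * f) * a * (f * f)⁻¹ = f * (f * a * f⁻¹) * f⁻¹ := by group
          _ = f * (c * a) * f⁻¹ := by rw [e1]
          _ = (f * c) * a * f⁻¹ := by group
          _ = (c * f) * a * f⁻¹ := by rw [hcc f hf]
          _ = c * (f * a * f⁻¹) := by group
          _ = c * (c * a) := by rw [e1]
          _ = (c * c) * a := by group
          _ = a := by rw [e2, one_mul]
      exact (mul_inv_eq_iff_eq_mul.mp e4).symm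
    -- a Sylow subgroup of `K₀` containing `H` and `f * f`
    have hQP : H ⊔ zpowers (f * f) ≤ P := sup_le hHP (by
      rw [zpowers_le]; exact mul_mem hf hf)
    have hQK : H ⊔ zpowers (f * f) ≤ K₀ := sup_le hHK₀ (by rw [zpowers_le]; exact hfK₀)
    have hQ2 : IsPGroup 2 ((H ⊔ zpowers (f * f)).subgroupOf K₀) :=
      (P.2.to_le hQP).comap_of_injective _ (Subgroup.subtype_injective _)
    obtain ⟨T, hT⟩ := hQ2.exists_le_sylow
    have hTmap : H ⊔ zpowers (f * f) ≤ (T : Subgroup K₀).map K₀.subtype := by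
      have h1 := map_mono (f := K₀.subtype) hT
      rwa [subgroupOf_map_subtype, inf_of_le_left hQK] at h1
    have hT2 : IsPGroup 2 ((T : Subgroup K₀).map K₀.subtype) := T.2.map _
    have hTne : (T : Subgroup K₀).map K₀.subtype ≠ H := by
      intro h
      apply hff
      rw [← h]
      exact hTmap (mem_sup_right (mem_zpowers _))
    have hFr := Sylow.normalizer_sup_eq_top T
    apply hxc
    rw [← hφ]
    apply Basics.map_eq_one_of_sup φ K₀ (normalizer (((T : Subgroup K₀).map K₀.subtype : Subgroup Y) : Set Y))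
      (p := 2) _ _ _ hx
    · apply Basics.isPGroup_map_of_coprime
      intro y hy hyo
      rw [hφ]
      apply hodd y hyo
      intro a ha1 ha2
      exact mem_centralizer_iff.mp hy a ((hmemU a).mpr ⟨ha1, ha2⟩)
    · apply Basics.isPGroup_map_of_coprime
      intro y hy hyo
      rw [hφ]
      exact hmax _ (le_sup_left.trans hTmap) hT2 hTne y hy hyo
    · rw [sup_comm]; exact hFr
  -- Step 2: the quotient by `H`
  let π : Y →* Y ⧸ H := QuotientGroup.mk' H
  have hπs : Function.Surjective π := QuotientGroup.mk'_surjective H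
  have hπ : ∀ y, π y = 1 ↔ y ∈ H := fun y => QuotientGroup.eq_one_iff y
  let P' : Sylow 2 (Y ⧸ H) := P.mapSurjective hπs
  have hP' : (P' : Subgroup (Y ⧸ H)) = (P : Subgroup Y).map π := rfl
  have hP'comap : ((P' : Subgroup (Y ⧸ H))).comap π = P := by
    rw [hP', comap_map_eq, sup_eq_left]
    intro y hy
    exact hHP ((hπ y).mp hy)
  have hP'mem : ∀ y, π y ∈ (P' : Subgroup (Y ⧸ H)) ↔ y ∈ (P : Subgroup Y) := by
    intro y
    rw [← mem_comap, hP'comap]
  have hP'c : ∀ a ∈ (P' : Subgroup (Y ⧸ H)), ∀ b ∈ (P' : Subgroup (Y ⧸ H)), a * b = b * a := by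
    rintro _ ⟨a, ha, rfl⟩ _ ⟨b, hb, rfl⟩
    rw [← commutatorElement_eq_one_iff_mul_comm, ← map_commutatorElement]
    exact (hπ _).mpr (hcommH a ha b hb)
  have hP'N : normalizer ((P' : Subgroup (Y ⧸ H)) : Set (Y ⧸ H)) ≤ P' := by
    intro q hq
    obtain ⟨y, rfl⟩ := hπs q
    rw [hP'mem]
    apply hN
    have h1 : y ∈ (normalizer ((P' : Subgroup (Y ⧸ H)) : Set (Y ⧸ H))).comap π := hq
    rw [comap_normalizer_eq_of_surjective _ hπs, hP'comap] at h1
    exact h1
  have hP'NC : normalizer (P' : Set (Y ⧸ H)) ≤ centralizer ((P' : Subgroup (Y ⧸ H)) : Set (Y ⧸ H)) := by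
    intro q hq
    rw [mem_centralizer_iff]
    intro a ha
    exact hP'c a ha q (hP'N hq)
  set N' : Subgroup (Y ⧸ H) := (MonoidHom.transferSylow P' hP'NC).ker with hN'
  have hN'n : N'.Normal := by rw [hN']; infer_instance
  have hcompl : IsComplement' N' (P' : Subgroup (Y ⧸ H)) :=
    MonoidHom.ker_transferSylow_isComplement' P' hP'NC
  have hN'card : ¬ 2 ∣ Nat.card N' := MonoidHom.not_dvd_card_ker_transferSylow P' hP'NC
  have hN'mem : ∀ q : Y ⧸ H, (orderOf q).Coprime 2 → q ∈ N' := by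
    intro q hq
    rw [hN', MonoidHom.mem_ker]
    exact Cfsg.Agent.Transfer.NormalPComplement.map_eq_one_of_coprime P'.2 _ hq
  have hN'odd : ∀ q ∈ N', (orderOf q).Coprime 2 := by
    intro q hq
    have h1 : orderOf q ∣ Nat.card N' := by
      rw [← Subgroup.orderOf_mk q hq]
      exact orderOf_dvd_natCard _
    rw [Nat.coprime_comm, Nat.prime_two.coprime_iff_not_dvd]
    intro h
    exact hN'card (h.trans h1)
  have hxπ : (orderOf (π x)).Coprime 2 := Nat.Coprime.coprime_dvd_left (orderOf_map_dvd π x) hx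
  -- centralizers in `N'` of elements of `P'`
  have hcentN' : ∀ a ∈ (P' : Subgroup (Y ⧸ H)), a ≠ 1 → ∀ q ∈ N', q * a = a * q →
      q ∈ (centralizer (H : Set Y)).map π := by
    rintro _ ⟨f, hf, rfl⟩ hf1 q hq hqf
    obtain ⟨y, rfl⟩ := hπs q
    obtain ⟨n, hn1, hn2⟩ := Basics.exists_lift_coprime H (hN'odd _ hq)
    have hn2' : π (y ^ n) = π y := hn2
    rw [← hn2'] at hqf ⊢
    refine mem_map_of_mem π ?_
    have hfH : f ∉ H := fun h => hf1 ((hπ f).mpr h)
    refine hmax (H ⊔ zpowers f) le_sup_left (P.2.to_le (sup_le hHP (by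
      rw [zpowers_le]; exact hf))) (fun h => hfH (by
        rw [← h]; exact mem_sup_right (mem_zpowers f))) _ ?_ hn1
    -- `y ^ n` normalises `H⟨f⟩`
    set w := y ^ n with hw
    have key : ∀ v : Y, π (v) * π f = π f * π v → ∀ g ∈ H ⊔ zpowers f, v * g * v⁻¹ ∈ H ⊔ zpowers f := by
      intro v hv g hg
      have h1 : H ⊔ zpowers f ≤ (H ⊔ zpowers f).comap (MulAut.conj v).toMonoidHom := by
        apply sup_le
        · intro h hh
          rw [mem_comap]
          exact mem_sup_left (hHn.conj_mem h hh v)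
        · rw [zpowers_le, mem_comap]
          have h2 : v * f * v⁻¹ * f⁻¹ ∈ H := by
            rw [← hπ, map_mul, map_mul, map_mul, map_inv, map_inv, hv]
            group
          have h3 : v * f * v⁻¹ = (v * f * v⁻¹ * f⁻¹) * f := by group
          change v * f * v⁻¹ ∈ _
          rw [h3]
          exact mul_mem (mem_sup_left h2) (mem_sup_right (mem_zpowers f))
      exact h1 hg
    rw [mem_normalizer_iff]
    intro g
    constructor
    · exact key w hqf g
    · intro hg
      have h1 := key w⁻¹ (by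
        rw [map_inv]
        have : Commute (π w) (π f) := hqf
        exact this.inv_left.eq) _ hg
      have h2 : w⁻¹ * (w * g * w⁻¹) * w⁻¹⁻¹ = g := by group
      rwa [h2] at h1
  -- Step 3: `P / H` is cyclic
  have hcyc : IsCyclic P' := by
    by_contra hnc
    have hmc : IsMulCommutative P' := ⟨⟨fun a b => Subtype.ext (hP'c a a.2 b b.2)⟩⟩
    have hle : (P' : Subgroup (Y ⧸ H)) ≤ normalizer (N' : Set (Y ⧸ H)) := by
      rw [normalizer_eq_top]; exact le_top
    have hcop : (Nat.card P').Coprime (Nat.card N') := by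
      obtain ⟨k, hk⟩ := IsPGroup.iff_card.mp P'.2
      rw [hk]
      exact (Nat.Coprime.pow_left k ((Nat.prime_two.coprime_iff_not_dvd).mpr hN'card))
    have h1 := Cfsg.Agent.S0058.result (P' : Subgroup (Y ⧸ H)) N' hnc hle hcop
    have h2 : N' ≤ (centralizer (H : Set Y)).map π := by
      rw [← h1]
      refine iSup₂_le fun a ha => ?_
      rintro q ⟨hq1, hq2⟩
      exact hcentN' a ha.1 ha.2 q hq1 (mem_centralizer_singleton_iff.mp hq2)
    obtain ⟨c, hc, hcx⟩ := h2 (hN'mem _ hxπ)
    apply hxc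
    have hcn : (centralizer (H : Set Y)).Normal := inferInstance
    have h3 : c⁻¹ * x ∈ H := by
      rw [← hπ, map_mul, map_inv, hcx, inv_mul_cancel]
    have h4 : (orderOf x).Coprime (orderOf (c⁻¹ * x)) := by
      obtain ⟨k, hk⟩ := (IsPGroup.iff_orderOf.mp hH2) ⟨c⁻¹ * x, h3⟩
      rw [Subgroup.orderOf_mk] at hk
      rw [hk]
      exact hx.pow_right k
    refine Basics.mem_of_coprime (h := c⁻¹ * x) (by rw [normalizer_eq_top]; exact mem_top _) ?_ h4
    have h5 : (c⁻¹ * x)⁻¹ * x = x⁻¹ * c * x⁻¹⁻¹ := by group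
    rw [h5]
    exact hcn.conj_mem c hc _
  have hsq : ∀ a ∈ (P' : Subgroup (Y ⧸ H)), a * a = 1 := by
    rintro _ ⟨f, hf, rfl⟩
    rw [← map_mul]
    exact (hπ _).mpr (step1 f hf)
  -- all nontrivial elements of `P / H` are equal
  have huniq : ∀ a ∈ (P' : Subgroup (Y ⧸ H)), ∀ b ∈ (P' : Subgroup (Y ⧸ H)), a ≠ 1 → b ≠ 1 →
      a = b := by
    obtain ⟨⟨g, hg⟩, hgen⟩ := hcyc
    have key : ∀ a ∈ (P' : Subgroup (Y ⧸ H)), a ≠ 1 → a = g := by
      intro a ha ha1
      obtain ⟨n, hn⟩ := hgen ⟨a, ha⟩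
      have hn' : g ^ n = a := congrArg Subtype.val hn
      rcases Int.even_or_odd' n with ⟨k, hk | hk⟩
      · exfalso
        apply ha1
        rw [← hn', hk, zpow_mul, zpow_two, hsq g hg, one_zpow]
      · rw [← hn', hk, zpow_add, zpow_mul, zpow_two, hsq g hg, one_zpow, one_mul, zpow_one]
    intro a ha b hb ha1 hb1
    rw [key a ha ha1, key b hb hb1]
  refine ⟨fun y h hh k hk => hZc _ (step0 y h hh) k hk, ?_, ?_⟩
  · intro a ha b hb ha' hb'
    rw [← hπ, map_mul, map_inv, mul_inv_eq_one]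
    exact huniq _ ((hP'mem a).mpr ha) _ ((hP'mem b).mpr hb) (fun h => ha' ((hπ a).mp h))
      (fun h => hb' ((hπ b).mp h))
  · intro t ht htH
    have htπ : π t ≠ 1 := fun h => htH ((hπ t).mp h)
    have htP' : π t ∈ (P' : Subgroup (Y ⧸ H)) := (hP'mem t).mpr ht
    have htt : π t * π t = 1 := hsq _ htP'
    have htinv : (π t)⁻¹ = π t := inv_eq_of_mul_eq_one_right htt
    let ψ : N' →* N' := (MulAut.conjNormal (π t) : MulAut N').toMonoidHom
    have hψ : ∀ q : N', ((ψ q : N') : Y ⧸ H) = π t * q * (π t)⁻¹ := fun q =>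
      MulAut.conjNormal_apply _ _
    have hfpf : MonoidHom.FixedPointFree ψ := by
      intro q hq
      have h1 : π t * q * (π t)⁻¹ = q := by rw [← hψ, hq]
      have h2 : (q : Y ⧸ H) * π t = π t * q := (mul_inv_eq_iff_eq_mul.mp h1).symm
      have h3 : (q : Y ⧸ H) ∈ (P' : Subgroup (Y ⧸ H)) := by
        apply hP'N
        rw [mem_normalizer_iff]
        have h4 : ∀ a ∈ (P' : Subgroup (Y ⧸ H)), a * (q : Y ⧸ H) = q * a := by
          intro a ha
          by_cases ha1 : a = 1
          · rw [ha1]; simp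
          · rw [huniq a ha _ htP' ha1 htπ]; exact h2.symm
        intro a
        constructor
        · intro ha
          rw [← h4 a ha, mul_inv_cancel_right]; exact ha
        · intro ha
          have h5 := h4 _ ha
          have h6 : (q : Y ⧸ H) * a * (q : Y ⧸ H)⁻¹ = a := by
            have h7 : (q : Y ⧸ H) * a * (q : Y ⧸ H)⁻¹ =
                (q : Y ⧸ H)⁻¹ * ((q : Y ⧸ H) * ((q : Y ⧸ H) * a * (q : Y ⧸ H)⁻¹)) := by group
            rw [h7, ← h5]; group
          rwa [h6] at ha
      have h4 : (q : Y ⧸ H) ∈ N' ⊓ (P' : Subgroup (Y ⧸ H)) := ⟨q.2, h3⟩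
      rw [hcompl.disjoint.eq_bot, mem_bot] at h4
      exact Subtype.ext h4
    have hinvol : Function.Involutive ψ := by
      intro q
      apply Subtype.ext
      rw [hψ, hψ, htinv]
      calc π t * (π t * q * π t) * π t = (π t * π t) * q * (π t * π t) := by group
        _ = q := by rw [htt]; group
    have h1 := hfpf.coe_eq_inv_of_involutive hinvol
    have h2 := congrFun h1 ⟨π x, hN'mem _ hxπ⟩
    have h3 : π t * π x * (π t)⁻¹ = (π x)⁻¹ := by
      have := congrArg Subtype.val h2
      rw [hψ] at this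
      exact this
    rw [← hπ, map_mul, map_mul, map_mul, map_inv, h3, inv_mul_cancel]

end Cfsg.Agent.H504.MaxBad
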