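import Mathlib
import Cfsg.Agent.Transfer.FrobeniusFusion
import Cfsg.Agent.H504.MaxBad

/-!
# Failure of `2`-nilpotency with a self-normalising Sylow `2`-subgroup of class two

`exists_bad`: if the Sylow `2`-subgroup `P` has class at most two and is self-normalising and there
is no normal `2`-complement then there is a subgroup `H` of index two of `P` and an element `x` of
odd order normalising but not centralising `H`, inverted by `P \ H` modulo `H`, such that
`[N(H), H] ≤ Z(H)`.
-/

set_option autoImplicit false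

namespace Cfsg.Agent.H504.BadPair

open Subgroup
open scoped commutatorElement

/-- A `2`-subgroup which is maximal with a non-centralising odd-order element in its normaliser
contains every `2`-element centralising it. -/
theorem centric_of_maximal {Y : Type*} [Group Y] [Finite Y] (H : Subgroup Y) [hHn : H.Normal]
    (hH2 : IsPGroup 2 H)
    (hmax : ∀ K : Subgroup Y, H ≤ K → IsPGroup 2 K → K ≠ H →
      ∀ y ∈ normalizer (K : Set Y), (orderOf y).Coprime 2 → y ∈ centralizer (H : Set Y))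
    (x : Y) (hx : (orderOf x).Coprime 2) (hxc : x ∉ centralizer (H : Set Y))
    (c : Y) (hc : c ∈ centralizer (H : Set Y)) (hc2 : IsPGroup 2 (zpowers c)) : c ∈ H := by
  by_contra hcH
  have hcn : (centralizer (H : Set Y)).Normal := inferInstance
  set N : Subgroup Y := H ⊔ centralizer (H : Set Y) with hN
  have hNn : N.Normal := by rw [hN]; infer_instance
  let φ : Y →* MulAut H := MulAut.conjNormal
  have hφ : ∀ y : Y, φ y = 1 ↔ y ∈ centralizer (H : Set Y) := by
    intro y
    rw [mem_centralizer_iff]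
    constructor
    · intro h k hk
      have h1 : ((φ y ⟨k, hk⟩ : H) : Y) = k := by rw [h]; rfl
      rw [MulAut.conjNormal_apply] at h1
      have h2 : y * k * y⁻¹ = k := h1
      exact (mul_inv_eq_iff_eq_mul.mp h2).symm
    · intro h
      ext ⟨k, hk⟩
      rw [MulAut.conjNormal_apply]
      change y * k * y⁻¹ = k
      rw [← h k hk, mul_inv_cancel_right]
  have hQ2 : IsPGroup 2 (H ⊔ zpowers c : Subgroup Y) := hH2.to_sup_of_normal_left hc2
  have hQN : H ⊔ zpowers c ≤ N := sup_le_sup_left (by rw [zpowers_le]; exact hc) H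
  have hQ2' : IsPGroup 2 ((H ⊔ zpowers c).subgroupOf N) :=
    hQ2.comap_of_injective _ (Subgroup.subtype_injective _)
  obtain ⟨T, hT⟩ := hQ2'.exists_le_sylow
  have hTmap : H ⊔ zpowers c ≤ (T : Subgroup N).map N.subtype := by
    have h1 := map_mono (f := N.subtype) hT
    rwa [subgroupOf_map_subtype, inf_of_le_left hQN] at h1
  have hT2 : IsPGroup 2 ((T : Subgroup N).map N.subtype) := T.2.map _
  have hTne : (T : Subgroup N).map N.subtype ≠ H := by
    intro h
    apply hcH
    rw [← h]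
    exact hTmap (mem_sup_right (mem_zpowers _))
  have hFr := Sylow.normalizer_sup_eq_top T
  apply hxc
  rw [← hφ]
  apply Basics.map_eq_one_of_sup φ N (normalizer (((T : Subgroup N).map N.subtype : Subgroup Y) : Set Y))
    (p := 2) _ _ _ hx
  · have h1 : N.map φ = H.map φ := by
      rw [hN, Subgroup.map_sup]
      have h2 : (centralizer (H : Set Y)).map φ = ⊥ := by
        rw [Subgroup.map_eq_bot_iff]
        intro y hy
        exact (hφ y).mpr hy
      rw [h2, sup_bot_eq]
    rw [h1]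
    exact hH2.map φ
  · apply Basics.isPGroup_map_of_coprime
    intro y hy hyo
    rw [hφ]
    exact hmax _ (le_sup_left.trans hTmap) hT2 hTne y hy hyo
  · rw [sup_comm]; exact hFr

/-- The property of being a `2`-subgroup with a non-centralising odd-order element in its
normaliser. -/
def Bad {G : Type*} [Group G] (H : Subgroup G) : Prop :=
  IsPGroup 2 H ∧ ∃ x ∈ normalizer (H : Set G), (orderOf x).Coprime 2 ∧ x ∉ centralizer (H : Set G)

theorem Bad.map {G G' : Type*} [Group G] [Group G'] {H : Subgroup G} (h : Bad H) (e : G ≃* G') :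
    Bad (H.map e.toMonoidHom) := by
  obtain ⟨h1, x, hx1, hx2, hx3⟩ := h
  refine ⟨h1.map _, e x, ?_, ?_, ?_⟩
  · exact (le_normalizer_map (H := H) e.toMonoidHom) (mem_map_of_mem _ hx1)
  · have : orderOf (e x) = orderOf x := orderOf_injective e.toMonoidHom e.injective x
    rw [this]; exact hx2
  · intro hc
    apply hx3
    rw [mem_centralizer_iff] at hc ⊢
    intro k hk
    apply e.injective
    rw [map_mul, map_mul]
    exact hc (e k) (mem_map_of_mem e.toMonoidHom hk)

theorem card_map_mulEquiv {G G' : Type*} [Group G] [Group G'] (H : Subgroup G) (e : G ≃* G') :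
    Nat.card (H.map e.toMonoidHom) = Nat.card H :=
  (Nat.card_congr (H.equivMapOfInjective e.toMonoidHom e.injective).toEquiv).symm

theorem exists_bad {G : Type*} [Group G] [Finite G] (P : Sylow 2 G)
    (hcl : ∀ a ∈ (P : Subgroup G), ∀ b ∈ (P : Subgroup G), ∀ c ∈ (P : Subgroup G),
      ⁅a, b⁆ * c = c * ⁅a, b⁆)
    (hN : normalizer ((P : Subgroup G) : Set G) ≤ P)
    (hno : ¬ Cfsg.HasNormalPComplement 2 G) :
    ∃ (H : Subgroup G) (x : G), H ≤ P ∧
      (∀ c ∈ (P : Subgroup G), (∀ h ∈ H, c * h = h * c) → c ∈ H) ∧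
      x ∈ normalizer (H : Set G) ∧ (orderOf x).Coprime 2 ∧ x ∉ centralizer (H : Set G) ∧
      (∀ y ∈ normalizer (H : Set G), ∀ h ∈ H, ∀ k ∈ H, ⁅y, h⁆ * k = k * ⁅y, h⁆) ∧
      (∀ a ∈ (P : Subgroup G), ∀ b ∈ (P : Subgroup G), a ∉ H → b ∉ H → a * b⁻¹ ∈ H) ∧
      (∀ t ∈ (P : Subgroup G), t ∉ H → t * x * t⁻¹ * x ∈ H) := by
  classical
  -- a bad subgroup of largest order
  obtain ⟨D, hD⟩ : ∃ D : Subgroup G, Bad D := by
    rw [Cfsg.Agent.Transfer.FrobeniusFusion.hasNormalPComplement_iff_localCondition] at hno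
    unfold Cfsg.Agent.Transfer.FrobeniusFusion.LocalCondition at hno
    push Not at hno
    obtain ⟨D, hD, g, hg, hgo, hgc⟩ := hno
    exact ⟨D, hD, g, hg, hgo, hgc⟩
  obtain ⟨H₀, hH₀, hmax₀⟩ := Set.exists_max_image {D : Subgroup G | Bad D}
    (fun D => Nat.card D) (Set.toFinite _) ⟨D, hD⟩
  have hH₀' : Bad H₀ := hH₀
  -- conjugate it into `P`
  obtain ⟨H, hHP, hH, hmax⟩ : ∃ H : Subgroup G, H ≤ P ∧ Bad H ∧
      ∀ K : Subgroup G, Bad K → Nat.card K ≤ Nat.card H := by
    obtain ⟨R, hR⟩ := hH₀'.1.exists_le_sylow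
    obtain ⟨g, hg⟩ := MulAction.exists_smul_eq G R P
    refine ⟨H₀.map (MulAut.conj g).toMonoidHom, ?_, hH₀'.map _, ?_⟩
    · rw [← hg]
      exact map_mono hR
    · intro K hK
      rw [card_map_mulEquiv]
      exact hmax₀ K hK
  obtain ⟨hH2, x, hxN, hxo, hxc⟩ := hH
  -- the situation inside the normaliser
  obtain ⟨Y, hY⟩ : ∃ Y : Subgroup G, Y = normalizer (H : Set G) := ⟨_, rfl⟩
  have hHY : H ≤ Y := by rw [hY]; exact le_normalizer
  have hHYn : (H.subgroupOf Y).Normal := by rw [hY]; infer_instance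
  rw [← hY] at hxN
  have transfer : ∀ K : Subgroup Y, H.subgroupOf Y ≤ K → IsPGroup 2 K → K ≠ H.subgroupOf Y →
      ∀ y ∈ normalizer (K : Set Y), (orderOf y).Coprime 2 →
        y ∈ centralizer ((H.subgroupOf Y : Subgroup Y) : Set Y) := by
    intro K hHK hK2 hne y hy hyo
    have hle : H ≤ K.map Y.subtype := by
      have h1 := map_mono (f := Y.subtype) hHK
      rwa [subgroupOf_map_subtype, inf_of_le_left hHY] at h1
    have hlt : Nat.card H < Nat.card (K.map Y.subtype) := by
      have h1 : Nat.card H ≤ Nat.card (K.map Y.subtype) := card_le_of_le hle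
      refine lt_of_le_of_ne h1 fun h => hne ?_
      have h2 : H = K.map Y.subtype := eq_of_le_of_card_ge hle h.ge
      have h3 : (K.map Y.subtype).subgroupOf Y = K :=
        comap_map_eq_self_of_injective (Subgroup.subtype_injective Y) K
      calc K = (K.map Y.subtype).subgroupOf Y := h3.symm
        _ = H.subgroupOf Y := congrArg (fun J => J.subgroupOf Y) h2.symm
    have hnb : ¬ Bad (K.map Y.subtype) := fun hb => absurd (hmax _ hb) (not_le.mpr hlt)
    have h3 : (y : G) ∈ centralizer ((K.map Y.subtype : Subgroup G) : Set G) := by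
      by_contra h4
      apply hnb
      refine ⟨hK2.map _, y, ?_, ?_, h4⟩
      · exact (le_normalizer_map (H := K) Y.subtype) (mem_map_of_mem Y.subtype hy)
      · rw [Subgroup.orderOf_coe]; exact hyo
    rw [mem_centralizer_iff] at h3 ⊢
    intro k hk
    apply Subtype.ext
    exact h3 k (hle (mem_subgroupOf.mp hk))
  have hH2' : IsPGroup 2 (H.subgroupOf Y) :=
    hH2.comap_of_injective _ (Subgroup.subtype_injective _)
  have hxo' : (orderOf (⟨x, hxN⟩ : Y)).Coprime 2 := by
    rw [Subgroup.orderOf_mk]; exact hxo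
  have hxc' : (⟨x, hxN⟩ : Y) ∉ centralizer ((H.subgroupOf Y : Subgroup Y) : Set Y) := by
    intro h
    apply hxc
    rw [mem_centralizer_iff] at h ⊢
    intro k hk
    exact congrArg Subtype.val (h ⟨k, hHY hk⟩ (mem_subgroupOf.mpr hk))
  have hcent : ∀ c ∈ (P : Subgroup G), (∀ h ∈ H, c * h = h * c) → c ∈ H := by
    intro c hcP hc
    have hcc : c ∈ centralizer (H : Set G) := by
      rw [mem_centralizer_iff]
      intro k hk
      exact (hc k hk).symm
    have hcY : c ∈ Y := by
      rw [hY, mem_normalizer_iff]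
      have key : ∀ d : G, (∀ h ∈ H, d * h = h * d) → ∀ k ∈ H, d * k * d⁻¹ ∈ H := by
        intro d hd k hk
        rw [hd k hk, mul_inv_cancel_right]; exact hk
      intro k
      refine ⟨key c hc k, fun hk => ?_⟩
      have h1 := key c⁻¹ (fun h hh => by
        have : Commute c h := hc h hh
        exact this.inv_left.eq) _ hk
      have h2 : c⁻¹ * (c * k * c⁻¹) * c⁻¹⁻¹ = k := by group
      rwa [h2] at h1
    have h1 := centric_of_maximal (H.subgroupOf Y) hH2' transfer ⟨x, hxN⟩ hxo' hxc' ⟨c, hcY⟩ (by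
      rw [mem_centralizer_iff]
      intro k hk
      apply Subtype.ext
      exact (hc k (mem_subgroupOf.mp hk)).symm) (by
      rw [isPGroup_iff_pow_pow_eq_one]
      rintro ⟨_, n, rfl⟩
      obtain ⟨k, hk⟩ := P.2 ⟨c, hcP⟩
      have hk' : c ^ 2 ^ k = 1 := congrArg Subtype.val hk
      refine ⟨k, ?_⟩
      apply Subtype.ext
      change ((⟨c, hcY⟩ : Y) ^ n) ^ 2 ^ k = 1
      apply Subtype.ext
      change (c ^ n) ^ 2 ^ k = 1
      rw [← zpow_natCast, ← zpow_mul, mul_comm, zpow_mul, zpow_natCast, hk', one_zpow])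
    exact mem_subgroupOf.mp h1
  have hcommP : ∀ a ∈ (P : Subgroup G), ∀ b ∈ (P : Subgroup G), ⁅a, b⁆ ∈ (P : Subgroup G) := by
    intro a ha b hb
    rw [commutatorElement_def]
    exact mul_mem (mul_mem (mul_mem ha hb) (inv_mem ha)) (inv_mem hb)
  have hcommH : ∀ a ∈ (P : Subgroup G), ∀ b ∈ (P : Subgroup G), ⁅a, b⁆ ∈ H := fun a ha b hb =>
    hcent _ (hcommP a ha b hb) fun h hh => hcl a ha b hb h (hHP hh)
  have hPY : (P : Subgroup G) ≤ Y := by
    rw [hY, le_normalizer_iff]
    intro p hp h hh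
    have h1 : p * h * p⁻¹ = ⁅p, h⁆ * h := by rw [commutatorElement_def]; group
    rw [h1]
    exact H.mul_mem (hcommH p hp h (hHP hh)) hh
  let PY : Sylow 2 Y := P.subtype hPY
  have hPYmem : ∀ y : Y, y ∈ (PY : Subgroup Y) ↔ (y : G) ∈ (P : Subgroup G) := fun y => Iff.rfl
  obtain ⟨s1, s2, s3⟩ := MaxBad.structure_of_maximal (H.subgroupOf Y) PY
    (fun k hk => hHP (mem_subgroupOf.mp hk))
    (fun a ha b hb c hc => Subtype.ext (hcl a ha b hb c hc))
    (fun c hc h => mem_subgroupOf.mpr (hcent c hc fun k hk =>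
      congrArg Subtype.val (h ⟨k, hHY hk⟩ (mem_subgroupOf.mpr hk))))
    (by
      intro y hy
      rw [hPYmem]
      apply hN
      rw [mem_normalizer_iff] at hy ⊢
      intro g
      constructor
      · intro hg
        exact (hy ⟨g, hPY hg⟩).mp hg
      · intro hg
        have h1 : g ∈ Y := by
          have h2 : g = (y : G)⁻¹ * ((y : G) * g * (y : G)⁻¹) * y := by group
          rw [h2]
          exact mul_mem (mul_mem (inv_mem y.2) (hPY hg)) y.2
        exact (hy ⟨g, h1⟩).mpr hg)
    transfer ⟨x, hxN⟩ hxo' hxc'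
  refine ⟨H, x, hHP, hcent, hY ▸ hxN, hxo, hxc, ?_, ?_, ?_⟩
  · intro y hy h hh k hk
    rw [← hY] at hy
    exact congrArg Subtype.val (s1 ⟨y, hy⟩ ⟨h, hHY hh⟩ (mem_subgroupOf.mpr hh) ⟨k, hHY hk⟩
      (mem_subgroupOf.mpr hk))
  · intro a ha b hb ha' hb'
    exact mem_subgroupOf.mp (s2 ⟨a, hPY ha⟩ ha ⟨b, hPY hb⟩ hb (fun h => ha' (mem_subgroupOf.mp h))
      (fun h => hb' (mem_subgroupOf.mp h)))
  · intro t ht htH
    exact mem_subgroupOf.mp (s3 ⟨t, hPY ht⟩ ht (fun h => htH (mem_subgroupOf.mp h)))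

end Cfsg.Agent.H504.BadPair
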