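import Mathlib
import Cfsg.Agent.H504.Basics

/-!
# The action of a normalising element on the cosets of a subgroup of index at most four
-/

set_option autoImplicit false

namespace Cfsg.Agent.H504.CosetPerm

open Subgroup

theorem relIndex_le_two {Γ : Type*} [Group Γ] {S Q : Subgroup Γ}
    (h : ∀ a ∈ Q, ∀ b ∈ Q, a ∉ S → b ∉ S → a * b⁻¹ ∈ S) : S.relIndex Q ≤ 2 := by
  apply Nat.le_of_dvd (by norm_num)
  rw [relIndex_dvd_two_iff]
  by_cases h0 : ∃ a ∈ Q, a ∉ S
  · obtain ⟨a, ha, ha'⟩ := h0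
    refine ⟨a⁻¹, Q.inv_mem ha, fun b hb => ?_⟩
    by_cases hbS : b ∈ S
    · exact Or.inr hbS
    · exact Or.inl (h b hb a ha hbS ha')
  · push Not at h0
    exact ⟨1, Q.one_mem, fun b hb => Or.inr (h0 b hb)⟩

/-- An element `x` normalising `H ≥ K`, where `K` has index at most `4` in `H`, and such that an
odd power `x ^ m` with `3 ∤ m` acts trivially on the cosets of `K` in `H`, acts trivially on
them. -/
theorem acts_trivially {Γ : Type*} [Group Γ] [Finite Γ] {H K : Subgroup Γ}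
    (hi : K.relIndex H ≤ 4) {x : Γ}
    (hxH : x ∈ normalizer (H : Set Γ)) (hxK : x ∈ normalizer (K : Set Γ)) {m : ℕ}
    (h2 : Odd m) (h3 : ¬ 3 ∣ m) (hm : ∀ h ∈ H, h⁻¹ * (x ^ m * h * (x ^ m)⁻¹) ∈ K) :
    ∀ h ∈ H, h⁻¹ * (x * h * x⁻¹) ∈ K := by
  classical
  let e : MulAut H := H.normalizerMonoidHom ⟨x, hxH⟩
  have he : ∀ a : H, ((e a : H) : Γ) = x * a * x⁻¹ := fun a => rfl
  have hK : ∀ a b : H, (QuotientGroup.leftRel (K.subgroupOf H)) a b ↔
      (QuotientGroup.leftRel (K.subgroupOf H)) (e a) (e b) := by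
    intro a b
    rw [QuotientGroup.leftRel_apply, QuotientGroup.leftRel_apply, mem_subgroupOf, mem_subgroupOf]
    have h1 : (((e a)⁻¹ * e b : H) : Γ) = x * ((a⁻¹ * b : H) : Γ) * x⁻¹ := by
      rw [← map_inv, ← map_mul, he]
    rw [h1]
    exact mem_normalizer_iff.mp hxK _
  let σ : Equiv.Perm (H ⧸ K.subgroupOf H) := Quotient.congr e.toEquiv hK
  have hσ : ∀ a : H, σ (a : H ⧸ K.subgroupOf H) = ((e a : H) : H ⧸ K.subgroupOf H) := fun a => rfl
  have hσn : ∀ (n : ℕ) (a : H), (σ ^ n) (a : H ⧸ K.subgroupOf H) =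
      (((e ^ n) a : H) : H ⧸ K.subgroupOf H) := by
    intro n
    induction n with
    | zero => intro a; simp
    | succ n ih =>
      intro a
      rw [pow_succ', Equiv.Perm.mul_apply, ih, hσ, pow_succ', MulAut.mul_apply]
  have hen : ∀ (n : ℕ) (a : H), (((e ^ n) a : H) : Γ) = x ^ n * a * (x ^ n)⁻¹ := by
    intro n
    induction n with
    | zero => intro a; simp
    | succ n ih =>
      intro a
      rw [pow_succ', MulAut.mul_apply, he, ih, pow_succ']
      group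
  have hσm : σ ^ m = 1 := by
    ext q
    obtain ⟨a, rfl⟩ := QuotientGroup.mk_surjective q
    rw [hσn]
    change _ = (a : H ⧸ K.subgroupOf H)
    symm
    rw [QuotientGroup.eq, mem_subgroupOf, coe_mul, coe_inv, hen]
    exact hm a a.2
  have hσ1 : σ = 1 := Basics.perm_eq_one hi σ hσm h2 h3
  intro h hh
  have h5 := hσ ⟨h, hh⟩
  rw [hσ1] at h5
  change ((⟨h, hh⟩ : H) : H ⧸ K.subgroupOf H) = _ at h5
  rw [QuotientGroup.eq, mem_subgroupOf] at h5
  exact h5

end Cfsg.Agent.H504.CosetPerm
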