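import Mathlib
import Cfsg.Agent.H504.CosetPerm

/-!
# Two conjugate subgroups of index two in a `2`-group of class two

`mem_of_center_conj`: let `P` be a `2`-group of class at most two, `H ≥ Z(P)` a subgroup of index at
most two of `P`, `x` an element of odd order normalising but not centralising `H` and inverted modulo
`H` by the elements of `P` outside `H`.  If `l` normalises `P` and an odd power `l ^ m ∈ P` has `m`
prime to the order of `x`, then `Z(l H l⁻¹) ≤ H`.
-/

set_option autoImplicit false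

namespace Cfsg.Agent.H504.ClassTwoConj

open Subgroup
open scoped commutatorElement

theorem mem_of_center_conj {Γ : Type*} [Group Γ] [Finite Γ] (P H : Subgroup Γ)
    (hP : IsPGroup 2 P)
    (hcl : ∀ a ∈ P, ∀ b ∈ P, ∀ c ∈ P, ⁅a, b⁆ * c = c * ⁅a, b⁆)
    (hHP : H ≤ P)
    (hZ : ∀ c ∈ P, (∀ b ∈ P, c * b = b * c) → c ∈ H)
    (hidx : ∀ a ∈ P, ∀ b ∈ P, a ∉ H → b ∉ H → a * b⁻¹ ∈ H)
    (x : Γ) (hxH : x ∈ normalizer (H : Set Γ)) (hxo : Odd (orderOf x))
    (hxc : ∃ h ∈ H, x * h ≠ h * x)
    (hinv : ∀ t ∈ P, t ∉ H → t * x * t⁻¹ * x ∈ H)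
    (l : Γ) (hl : l ∈ normalizer (P : Set Γ)) (m : ℕ) (hm2 : Odd m)
    (hmx : m.Coprime (orderOf x)) (hlm : l ^ m ∈ P)
    (u : Γ) (hu1 : l⁻¹ * u * l ∈ H)
    (huc : ∀ h ∈ H, u * (l * h * l⁻¹) = (l * h * l⁻¹) * u) : u ∈ H := by
  by_contra hcon
  have hlP : ∀ g, g ∈ P ↔ l * g * l⁻¹ ∈ P := fun g => mem_normalizer_iff.mp hl g
  have hlP' : ∀ g ∈ P, l⁻¹ * g * l ∈ P := by
    intro g hg
    rw [hlP]
    have : l * (l⁻¹ * g * l) * l⁻¹ = g := by group
    rwa [this]
  have hu : u ∈ P := by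
    have h1 := (hlP _).mp (hHP hu1)
    have : l * (l⁻¹ * u * l) * l⁻¹ = u := by group
    rwa [this] at h1
  set u₂ := l⁻¹ * u * l with hu₂
  have hu₂P : u₂ ∈ P := hHP hu1
  have hul : u = l * u₂ * l⁻¹ := by rw [hu₂]; group
  -- `u` is not central in `P`
  obtain ⟨g₀, hg₀, hg₀u⟩ : ∃ g ∈ P, u * g ≠ g * u := by
    by_contra h
    push Not at h
    exact hcon (hZ u hu h)
  -- centralizer of `u` in `P` has index two
  have hE : ∀ a ∈ P, ∀ b ∈ P, a * u ≠ u * a → b * u ≠ u * b →
      (a * b⁻¹) * u = u * (a * b⁻¹) := by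
    intro a ha b hb hau hbu
    have key : ∀ c ∈ P, c * u ≠ u * c → l⁻¹ * c * l ∉ H := by
      intro c _ hcu hcH
      apply hcu
      have h1 := huc _ hcH
      have h2 : l * (l⁻¹ * c * l) * l⁻¹ = c := by group
      rw [h2] at h1
      exact h1.symm
    have h1 := hidx _ (hlP' a ha) _ (hlP' b hb) (key a ha hau) (key b hb hbu)
    have h2 := huc _ h1
    have h3 : l * (l⁻¹ * a * l * (l⁻¹ * b * l)⁻¹) * l⁻¹ = a * b⁻¹ := by group
    rw [h3] at h2
    exact h2.symm
  set z := ⁅g₀, u⁆ with hz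
  have hzP : z ∈ P := by
    rw [hz, commutatorElement_def]
    exact P.mul_mem (P.mul_mem (P.mul_mem hg₀ hu) (P.inv_mem hg₀)) (P.inv_mem hu)
  have hzc : ∀ c ∈ P, z * c = c * z := fun c hc => hcl g₀ hg₀ u hu c hc
  have hz1 : z ≠ 1 := by
    intro h
    rw [hz, commutatorElement_eq_one_iff_mul_comm] at h
    exact hg₀u h.symm
  have hcomm : ∀ a ∈ P, ∀ b ∈ P, ⁅a, b⁆ ∈ P := by
    intro a ha b hb
    rw [commutatorElement_def]
    exact P.mul_mem (P.mul_mem (P.mul_mem ha hb) (P.inv_mem ha)) (P.inv_mem hb)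
  -- all commutators with `u` are `1` or `z`
  have hD : ∀ a ∈ P, ⁅a, u⁆ = 1 ∨ ⁅a, u⁆ = z := by
    intro a ha
    by_cases hau : a * u = u * a
    · left
      rwa [commutatorElement_eq_one_iff_mul_comm]
    · right
      have h1 := hE a ha g₀ hg₀ hau (fun h => hg₀u h.symm)
      have h2 : ⁅a, u⁆ = (a * g₀⁻¹) * ⁅g₀, u⁆ * (u * (a * g₀⁻¹)⁻¹ * u⁻¹) := by
        rw [commutatorElement_def, commutatorElement_def]; group
      have h3 : u * (a * g₀⁻¹)⁻¹ * u⁻¹ = (a * g₀⁻¹)⁻¹ := by
        have h4 : u * (a * g₀⁻¹)⁻¹ = (a * g₀⁻¹)⁻¹ * u := by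
          have h5 : Commute (a * g₀⁻¹) u := h1
          exact (h5.inv_left.symm).eq
        rw [h4, mul_inv_cancel_right]
      rw [h2, h3, ← hz, ← hzc _ (P.mul_mem ha (P.inv_mem hg₀)), mul_inv_cancel_right]
  have hz2 : z * z = 1 := by
    have h1 : g₀⁻¹ * u ≠ u * g₀⁻¹ := by
      intro h
      apply hg₀u
      have h5 : Commute g₀⁻¹ u := h
      have h6 := h5.inv_left
      rw [inv_inv] at h6
      exact h6.eq.symm
    have h2 := hE g₀ hg₀ g₀⁻¹ (P.inv_mem hg₀) (fun h => hg₀u h.symm) h1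
    rw [inv_inv] at h2
    have h3 : ⁅g₀ * g₀, u⁆ = z * z := by
      have h4 : ⁅g₀ * g₀, u⁆ = g₀ * ⁅g₀, u⁆ * g₀⁻¹ * ⁅g₀, u⁆ := by
        rw [commutatorElement_def, commutatorElement_def]; group
      rw [h4, ← hz, ← hzc g₀ hg₀, mul_inv_cancel_right]
    rw [← h3, commutatorElement_eq_one_iff_mul_comm]
    exact h2
  have hzinv : z⁻¹ = z := inv_eq_of_mul_eq_one_right hz2
  -- the same for `u₂`
  have hD₂ : ∀ a ∈ P, ⁅a, u₂⁆ = 1 ∨ ⁅a, u₂⁆ = l⁻¹ * z * l := by
    intro a ha
    have h1 : ⁅a, u₂⁆ = l⁻¹ * ⁅l * a * l⁻¹, u⁆ * l := by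
      rw [commutatorElement_def, commutatorElement_def, hu₂]; group
    rcases hD _ ((hlP a).mp ha) with h | h
    · left; rw [h1, h]; group
    · right; rw [h1, h]
  -- `H` and `u` generate `P`
  have hHu : ∀ p ∈ P, p ∉ H → p * u⁻¹ ∈ H := fun p hp hpH => hidx p hp u hu hpH hcon
  have hu₂H : ∀ h ∈ H, u₂ * h = h * u₂ := by
    intro h hh
    have h1 := huc h hh
    have h2 : u₂ * h = l⁻¹ * (u * (l * h * l⁻¹)) * l := by rw [hu₂]; group
    rw [h2, h1, hu₂]; group
  -- `u` and `u₂` do not commute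
  have hF : u * u₂ ≠ u₂ * u := by
    intro h
    have hcent : ∀ p ∈ P, u₂ * p = p * u₂ := by
      intro p hp
      by_cases hpH : p ∈ H
      · exact hu₂H p hpH
      · have h1 : Commute u₂ (p * u⁻¹) := hu₂H _ (hHu p hp hpH)
        have h2 : Commute u₂ u := h.symm
        have h3 := h1.mul_right h2
        rw [inv_mul_cancel_right] at h3
        exact h3.eq
    have h4 := hcent (l⁻¹ * g₀ * l) (hlP' g₀ hg₀)
    apply hg₀u
    have h5 : u * g₀ = l * (u₂ * (l⁻¹ * g₀ * l)) * l⁻¹ := by rw [hu₂]; group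
    rw [h5, h4, hu₂]; group
  -- `l` centralises `z`
  have hlz : l⁻¹ * z * l = z := by
    have h1 : ⁅u₂, u⁆ = z := by
      rcases hD u₂ hu₂P with h | h
      · exfalso
        rw [commutatorElement_eq_one_iff_mul_comm] at h
        exact hF h.symm
      · exact h
    have h2 : ⁅u, u₂⁆ = l⁻¹ * z * l := by
      rcases hD₂ u hu with h | h
      · exfalso
        rw [commutatorElement_eq_one_iff_mul_comm] at h
        exact hF h
      · exact h
    rw [← h2, ← commutatorElement_inv, h1, hzinv]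
  have hlz' : l * z * l⁻¹ = z := by
    conv_lhs => rw [← hlz]
    group
  -- `P` normalises `H`
  have hzH : z ∈ H := hZ z hzP hzc
  have hcommH : ∀ a ∈ P, ∀ b ∈ P, ⁅a, b⁆ ∈ H := fun a ha b hb =>
    hZ _ (hcomm a ha b hb) (hcl a ha b hb)
  have hPH : P ≤ normalizer (H : Set Γ) := by
    rw [le_normalizer_iff]
    intro p hp h hh
    have h1 : p * h * p⁻¹ = ⁅p, h⁆ * h := by rw [commutatorElement_def]; group
    rw [h1]
    exact H.mul_mem (hcommH p hp h (hHP hh)) hh
  have hxH' : ∀ h ∈ H, x⁻¹ * h * x ∈ H := by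
    intro h hh
    have := (mem_normalizer_iff.mp (inv_mem hxH) h).mp hh
    rwa [inv_inv] at this
  have hxH'' : ∀ h ∈ H, x * h * x⁻¹ ∈ H := fun h hh => (mem_normalizer_iff.mp hxH h).mp hh
  set u' := x * u * x⁻¹ with hu'
  have hu'H : u' ∈ normalizer (H : Set Γ) := mul_mem (mul_mem hxH (hPH hu)) (inv_mem hxH)
  -- the basic generation argument
  have hgen : ∀ T : Subgroup Γ, H ≤ normalizer (T : Set Γ) → u ∈ T → u' ∈ T → x ∈ T := by
    intro T hHT huT hu'T
    have h1 := hinv u hu hcon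
    set h := u * x * u⁻¹ * x with hh
    have hx2 : x ^ 2 = h * (h⁻¹ * (u' * u⁻¹) * h) := by
      rw [hh, hu', pow_two]; group
    have hcop : (orderOf (x ^ 2)).Coprime (orderOf h) := by
      obtain ⟨k, hk⟩ := (IsPGroup.iff_orderOf.mp (hP.to_le hHP)) ⟨h, h1⟩
      rw [Subgroup.orderOf_mk] at hk
      rw [hk]
      apply Nat.Coprime.pow_right
      exact Nat.Coprime.coprime_dvd_left (orderOf_pow_dvd 2) (Nat.coprime_two_right.mpr hxo)
    have h2 : x ^ 2 ∈ T := by
      refine Basics.mem_of_coprime (hHT h1) ?_ hcop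
      have h3 : h⁻¹ * x ^ 2 = h⁻¹ * (u' * u⁻¹) * h := by
        rw [hx2]; group
      rw [h3]
      have h4 := (mem_normalizer_iff.mp (inv_mem (hHT h1)) (u' * u⁻¹)).mp
        (T.mul_mem hu'T (T.inv_mem huT))
      rwa [inv_inv] at h4
    obtain ⟨k, hk⟩ := hxo
    have h5 : x = (x ^ 2) ^ (k + 1) := by
      rw [← pow_mul]
      have : 2 * (k + 1) = orderOf x + 1 := by omega
      rw [this, pow_add, pow_orderOf_eq_one, one_mul, pow_one]
    rw [h5]
    exact T.pow_mem h2 _
  -- the subgroup `K`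
  set K : Subgroup Γ := H ⊓ centralizer ({u, u'} : Set Γ) with hK
  have hKH : K ≤ H := inf_le_left
  have hmemK : ∀ k, k ∈ K ↔ k ∈ H ∧ k * u = u * k ∧ k * u' = u' * k := by
    intro k
    rw [hK, mem_inf, mem_centralizer_iff]
    constructor
    · rintro ⟨h1, h2⟩
      exact ⟨h1, (h2 u (by simp)).symm, (h2 u' (by simp)).symm⟩
    · rintro ⟨h1, h2, h3⟩
      refine ⟨h1, ?_⟩
      intro y hy
      rcases hy with rfl | rfl
      · exact h2.symm
      · exact h3.symm
  have hHK : H ≤ normalizer (K : Set Γ) := by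
    rw [le_normalizer_iff]
    intro h hh k hk
    obtain ⟨h1, h2, h3⟩ := (hmemK k).mp hk
    have e1 : h * k * h⁻¹ = ⁅h, k⁆ * k := by rw [commutatorElement_def]; group
    rw [e1, hmemK]
    have c1 : ⁅h, k⁆ * u = u * ⁅h, k⁆ := hcl h (hHP hh) k (hHP h1) u hu
    have c2 : ⁅h, k⁆ * u' = u' * ⁅h, k⁆ := by
      have h4 := hcl _ (hHP (hxH' h hh)) _ (hHP (hxH' k h1)) u hu
      have h5 : ⁅h, k⁆ * u' = x * (⁅x⁻¹ * h * x, x⁻¹ * k * x⁆ * u) * x⁻¹ := by
        rw [commutatorElement_def, commutatorElement_def, hu']; group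
      rw [h5, h4, commutatorElement_def, commutatorElement_def, hu']; group
    refine ⟨H.mul_mem (hcommH h (hHP hh) k (hHP h1)) h1, ?_, ?_⟩
    · rw [mul_assoc, h2, ← mul_assoc, c1, mul_assoc]
    · rw [mul_assoc, h3, ← mul_assoc, c2, mul_assoc]
  -- `x` centralises `K`
  have hxK : x ∈ centralizer (K : Set Γ) := by
    apply hgen
    · rw [le_normalizer_iff]
      intro h hh c hc
      rw [mem_centralizer_iff] at hc ⊢
      intro k hk
      have h1 : h⁻¹ * k * h ∈ K := by
        have := (mem_normalizer_iff.mp (inv_mem (hHK hh)) k).mp hk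
        rwa [inv_inv] at this
      have h2 := hc _ h1
      have h3 : k * (h * c * h⁻¹) = h * ((h⁻¹ * k * h) * c) * h⁻¹ := by group
      rw [h3, h2]; group
    · rw [mem_centralizer_iff]
      intro k hk
      exact ((hmemK k).mp hk).2.1
    · rw [mem_centralizer_iff]
      intro k hk
      exact ((hmemK k).mp hk).2.2
  -- `z` is not in `K`
  have hzK : z ∉ K := by
    intro hzK
    have hzu' : z * u' = u' * z := ((hmemK z).mp hzK).2.2
    have hxz : x * z = z * x := by
      have h1 : x ∈ centralizer ({z} : Set Γ) := by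
        apply hgen
        · intro h hh
          apply le_normalizer
          rw [mem_centralizer_singleton_iff]
          exact (hzc h (hHP hh)).symm
        · rw [mem_centralizer_singleton_iff]
          exact (hzc u hu).symm
        · rw [mem_centralizer_singleton_iff]
          exact hzu'.symm
      rw [mem_centralizer_singleton_iff] at h1
      exact h1
    -- the subgroup acting trivially on `H / ⟨z⟩` and centralising `z`
    let T : Subgroup Γ :=
      { carrier := {g | g * z = z * g ∧ (∀ h ∈ H, g * h * g⁻¹ * h⁻¹ = 1 ∨ g * h * g⁻¹ * h⁻¹ = z)}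
        one_mem' := by
          refine ⟨by simp, fun h _ => Or.inl (by simp)⟩
        mul_mem' := by
          rintro a b ⟨ha1, ha2⟩ ⟨hb1, hb2⟩
          refine ⟨by rw [mul_assoc, hb1, ← mul_assoc, ha1, mul_assoc], fun h hh => ?_⟩
          have e1 : a * b * h * (a * b)⁻¹ * h⁻¹ =
              a * (b * h * b⁻¹ * h⁻¹) * a⁻¹ * (a * h * a⁻¹ * h⁻¹) := by group
          rw [e1]
          have ea : a * z * a⁻¹ = z := by rw [ha1, mul_inv_cancel_right]
          rcases hb2 h hh with h1 | h1 <;> rcases ha2 h hh with h2 | h2 <;> rw [h1, h2]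
          · left; group
          · right; group
          · right; rw [ea, mul_one]
          · left; rw [ea, hz2]
        inv_mem' := by
          rintro a ⟨ha1, ha2⟩
          have hcz : Commute a z := ha1
          refine ⟨hcz.inv_left.eq, fun h hh => ?_⟩
          -- `a` acts as an involution-like map, use `a h a⁻¹ = z^ε h`
          have ea : a⁻¹ * z * a = z := by rw [hcz.inv_left.eq, inv_mul_cancel_right]
          rcases ha2 h hh with h1 | h1
          · left
            have h3 : a * h * a⁻¹ = h := by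
              rw [mul_inv_eq_one] at h1; exact h1
            have h4 : a⁻¹ * h * a⁻¹⁻¹ = h := by
              conv_lhs => rw [← h3]
              group
            rw [h4, mul_inv_cancel]
          · right
            have h3 : a * h * a⁻¹ = z * h := by
              rw [mul_inv_eq_iff_eq_mul] at h1; exact h1
            have h4 : h = (a⁻¹ * z * a) * (a⁻¹ * h * a) := by
              calc h = a⁻¹ * (a * h * a⁻¹) * a := by group
                _ = a⁻¹ * (z * h) * a := by rw [h3]
                _ = _ := by group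
            rw [ea] at h4
            have h5 : a⁻¹ * h * a = z * h := by
              calc a⁻¹ * h * a = (z * z) * (a⁻¹ * h * a) := by rw [hz2, one_mul]
                _ = z * (z * (a⁻¹ * h * a)) := by group
                _ = z * h := by rw [← h4]
            rw [inv_inv, h5, mul_inv_cancel_right] }
    have hmemT : ∀ g, g ∈ T ↔ g * z = z * g ∧
        (∀ h ∈ H, g * h * g⁻¹ * h⁻¹ = 1 ∨ g * h * g⁻¹ * h⁻¹ = z) := fun g => Iff.rfl
    have hxT : x ∈ T := by
      apply hgen
      · rw [le_normalizer_iff]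
        intro h hh g hg
        obtain ⟨hg1, hg2⟩ := (hmemT g).mp hg
        rw [hmemT]
        have hhz : Commute h z := (hzc h (hHP hh)).symm
        refine ⟨?_, fun k hk => ?_⟩
        · have : Commute g z := hg1
          exact ((hhz.mul_left this).mul_left hhz.inv_left).eq
        · have hk' : h⁻¹ * k * h ∈ H := H.mul_mem (H.mul_mem (H.inv_mem hh) hk) hh
          have e1 : h * g * h⁻¹ * k * (h * g * h⁻¹)⁻¹ * k⁻¹ =
              h * (g * (h⁻¹ * k * h) * g⁻¹ * (h⁻¹ * k * h)⁻¹) * h⁻¹ := by group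
          rw [e1]
          rcases hg2 _ hk' with h1 | h1 <;> rw [h1]
          · left; group
          · right; rw [hhz.eq, mul_inv_cancel_right]
      · rw [hmemT]
        refine ⟨(hzc u hu).symm, fun h hh => ?_⟩
        have e1 : u * h * u⁻¹ * h⁻¹ = ⁅h, u⁆⁻¹ := by rw [commutatorElement_def]; group
        rw [e1]
        rcases hD h (hHP hh) with h1 | h1 <;> rw [h1]
        · left; simp
        · right; exact hzinv
      · rw [hmemT]
        refine ⟨hzu'.symm, fun h hh => ?_⟩
        have e1 : u' * h * u'⁻¹ * h⁻¹ = x * ⁅x⁻¹ * h * x, u⁆⁻¹ * x⁻¹ := by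
          rw [commutatorElement_def, hu']; group
        rw [e1]
        rcases hD _ (hHP (hxH' h hh)) with h1 | h1 <;> rw [h1]
        · left; simp
        · right; rw [hzinv, hxz, mul_inv_cancel_right]
    -- so `x ^ 2` centralises `H`
    obtain ⟨h, hh, hxh⟩ := hxc
    apply hxh
    have h1 : x ^ 2 * h = h * x ^ 2 := by
      obtain ⟨-, hx2⟩ := (hmemT x).mp hxT
      rcases hx2 h hh with h1 | h1
      · exfalso
        rw [mul_inv_eq_one, mul_inv_eq_iff_eq_mul] at h1
        exact hxh h1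
      · have h3 : x * h * x⁻¹ = z * h := by
          rw [mul_inv_eq_iff_eq_mul] at h1; exact h1
        have h4 : x ^ 2 * h * (x ^ 2)⁻¹ = h := by
          calc x ^ 2 * h * (x ^ 2)⁻¹ = x * (x * h * x⁻¹) * x⁻¹ := by rw [pow_two]; group
            _ = x * (z * h) * x⁻¹ := by rw [h3]
            _ = (x * z) * h * x⁻¹ := by group
            _ = z * (x * h * x⁻¹) := by rw [hxz]; group
            _ = z * z * h := by rw [h3]; group
            _ = h := by rw [hz2, one_mul]
        rw [mul_inv_eq_iff_eq_mul] at h4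
        exact h4
    obtain ⟨k, hk⟩ := hxo
    have h5 : x = (x ^ 2) ^ (k + 1) := by
      rw [← pow_mul]
      have : 2 * (k + 1) = orderOf x + 1 := by omega
      rw [this, pow_add, pow_orderOf_eq_one, one_mul, pow_one]
    have h6 : Commute (x ^ 2) h := h1
    have h7 := h6.pow_left (k + 1)
    rw [← h5] at h7
    exact h7.eq
  -- indices
  have hiH : H.relIndex P ≤ 2 := CosetPerm.relIndex_le_two hidx
  have hi1 : (centralizer ({u} : Set Γ)).relIndex H ≤ 2 := by
    apply CosetPerm.relIndex_le_two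
    intro a ha b hb ha' hb'
    rw [mem_centralizer_singleton_iff] at ha' hb' ⊢
    exact hE a (hHP ha) b (hHP hb) ha' hb'
  have hi2 : (centralizer ({u'} : Set Γ)).relIndex H ≤ 2 := by
    apply CosetPerm.relIndex_le_two
    intro a ha b hb ha' hb'
    rw [mem_centralizer_singleton_iff] at ha' hb' ⊢
    have key : ∀ c, c * u' ≠ u' * c → (x⁻¹ * c * x) * u ≠ u * (x⁻¹ * c * x) := by
      intro c hc h
      apply hc
      have e1 : c * u' = x * ((x⁻¹ * c * x) * u) * x⁻¹ := by rw [hu']; group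
      rw [e1, h, hu']; group
    have h1 := hE _ (hHP (hxH' a ha)) _ (hHP (hxH' b hb)) (key a ha') (key b hb')
    have e2 : a * b⁻¹ * u' = x * ((x⁻¹ * a * x * (x⁻¹ * b * x)⁻¹) * u) * x⁻¹ := by
      rw [hu']; group
    rw [e2, h1, hu']; group
  have hiK : K.relIndex H ≤ 4 := by
    have h1 : K = H ⊓ (centralizer ({u} : Set Γ) ⊓ centralizer ({u'} : Set Γ)) := by
      ext k
      rw [hmemK, mem_inf, mem_inf, mem_centralizer_singleton_iff, mem_centralizer_singleton_iff]
    have h2 : K.relIndex H = (centralizer ({u} : Set Γ) ⊓ centralizer ({u'} : Set Γ)).relIndex H := by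
      rw [h1, inf_relIndex_left]
    rw [h2]
    calc _ ≤ (centralizer ({u} : Set Γ)).relIndex H * (centralizer ({u'} : Set Γ)).relIndex H :=
          relIndex_inf_le
      _ ≤ 2 * 2 := Nat.mul_le_mul hi1 hi2
      _ = 4 := by norm_num
  -- `3` divides the order of `x`
  have h3x : 3 ∣ orderOf x := by
    by_contra h3
    have hxKn : x ∈ normalizer (K : Set Γ) := by
      rw [mem_normalizer_iff]
      intro k
      have : ∀ k ∈ K, x * k * x⁻¹ = k := by
        intro k hk
        have := mem_centralizer_iff.mp hxK k hk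
        rw [← this, mul_inv_cancel_right]
      constructor
      · intro hk; rw [this k hk]; exact hk
      · intro hk
        have h1 := this _ hk
        have h2 : x * k * x⁻¹ = k := by
          have h3 : x * (x * k * x⁻¹) * x⁻¹ = x * k * x⁻¹ := h1
          have h4 : x * k * x⁻¹ = x⁻¹ * (x * (x * k * x⁻¹) * x⁻¹) * x := by group
          rw [h4, h3]; group
        rw [← h2]; exact hk
    have h1 := CosetPerm.acts_trivially hiK hxH hxKn hxo h3 (by
      intro h _
      rw [pow_orderOf_eq_one]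
      simp)
    obtain ⟨h, hh, hxh⟩ := hxc
    apply hxh
    have hk := h1 h hh
    set k := h⁻¹ * (x * h * x⁻¹) with hkdef
    have hkx : x * k * x⁻¹ = k := by
      have := mem_centralizer_iff.mp hxK k hk
      rw [← this, mul_inv_cancel_right]
    have h2 : ∀ n : ℕ, x ^ n * h * (x ^ n)⁻¹ = h * k ^ n := by
      intro n
      induction n with
      | zero => simp
      | succ n ih =>
        have e1 : x ^ (n + 1) * h * (x ^ (n + 1))⁻¹ = x * (x ^ n * h * (x ^ n)⁻¹) * x⁻¹ := by
          rw [pow_succ']; group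
        rw [e1, ih]
        have e2 : x * (h * k ^ n) * x⁻¹ = (x * h * x⁻¹) * (x * k * x⁻¹) ^ n := by
          rw [conj_pow]; group
        rw [e2, hkx, pow_succ', ← mul_assoc, hkdef]
        group
    have h3 := h2 (orderOf x)
    rw [pow_orderOf_eq_one] at h3
    have h4 : k ^ orderOf x = 1 := by
      have : h = h * k ^ orderOf x := by simpa using h3
      exact (mul_eq_left.mp this.symm)
    have h5 : k = 1 := by
      obtain ⟨j, hj⟩ := (IsPGroup.iff_orderOf.mp (hP.to_le hHP)) ⟨k, hKH hk⟩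
      rw [Subgroup.orderOf_mk] at hj
      have h6 : orderOf k ∣ orderOf x := orderOf_dvd_of_pow_eq_one h4
      have h7 : Nat.Coprime (orderOf x) (2 ^ j) :=
        Nat.Coprime.pow_right j (Nat.coprime_two_right.mpr hxo)
      rw [← orderOf_eq_one_iff]
      exact Nat.eq_one_of_dvd_coprimes h7 h6 (hj ▸ dvd_rfl)
    have h6 := h2 1
    rw [h5] at h6
    simp only [pow_one, mul_one] at h6
    rwa [mul_inv_eq_iff_eq_mul] at h6
  have h3m : ¬ 3 ∣ m := by
    intro h
    have := Nat.dvd_gcd h h3x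
    rw [hmx] at this
    norm_num at this
  -- the subgroup `P_z` and the centre of `P`
  let Zp : Subgroup Γ :=
    { carrier := {v | v ∈ P ∧ ∀ g ∈ P, v * g = g * v}
      one_mem' := ⟨P.one_mem, by simp⟩
      mul_mem' := by
        rintro a b ⟨ha1, ha2⟩ ⟨hb1, hb2⟩
        refine ⟨P.mul_mem ha1 hb1, fun g hg => ?_⟩
        rw [mul_assoc, hb2 g hg, ← mul_assoc, ha2 g hg, mul_assoc]
      inv_mem' := by
        rintro a ⟨ha1, ha2⟩
        refine ⟨P.inv_mem ha1, fun g hg => ?_⟩
        have : Commute a g := ha2 g hg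
        exact this.inv_left.eq }
  have hmemZp : ∀ v, v ∈ Zp ↔ v ∈ P ∧ ∀ g ∈ P, v * g = g * v := fun v => Iff.rfl
  let Pz : Subgroup Γ :=
    { carrier := {v | v ∈ P ∧ ∀ g ∈ P, ⁅v, g⁆ = 1 ∨ ⁅v, g⁆ = z}
      one_mem' := ⟨P.one_mem, fun g _ => Or.inl (by simp)⟩
      mul_mem' := by
        rintro a b ⟨ha1, ha2⟩ ⟨hb1, hb2⟩
        refine ⟨P.mul_mem ha1 hb1, fun g hg => ?_⟩
        have e1 : ⁅a * b, g⁆ = a * ⁅b, g⁆ * a⁻¹ * ⁅a, g⁆ := by
          rw [commutatorElement_def, commutatorElement_def, commutatorElement_def]; group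
        rw [e1]
        rcases hb2 g hg with h1 | h1 <;> rcases ha2 g hg with h2 | h2 <;> rw [h1, h2]
        · left; group
        · right; group
        · right; rw [← hzc a ha1, mul_inv_cancel_right, mul_one]
        · left; rw [← hzc a ha1, mul_inv_cancel_right, hz2]
      inv_mem' := by
        rintro a ⟨ha1, ha2⟩
        refine ⟨P.inv_mem ha1, fun g hg => ?_⟩
        have e1 : ⁅a⁻¹, g⁆ = a⁻¹ * ⁅a, g⁆⁻¹ * a := by
          rw [commutatorElement_def, commutatorElement_def]; group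
        rw [e1]
        rcases ha2 g hg with h1 | h1 <;> rw [h1]
        · left; group
        · right; rw [hzinv, ← hzc _ (P.inv_mem ha1), inv_mul_cancel_right] }
  have hmemPz : ∀ v, v ∈ Pz ↔ v ∈ P ∧ ∀ g ∈ P, ⁅v, g⁆ = 1 ∨ ⁅v, g⁆ = z := fun v => Iff.rfl
  have hZpPz : Zp ≤ Pz := by
    intro v hv
    obtain ⟨h1, h2⟩ := (hmemZp v).mp hv
    rw [hmemPz]
    refine ⟨h1, fun g hg => Or.inl ?_⟩
    rw [commutatorElement_eq_one_iff_mul_comm]
    exact h2 g hg
  have hPzP : Pz ≤ P := fun v hv => ((hmemPz v).mp hv).1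
  have hPK : P ≤ normalizer (K : Set Γ) := by
    intro p hp
    have hun : u ∈ normalizer (K : Set Γ) := by
      have h0 : ∀ k ∈ K, u * k * u⁻¹ = k := by
        intro k hk
        rw [← ((hmemK k).mp hk).2.1, mul_inv_cancel_right]
      rw [mem_normalizer_iff]
      intro k
      constructor
      · intro hk; rw [h0 k hk]; exact hk
      · intro hk
        have h1 := h0 _ hk
        have h2 : u * k * u⁻¹ = k := by
          have h4 : u * k * u⁻¹ = u⁻¹ * (u * (u * k * u⁻¹) * u⁻¹) * u := by group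
          rw [h4, h1]; group
        rw [← h2]; exact hk
    by_cases hpH : p ∈ H
    · exact hHK hpH
    · have h1 := mul_mem (hHK (hHu p hp hpH)) hun
      rwa [inv_mul_cancel_right] at h1
  have hKPz : K ⊓ Pz ≤ Zp := by
    rintro v ⟨hvK, hvPz⟩
    obtain ⟨h1, h2⟩ := (hmemPz v).mp hvPz
    rw [hmemZp]
    refine ⟨h1, fun g hg => ?_⟩
    rw [← commutatorElement_eq_one_iff_mul_comm]
    rcases h2 g hg with h3 | h3
    · exact h3
    · exfalso
      apply hzK
      rw [← h3]
      have e1 : ⁅v, g⁆ = v * (g * v⁻¹ * g⁻¹) := by rw [commutatorElement_def]; group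
      rw [e1]
      exact K.mul_mem hvK ((mem_normalizer_iff.mp (hPK hg) _).mp (K.inv_mem hvK))
  have hzZp : z ∈ Zp := (hmemZp z).mpr ⟨hzP, hzc⟩
  have hidx4 : Zp.relIndex Pz ≤ 4 := by
    have h1 : K.relIndex P ≤ 8 := by
      rw [← relIndex_mul_relIndex _ _ _ hKH hHP]
      calc _ ≤ 4 * 2 := Nat.mul_le_mul hiK hiH
        _ = 8 := by norm_num
    have hne : ∀ A B : Subgroup Γ, A.relIndex B ≠ 0 := fun A B => index_ne_zero_of_finite
    have h2 : K.relIndex Pz ≤ 8 := (relIndex_le_of_le_right hPzP (hne _ _)).trans h1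
    have h3 : (K ⊓ Pz).relIndex Zp * Zp.relIndex Pz = K.relIndex Pz := by
      rw [relIndex_mul_relIndex _ _ _ hKPz hZpPz, inf_relIndex_right]
    have h4 : 2 ≤ (K ⊓ Pz).relIndex Zp := by
      have h5 : (K ⊓ Pz).relIndex Zp ≠ 1 := by
        rw [Ne, relIndex_eq_one]
        intro h
        exact hzK (h hzZp).1
      have h6 := hne (K ⊓ Pz) Zp
      omega
    have h7 : 2 * Zp.relIndex Pz ≤ 8 := by
      calc 2 * Zp.relIndex Pz ≤ (K ⊓ Pz).relIndex Zp * Zp.relIndex Pz := Nat.mul_le_mul_right _ h4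
        _ = K.relIndex Pz := h3
        _ ≤ 8 := h2
    omega
  -- `l` acts trivially on `P_z / Z(P)`
  have hlZp : l ∈ normalizer (Zp : Set Γ) := by
    rw [mem_normalizer_iff]
    intro v
    rw [hmemZp, hmemZp, ← hlP v]
    refine and_congr_right fun hv => ?_
    constructor
    · intro h g hg
      have h1 := h _ (hlP' g hg)
      have e1 : l * v * l⁻¹ * g = l * (v * (l⁻¹ * g * l)) * l⁻¹ := by group
      rw [e1, h1]; group
    · intro h g hg
      have h1 := h _ ((hlP g).mp hg)
      have e1 : v * g = l⁻¹ * (l * v * l⁻¹ * (l * g * l⁻¹)) * l := by group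
      rw [e1, h1]; group
  have hlPz : l ∈ normalizer (Pz : Set Γ) := by
    rw [mem_normalizer_iff]
    intro v
    rw [hmemPz, hmemPz, ← hlP v]
    refine and_congr_right fun hv => ?_
    constructor
    · intro h g hg
      have e1 : ⁅l * v * l⁻¹, g⁆ = l * ⁅v, l⁻¹ * g * l⁆ * l⁻¹ := by
        rw [commutatorElement_def, commutatorElement_def]; group
      rw [e1]
      rcases h _ (hlP' g hg) with h1 | h1 <;> rw [h1]
      · left; group
      · right; exact hlz'
    · intro h g hg
      have e1 : ⁅v, g⁆ = l⁻¹ * ⁅l * v * l⁻¹, l * g * l⁻¹⁆ * l := by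
        rw [commutatorElement_def, commutatorElement_def]; group
      rw [e1]
      rcases h _ ((hlP g).mp hg) with h1 | h1 <;> rw [h1]
      · left; group
      · right; exact hlz
  have hact := CosetPerm.acts_trivially hidx4 hlPz hlZp hm2 h3m (by
    intro v hv
    have e1 : v⁻¹ * (l ^ m * v * (l ^ m)⁻¹) = ⁅v⁻¹, l ^ m⁆ := by
      rw [commutatorElement_def]; group
    rw [e1]
    rcases ((hmemPz _).mp (Pz.inv_mem hv)).2 _ hlm with h1 | h1 <;> rw [h1]
    · exact Zp.one_mem
    · exact hzZp)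
  have hu₂Pz : u₂ ∈ Pz := by
    rw [hmemPz]
    refine ⟨hu₂P, fun g hg => ?_⟩
    have e1 : ⁅u₂, g⁆ = ⁅g, u₂⁆⁻¹ := by rw [commutatorElement_inv]
    rw [e1]
    rcases hD₂ g hg with h1 | h1 <;> rw [h1]
    · left; simp
    · right; rw [hlz, hzinv]
  have hfin := hact u₂ hu₂Pz
  rw [← hul] at hfin
  -- so `u = u₂ ζ` with `ζ` central
  apply hF
  have h1 := ((hmemZp _).mp hfin).2 u₂ hu₂P
  have h2 : u * u₂ = u₂ * ((u₂⁻¹ * u) * u₂) := by group
  rw [h2, h1]; group

end Cfsg.Agent.H504.ClassTwoConj
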