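import Mathlib
import Cfsg.Agent.H504.ClassTwoConj
import Cfsg.Agent.H504.BadPair

/-!
# The key step for the prime two

`G` is a normal Hall subgroup of `Γ`, `L` a maximal subgroup of `Γ` such that `G ∩ L` is a nontrivial
`2`-group of class at most two containing no nontrivial normal subgroup of `Γ`.  Then `G` has a normal
`2`-complement.
-/

set_option autoImplicit false

namespace Cfsg.Agent.H504.KeyTwo

open Subgroup
open scoped commutatorElement

/-- A self-normalising `p`-subgroup is a Sylow subgroup. -/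
theorem exists_sylow_of_normalizer_le {G : Type*} [Group G] [Finite G] {p : ℕ} [hp : Fact p.Prime]
    {Q : Subgroup G} (hQ : IsPGroup p Q)
    (h : ∀ g ∈ normalizer (Q : Set G), (∃ k : ℕ, g ^ p ^ k = 1) → g ∈ Q) :
    ∃ P : Sylow p G, (P : Subgroup G) = Q := by
  obtain ⟨P, hP⟩ := hQ.exists_le_sylow
  refine ⟨P, le_antisymm ?_ hP⟩
  have hPn : Group.IsNilpotent P := P.2.isNilpotent
  have hnc : NormalizerCondition P := Group.normalizerCondition_of_isNilpotent
  rw [normalizerCondition_iff_only_full_group_self_normalizing] at hnc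
  have h1 : normalizer ((Q.subgroupOf P : Subgroup P) : Set P) = Q.subgroupOf P := by
    apply le_antisymm _ le_normalizer
    intro g hg
    rw [mem_subgroupOf]
    apply h
    · rw [mem_normalizer_iff] at hg ⊢
      intro q
      constructor
      · intro hq
        exact (hg ⟨q, hP hq⟩).mp hq
      · intro hq
        have h2 : q ∈ (P : Subgroup G) := by
          have h3 : q = (g : G)⁻¹ * ((g : G) * q * (g : G)⁻¹) * g := by group
          rw [h3]
          exact mul_mem (mul_mem (inv_mem g.2) (hP hq)) g.2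
        exact (hg ⟨q, h2⟩).mpr hq
    · obtain ⟨k, hk⟩ := P.2 g
      exact ⟨k, congrArg Subtype.val hk⟩
  have h2 := hnc _ h1
  intro g hg
  have h3 : (⟨g, hg⟩ : P) ∈ Q.subgroupOf P := by rw [h2]; exact mem_top _
  exact mem_subgroupOf.mp h3

/-- In the core-free case a nontrivial subgroup of `G ∩ L` normalised by the maximal subgroup `L` has
normaliser `L`. -/
theorem normalizer_le {Γ : Type*} [Group Γ] {L : Subgroup Γ} {M : Subgroup Γ} (hL : IsCoatom L)
    (hcore : ∀ N : Subgroup Γ, N.Normal → N ≤ M → N = ⊥) {Q : Subgroup Γ} (hQM : Q ≤ M)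
    (hQ : Q ≠ ⊥) (hLQ : L ≤ normalizer (Q : Set Γ)) : normalizer (Q : Set Γ) ≤ L := by
  rcases hL.le_iff.mp hLQ with h | h
  · exact absurd (hcore Q (normalizer_eq_top_iff.mp h) hQM) hQ
  · exact h.le

theorem hasNormalPComplement_two {Γ : Type*} [Group Γ] [Finite Γ] (G L : Subgroup Γ)
    [hG : G.Normal] (hcop : (Nat.card G).Coprime G.index) (hL : IsCoatom L)
    (hP2 : IsPGroup 2 ↥(G ⊓ L)) (hP1 : G ⊓ L ≠ ⊥)
    (hcl : ∀ a ∈ G ⊓ L, ∀ b ∈ G ⊓ L, ∀ c ∈ G ⊓ L, ⁅a, b⁆ * c = c * ⁅a, b⁆)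
    (hcore : ∀ N : Subgroup Γ, N.Normal → N ≤ G ⊓ L → N = ⊥) :
    Cfsg.HasNormalPComplement 2 G := by
  classical
  by_contra hno
  obtain ⟨P, hP⟩ : ∃ P : Subgroup Γ, P = G ⊓ L := ⟨_, rfl⟩
  rw [← hP] at hP2 hP1 hcl hcore
  have hPG : P ≤ G := hP ▸ inf_le_left
  have hPL : P ≤ L := hP ▸ inf_le_right
  have hPmem : ∀ g, g ∈ G → g ∈ L → g ∈ P := fun g h1 h2 => hP ▸ ⟨h1, h2⟩
  have hLP : L ≤ normalizer (P : Set Γ) := by
    rw [le_normalizer_iff]
    intro l hl g hg
    exact hPmem _ (hG.conj_mem g (hPG hg) l) (mul_mem (mul_mem hl (hPL hg)) (inv_mem hl))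
  have hNP : normalizer (P : Set Γ) ≤ L := normalizer_le hL hcore le_rfl hP1 hLP
  -- `P` is a Sylow `2`-subgroup of `G`
  have hNPG : ∀ g : G, g ∈ normalizer ((P.subgroupOf G : Subgroup G) : Set G) → g ∈ P.subgroupOf G := by
    intro g hg
    rw [mem_subgroupOf]
    refine hPmem _ g.2 (hNP ?_)
    have h1 := (le_normalizer_map (H := P.subgroupOf G) G.subtype) (mem_map_of_mem G.subtype hg)
    rwa [subgroupOf_map_subtype, inf_of_le_left hPG] at h1
  obtain ⟨P₀, hP₀⟩ := exists_sylow_of_normalizer_le (p := 2) (Q := P.subgroupOf G)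
    (hP2.comap_of_injective _ (Subgroup.subtype_injective _)) (fun g hg _ => hNPG g hg)
  have hP₀mem : ∀ g : G, g ∈ (P₀ : Subgroup G) ↔ (g : Γ) ∈ P := by
    intro g; rw [hP₀, mem_subgroupOf]
  obtain ⟨H', x', hH'P, hcent', hxN', hxo', hxc', hZ', hidx', hinv'⟩ := BadPair.exists_bad P₀
    (fun a ha b hb c hc => Subtype.ext
      (hcl a ((hP₀mem a).mp ha) b ((hP₀mem b).mp hb) c ((hP₀mem c).mp hc)))
    (by
      intro g hg
      rw [hP₀] at hg ⊢
      exact hNPG g hg) hno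
  -- move to `Γ`
  set H : Subgroup Γ := H'.map G.subtype with hH
  have hHmem : ∀ g : G, (g : Γ) ∈ H ↔ g ∈ H' := by
    intro g
    constructor
    · rintro ⟨h, hh, hhg⟩
      have : h = g := Subtype.ext hhg
      rwa [← this]
    · intro hg
      exact mem_map_of_mem G.subtype hg
  have hHG : H ≤ G := by
    rintro _ ⟨h, -, rfl⟩
    exact h.2
  have hHP : H ≤ P := by
    rintro _ ⟨h, hh, rfl⟩
    exact (hP₀mem h).mp (hH'P hh)
  set x : Γ := (x' : Γ) with hx
  have hxG : x ∈ G := x'.2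
  have hZP : ∀ c ∈ P, (∀ b ∈ P, c * b = b * c) → c ∈ H := by
    intro c hc hcc
    have h1 := hcent' ⟨c, hPG hc⟩ ((hP₀mem _).mpr hc) (fun h hh => Subtype.ext
      (hcc h (hHP ((hHmem h).mpr hh))))
    exact (hHmem _).mpr h1
  have hidx : ∀ a ∈ P, ∀ b ∈ P, a ∉ H → b ∉ H → a * b⁻¹ ∈ H := by
    intro a ha b hb ha' hb'
    have h1 := hidx' ⟨a, hPG ha⟩ ((hP₀mem _).mpr ha) ⟨b, hPG hb⟩ ((hP₀mem _).mpr hb)
      (fun h => ha' ((hHmem _).mpr h)) (fun h => hb' ((hHmem _).mpr h))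
    exact (hHmem _).mpr h1
  have hinv : ∀ t ∈ P, t ∉ H → t * x * t⁻¹ * x ∈ H := by
    intro t ht htH
    have h1 := hinv' ⟨t, hPG ht⟩ ((hP₀mem _).mpr ht) (fun h => htH ((hHmem _).mpr h))
    exact (hHmem _).mpr h1
  have hxN : x ∈ normalizer (H : Set Γ) :=
    (le_normalizer_map (H := H') G.subtype) (mem_map_of_mem G.subtype hxN')
  have hxo : (orderOf x).Coprime 2 := by
    rw [hx, Subgroup.orderOf_coe]; exact hxo'
  have hxc : ∃ h ∈ H, x * h ≠ h * x := by
    by_contra hcon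
    push Not at hcon
    apply hxc'
    rw [mem_centralizer_iff]
    intro h hh
    exact Subtype.ext (hcon h ((hHmem h).mpr hh)).symm
  have hZH : ∀ y ∈ G, y ∈ normalizer (H : Set Γ) → ∀ h ∈ H, ∀ k ∈ H, ⁅y, h⁆ * k = k * ⁅y, h⁆ := by
    intro y hy hyN h hh k hk
    have h1 : (⟨y, hy⟩ : G) ∈ normalizer (H' : Set G) := by
      rw [mem_normalizer_iff] at hyN ⊢
      intro g
      rw [← hHmem, ← hHmem]
      exact hyN g
    exact congrArg Subtype.val (hZ' ⟨y, hy⟩ h1 ⟨h, hHG hh⟩ ((hHmem _).mp hh) ⟨k, hHG hk⟩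
      ((hHmem _).mp hk))
  -- parity
  have h2G : 2 ∣ Nat.card G := by
    have h1 : 2 ∣ Nat.card P := by
      rcases hP2.card_eq_or_dvd with h | h
      · exact absurd (Subgroup.card_eq_one.mp h) hP1
      · exact h
    exact h1.trans (card_dvd_of_le hPG)
  have hmodd : Odd G.index := by
    rw [← Nat.not_even_iff_odd, even_iff_two_dvd]
    intro h
    have := Nat.dvd_gcd h2G h
    rw [hcop] at this
    norm_num at this
  have hmx : G.index.Coprime (orderOf x) := by
    have h1 : orderOf x ∣ Nat.card G := by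
      rw [hx, Subgroup.orderOf_coe]
      exact orderOf_dvd_natCard x'
    exact (Nat.Coprime.coprime_dvd_left h1 hcop).symm
  have hlm : ∀ l ∈ L, l ^ G.index ∈ P := fun l hl =>
    hPmem _ (G.pow_index_mem l) (pow_mem hl _)
  -- the central elements of conjugates of `H` lie in `H`
  have key : ∀ l ∈ L, ∀ z ∈ H, (∀ k ∈ H, z * k = k * z) → l⁻¹ * z * l ∈ H := by
    intro l hl z hz hzk
    refine ClassTwoConj.mem_of_center_conj P H hP2 hcl hHP hZP hidx x hxN
      (Nat.coprime_two_right.mp hxo) hxc hinv l⁻¹ (hLP (inv_mem hl)) G.index hmodd hmx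
      (hlm _ (inv_mem hl)) (l⁻¹ * z * l) ?_ ?_
    · have : l⁻¹⁻¹ * (l⁻¹ * z * l) * l⁻¹ = z := by group
      rw [this]; exact hz
    · intro h hh
      have h1 : l⁻¹ * z * l * (l⁻¹ * h * l⁻¹⁻¹) = l⁻¹ * (z * h) * l := by group
      rw [h1, hzk h hh]; group
  -- the subgroup `D`
  let D : Subgroup Γ :=
    { carrier := {d | ∀ l ∈ L, l⁻¹ * d * l ∈ H}
      one_mem' := by
        intro l _
        have : l⁻¹ * 1 * l = 1 := by group
        rw [this]; exact H.one_mem
      mul_mem' := by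
        intro a b ha hb l hl
        have : l⁻¹ * (a * b) * l = (l⁻¹ * a * l) * (l⁻¹ * b * l) := by group
        rw [this]; exact H.mul_mem (ha l hl) (hb l hl)
      inv_mem' := by
        intro a ha l hl
        have : l⁻¹ * a⁻¹ * l = (l⁻¹ * a * l)⁻¹ := by group
        rw [this]; exact H.inv_mem (ha l hl) }
  have hDmem : ∀ d, d ∈ D ↔ ∀ l ∈ L, l⁻¹ * d * l ∈ H := fun d => Iff.rfl
  have hDH : D ≤ H := by
    intro d hd
    have := (hDmem d).mp hd 1 L.one_mem
    simpa using this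
  have hLD : L ≤ normalizer (D : Set Γ) := by
    rw [le_normalizer_iff]
    intro l₀ hl₀ d hd
    rw [hDmem]
    intro l hl
    have h1 := (hDmem d).mp hd (l₀⁻¹ * l) (mul_mem (inv_mem hl₀) hl)
    have h2 : (l₀⁻¹ * l)⁻¹ * d * (l₀⁻¹ * l) = l⁻¹ * (l₀ * d * l₀⁻¹) * l := by group
    rwa [h2] at h1
  have hyD : ∀ y ∈ G, y ∈ normalizer (H : Set Γ) → ∀ d ∈ D, y * d * y⁻¹ ∈ D := by
    intro y hy hyN d hd
    have h1 : y * d * y⁻¹ = ⁅y, d⁆ * d := by rw [commutatorElement_def]; group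
    rw [h1]
    refine D.mul_mem ?_ hd
    rw [hDmem]
    intro l hl
    refine key l hl _ ?_ (hZH y hy hyN d (hDH hd))
    rw [commutatorElement_def]
    exact H.mul_mem ((mem_normalizer_iff.mp hyN d).mp (hDH hd)) (H.inv_mem (hDH hd))
  have hxD : x ∈ normalizer (D : Set Γ) := by
    rw [mem_normalizer_iff]
    intro d
    refine ⟨hyD x hxG hxN d, fun hd => ?_⟩
    have h1 := hyD x⁻¹ (inv_mem hxG) (inv_mem hxN) _ hd
    have h2 : x⁻¹ * (x * d * x⁻¹) * x⁻¹⁻¹ = d := by group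
    rwa [h2] at h1
  have hxL : x ∉ L := by
    intro hxL
    have h1 : x ∈ P := hPmem x hxG hxL
    have h2 : x = 1 := by
      obtain ⟨k, hk⟩ := (IsPGroup.iff_orderOf.mp hP2) ⟨x, h1⟩
      rw [Subgroup.orderOf_mk] at hk
      rw [← orderOf_eq_one_iff]
      exact Nat.eq_one_of_dvd_coprimes (hxo.pow_right k) dvd_rfl (hk ▸ dvd_rfl)
    obtain ⟨h, _, hxh⟩ := hxc
    apply hxh
    rw [h2, one_mul, mul_one]
  have htop : normalizer (D : Set Γ) = ⊤ := by
    apply hL.2
    refine lt_of_le_of_ne hLD fun h => hxL ?_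
    rw [h]; exact hxD
  have hDbot : D = ⊥ := hcore D (normalizer_eq_top_iff.mp htop) (hDH.trans hHP)
  -- but `Z(P) ≤ D`
  have hPnt : Nontrivial P := (Subgroup.nontrivial_iff_ne_bot P).mpr hP1
  have hZnt := hP2.center_nontrivial
  obtain ⟨⟨⟨z, hzP⟩, hzZ⟩, hz1⟩ := exists_ne (1 : Subgroup.center P)
  have hzc : ∀ b ∈ P, z * b = b * z := by
    intro b hb
    have h1 := Subgroup.mem_center_iff.mp hzZ ⟨b, hb⟩
    exact (congrArg Subtype.val h1).symm
  have hzD : z ∈ D := by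
    rw [hDmem]
    intro l hl
    have hl' := hLP hl
    apply hZP
    · have h1 := (mem_normalizer_iff.mp (inv_mem hl') z).mp hzP
      rwa [inv_inv] at h1
    · intro b hb
      have h1 := hzc _ ((mem_normalizer_iff.mp hl' b).mp hb)
      have h2 : l⁻¹ * z * l * b = l⁻¹ * (z * (l * b * l⁻¹)) * l := by group
      rw [h2, h1]; group
  apply hz1
  rw [hDbot, mem_bot] at hzD
  apply Subtype.ext
  apply Subtype.ext
  exact hzD

end Cfsg.Agent.H504.KeyTwo
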