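import Mathlib
import Cfsg.Agent.S0023
import Cfsg.Agent.S0659
import Cfsg.Agent.Solvable.FpfThompson
import Cfsg.Agent.H504.KeyTwo

/-!
# Normal Hall subgroups meeting a maximal subgroup in a nilpotent group

`isSolvable_of_maximal`: let `G` be a normal Hall subgroup of the finite group `Γ` and `L` a solvable
maximal subgroup of `Γ` not containing `G`, such that `G ∩ L` is nilpotent and its `2`-elements
generate a group of class at most two.  Then `G` is solvable.

With `Γ = G` this is the theorem of Thompson, Deskins and Janko on nilpotent maximal subgroups, and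
with `Γ = G ⋊ A` its version for coprime actions.
-/

set_option autoImplicit false

namespace Cfsg.Agent.H504.MaxNil

open Subgroup
open scoped commutatorElement

universe u

/-- The `2`-elements of `M` satisfy the identity `[[a, b], c] = 1`. -/
def TwoCl {Γ : Type*} [Group Γ] (M : Subgroup Γ) : Prop :=
  ∀ a ∈ M, ∀ b ∈ M, ∀ c ∈ M, (∃ k : ℕ, a ^ 2 ^ k = 1) → (∃ k : ℕ, b ^ 2 ^ k = 1) →
    (∃ k : ℕ, c ^ 2 ^ k = 1) → ⁅a, b⁆ * c = c * ⁅a, b⁆

theorem TwoCl.mono {Γ : Type*} [Group Γ] {M N : Subgroup Γ} (h : TwoCl M) (hNM : N ≤ M) :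
    TwoCl N :=
  fun a ha b hb c hc => h a (hNM ha) b (hNM hb) c (hNM hc)

/-- `2`-elements lift to `2`-elements. -/
theorem exists_lift_two {Γ Γ' : Type*} [Group Γ] [Finite Γ] [Group Γ'] (f : Γ →* Γ')
    {M : Subgroup Γ} {q : Γ'} (hq : q ∈ M.map f) (hk : ∃ k : ℕ, q ^ 2 ^ k = 1) :
    ∃ g ∈ M, f g = q ∧ ∃ k : ℕ, g ^ 2 ^ k = 1 := by
  obtain ⟨g, hg, rfl⟩ := hq
  obtain ⟨k, hk⟩ := hk
  -- odd part `m` of the order of `g`
  set m := orderOf g / 2 ^ (orderOf g).factorization 2 with hm
  have hpos : orderOf g ≠ 0 := (orderOf_pos g).ne'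
  have hmodd : m.Coprime 2 := (Nat.coprime_ordCompl Nat.prime_two hpos).symm
  have hmul : 2 ^ (orderOf g).factorization 2 * m = orderOf g := Nat.ordProj_mul_ordCompl_eq_self _ _
  obtain ⟨n, hn1, hn2⟩ := Nat.chineseRemainder (hmodd.pow_right k) 0 1
  refine ⟨g ^ n, M.pow_mem hg n, ?_, (orderOf g).factorization 2, ?_⟩
  · rw [map_pow]
    conv_rhs => rw [← pow_one (f g)]
    refine pow_eq_pow_iff_modEq.mpr (hn2.of_dvd ?_)
    exact orderOf_dvd_of_pow_eq_one hk
  · rw [← pow_mul, ← orderOf_dvd_iff_pow_eq_one]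
    have h1 : m ∣ n := (Nat.modEq_zero_iff_dvd).mp hn1
    obtain ⟨c, hc⟩ := h1
    refine ⟨c, ?_⟩
    calc n * 2 ^ (orderOf g).factorization 2 = (2 ^ (orderOf g).factorization 2 * m) * c := by
          rw [hc]; ring
      _ = orderOf g * c := by rw [hmul]

theorem TwoCl.map {Γ Γ' : Type*} [Group Γ] [Finite Γ] [Group Γ'] (f : Γ →* Γ')
    {M : Subgroup Γ} (h : TwoCl M) : TwoCl (M.map f) := by
  intro a ha b hb c hc ha2 hb2 hc2
  obtain ⟨a', ha', rfl, ha2'⟩ := exists_lift_two f ha ha2
  obtain ⟨b', hb', rfl, hb2'⟩ := exists_lift_two f hb hb2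
  obtain ⟨c', hc', rfl, hc2'⟩ := exists_lift_two f hc hc2
  rw [← map_commutatorElement, ← map_mul, h a' ha' b' hb' c' hc' ha2' hb2' hc2', map_mul]

/-- Subgroups of nilpotent subgroups are nilpotent. -/
theorem isNilpotent_of_le {Γ : Type*} [Group Γ] {M N : Subgroup Γ} (h : Group.IsNilpotent M)
    (hNM : N ≤ M) : Group.IsNilpotent N :=
  Group.nilpotent_of_mulEquiv (subgroupOfEquivOfLe hNM)

/-- The odd prime step: the Sylow `p`-subgroup. -/
theorem hasNormalPComplement_odd {Γ : Type u} [Group Γ] [Finite Γ] (G L : Subgroup Γ)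
    [hG : G.Normal] (hL : IsCoatom L) (hnil : Group.IsNilpotent ↥(G ⊓ L))
    (hcore : ∀ N : Subgroup Γ, N.Normal → N ≤ G ⊓ L → N = ⊥)
    {p : ℕ} [hp : Fact p.Prime] (hp2 : p ≠ 2) (hpM : p ∣ Nat.card ↥(G ⊓ L)) :
    Cfsg.HasNormalPComplement p G := by
  classical
  obtain ⟨M, hM⟩ : ∃ M : Subgroup Γ, M = G ⊓ L := ⟨_, rfl⟩
  rw [← hM] at hnil hcore hpM
  have hMG : M ≤ G := hM ▸ inf_le_left
  have hML : M ≤ L := hM ▸ inf_le_right
  have hMmem : ∀ g, g ∈ G → g ∈ L → g ∈ M := fun g h1 h2 => hM ▸ ⟨h1, h2⟩
  have hLM : L ≤ normalizer (M : Set Γ) := by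
    rw [le_normalizer_iff]
    intro l hl g hg
    exact hMmem _ (hG.conj_mem g (hMG hg) l) (mul_mem (mul_mem hl (hML hg)) (inv_mem hl))
  -- the Sylow `p`-subgroup of `M`
  obtain ⟨S₀⟩ : Nonempty (Sylow p M) := inferInstance
  have hS₀n : (S₀ : Subgroup M).Normal :=
    ((Group.isNilpotent_of_finite_tfae (G := M)).out 0 3 rfl rfl).mp hnil p hp S₀
  have hS₀mem : ∀ m : M, m ∈ (S₀ : Subgroup M) ↔ ∃ k : ℕ, (m : Γ) ^ p ^ k = 1 := by
    intro m
    constructor
    · intro hm
      obtain ⟨k, hk⟩ := S₀.2 ⟨m, hm⟩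
      exact ⟨k, congrArg (fun z : S₀ => ((z : M) : Γ)) hk⟩
    · rintro ⟨k, hk⟩
      have hm : m ^ p ^ k = 1 := Subtype.ext hk
      have h1 : IsPGroup p (zpowers m) := by
        rw [isPGroup_iff_pow_pow_eq_one]
        rintro ⟨_, n, rfl⟩
        refine ⟨k, Subtype.ext ?_⟩
        change (m ^ n) ^ p ^ k = 1
        rw [← zpow_natCast, ← zpow_mul, mul_comm, zpow_mul, zpow_natCast, hm, one_zpow]
      obtain ⟨R, hR⟩ := h1.exists_le_sylow
      have := S₀.unique_of_normal hS₀n
      have h2 : R = S₀ := Subsingleton.elim _ _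
      rw [← h2]
      exact hR (mem_zpowers m)
  set S : Subgroup Γ := (S₀ : Subgroup M).map M.subtype with hS
  have hSM : S ≤ M := by
    rintro _ ⟨m, -, rfl⟩; exact m.2
  have hSmem : ∀ g, g ∈ S ↔ g ∈ M ∧ ∃ k : ℕ, g ^ p ^ k = 1 := by
    intro g
    constructor
    · rintro ⟨m, hm, rfl⟩
      exact ⟨m.2, (hS₀mem m).mp hm⟩
    · rintro ⟨h1, h2⟩
      exact ⟨⟨g, h1⟩, (hS₀mem ⟨g, h1⟩).mpr h2, rfl⟩
  have hSp : IsPGroup p S := S₀.2.map _
  have hSne : S ≠ ⊥ := by
    intro h
    have h1 := S₀.ne_bot_of_dvd_card hpM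
    apply h1
    rw [hS, (Subgroup.map_eq_bot_iff_of_injective _ (Subgroup.subtype_injective M))] at h
    exact h
  have hLS : L ≤ normalizer (S : Set Γ) := by
    rw [le_normalizer_iff]
    intro l hl g hg
    obtain ⟨h1, k, hk⟩ := (hSmem g).mp hg
    refine (hSmem _).mpr ⟨(mem_normalizer_iff.mp (hLM hl) g).mp h1, k, ?_⟩
    rw [conj_pow, hk]; group
  have hSG : S ≤ G := hSM.trans hMG
  have hNS : normalizer (S : Set Γ) ≤ L := KeyTwo.normalizer_le hL hcore hSM hSne hLS
  -- it is a Sylow subgroup of `G`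
  obtain ⟨P, hP⟩ := KeyTwo.exists_sylow_of_normalizer_le (p := p) (Q := S.subgroupOf G)
    (hSp.comap_of_injective _ (Subgroup.subtype_injective _)) (by
      rintro g hg ⟨k, hk⟩
      rw [mem_subgroupOf, hSmem]
      have h1 := (le_normalizer_map (H := S.subgroupOf G) G.subtype) (mem_map_of_mem G.subtype hg)
      rw [subgroupOf_map_subtype, inf_of_le_left hSG] at h1
      exact ⟨hMmem _ g.2 (hNS h1), k, congrArg Subtype.val hk⟩)
  have hPmap : (P : Subgroup G).map G.subtype = S := by
    rw [hP, subgroupOf_map_subtype, inf_of_le_left hSG]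
  -- the subgroup `Z(J(P))`
  apply Cfsg.Agent.S0659.result hp2 P
  set Q : Subgroup G := Cfsg.centerThompsonAOf (P : Subgroup G) with hQ
  have hPne : (P : Subgroup G) ≠ ⊥ := by
    intro h
    apply hSne
    rw [← hPmap, h, Subgroup.map_bot]
  have hQmap : Q.map G.subtype = Cfsg.centerThompsonAOf S := by
    rw [hQ, Cfsg.Agent.PLocal.ThompsonJA.map_centerThompsonAOf _ (Subgroup.subtype_injective _), hPmap]
  have hQne : Q.map G.subtype ≠ ⊥ := by
    rw [hQmap]
    exact Cfsg.Agent.PLocal.ThompsonJA.centerThompsonAOf_ne_bot S hSp hSne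
  have hQM : Q.map G.subtype ≤ M := by
    rw [hQmap]
    exact (Cfsg.Agent.PLocal.ThompsonJA.centerThompsonAOf_le S).trans hSM
  have hLQ : L ≤ normalizer ((Q.map G.subtype : Subgroup Γ) : Set Γ) := by
    intro l hl
    rw [hQmap, mem_normalizer_iff_map_conj_eq]
    have h1 := Cfsg.Agent.PLocal.ThompsonJA.map_centerThompsonAOf (MulAut.conj l : Γ →* Γ)
      (MulAut.conj l).injective S
    rw [mem_normalizer_iff_map_conj_eq.mp (hLS hl)] at h1
    exact h1
  have hNQ : normalizer ((Q.map G.subtype : Subgroup Γ) : Set Γ) ≤ L :=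
    KeyTwo.normalizer_le hL hcore hQM hQne hLQ
  apply Cfsg.Agent.Solvable.FpfThompson.hasNormalPComplement_of_isNilpotent
  -- the normaliser embeds in `M`
  have hle : (normalizer (Q : Set G)).map G.subtype ≤ M := by
    rintro _ ⟨g, hg, rfl⟩
    exact hMmem _ g.2 (hNQ ((le_normalizer_map (H := Q) G.subtype) (mem_map_of_mem G.subtype hg)))
  have h1 : Group.IsNilpotent ((normalizer (Q : Set G)).map G.subtype) := isNilpotent_of_le hnil hle
  exact Group.nilpotent_of_mulEquiv
    ((normalizer (Q : Set G)).equivMapOfInjective G.subtype (Subgroup.subtype_injective G)).symm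

theorem main (n : ℕ) : ∀ (Γ : Type u) [Group Γ] [Finite Γ] (G L : Subgroup Γ), G.Normal →
    (Nat.card G).Coprime G.index → Group.IsSolvable L → IsCoatom L → ¬ G ≤ L →
    Group.IsNilpotent ↥(G ⊓ L) → TwoCl (G ⊓ L) → Nat.card G = n → Group.IsSolvable G := by
  induction n using Nat.strong_induction_on with
  | _ n ih =>
  intro Γ _ _ G L hG hcop hLs hL hGL hnil hcl hn
  classical
  by_cases hcore : ∃ N : Subgroup Γ, N.Normal ∧ N ≤ G ⊓ L ∧ N ≠ ⊥
  · -- pass to the quotient by `N`
    obtain ⟨N, hN, hNM, hN1⟩ := hcore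
    have hNG : N ≤ G := hNM.trans inf_le_left
    have hNL : N ≤ L := hNM.trans inf_le_right
    let π : Γ →* Γ ⧸ N := QuotientGroup.mk' N
    have hπs : Function.Surjective π := QuotientGroup.mk'_surjective N
    have hπ : ∀ y, π y = 1 ↔ y ∈ N := fun y => QuotientGroup.eq_one_iff y
    have hcomap : ∀ K : Subgroup Γ, N ≤ K → (K.map π).comap π = K := by
      intro K hNK
      rw [comap_map_eq, sup_eq_left, QuotientGroup.ker_mk']
      exact hNK
    have hmem : ∀ K : Subgroup Γ, N ≤ K → ∀ g, π g ∈ K.map π ↔ g ∈ K := by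
      intro K hNK g
      rw [← mem_comap, hcomap K hNK]
    have hinf : G.map π ⊓ L.map π = (G ⊓ L).map π := by
      ext q
      obtain ⟨g, rfl⟩ := hπs q
      rw [mem_inf, hmem G hNG, hmem L hNL, hmem _ hNM, mem_inf]
    have hcard : Nat.card (G.map π) * Nat.card N = Nat.card G := by
      have h1 : Nat.card (G.map π) = N.relIndex G := by
        rw [← relIndex_ker, QuotientGroup.ker_mk']
      rw [h1, mul_comm, ← relIndex_bot_left N, ← relIndex_bot_left G]
      exact relIndex_mul_relIndex _ _ _ bot_le hNG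
    have hidx : (G.map π).index = G.index :=
      index_map_eq G hπs (by rw [QuotientGroup.ker_mk']; exact hNG)
    have hNcard : 1 < Nat.card N := by
      rw [Finite.one_lt_card_iff_nontrivial, Subgroup.nontrivial_iff_ne_bot]
      exact hN1
    have hpos : 0 < Nat.card (G.map π) := Nat.card_pos
    have h1 : Group.IsSolvable (G.map π) := by
      refine ih (Nat.card (G.map π)) ?_ (Γ ⧸ N) (G.map π) (L.map π) (hG.map π hπs) ?_ ?_ ?_ ?_ ?_
        ?_ rfl
      · rw [← hn, ← hcard]
        exact lt_mul_of_one_lt_right hpos hNcard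
      · rw [hidx]
        exact Nat.Coprime.coprime_dvd_left ⟨_, hcard.symm⟩ hcop
      · exact Group.isSolvable_of_surjective (π.subgroupMap_surjective L)
      · refine ⟨fun h => hL.1 ?_, fun K hK => ?_⟩
        · rw [← hcomap L hNL, h, comap_top]
        · have h2 : L < K.comap π := by
            rw [← hcomap L hNL]
            exact (comap_lt_comap_of_surjective hπs).mpr hK
          have h3 := hL.2 _ h2
          rw [← map_comap_eq_self_of_surjective hπs K, h3, ← MonoidHom.range_eq_map,
            MonoidHom.range_eq_top.mpr hπs]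
      · intro h
        apply hGL
        rw [← hcomap G hNG, ← hcomap L hNL]
        exact comap_mono h
      · rw [hinf]
        exact Group.nilpotent_of_surjective _ (π.subgroupMap_surjective (G ⊓ L))
      · rw [hinf]
        exact hcl.map π
    have h2 : Group.IsSolvable N := by
      have h3 : Group.IsNilpotent N := isNilpotent_of_le hnil hNM
      infer_instance
    exact Group.isSolvable_of_ker_le_range (inclusion hNG) (π.subgroupMap G) (by
      intro g hg
      have h3 : π g = 1 := congrArg Subtype.val hg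
      exact ⟨⟨g, (hπ g).mp h3⟩, rfl⟩)
  · have hcore' : ∀ N : Subgroup Γ, N.Normal → N ≤ G ⊓ L → N = ⊥ := by
      intro N h1 h2
      by_contra h3
      exact hcore ⟨N, h1, h2, h3⟩
    by_cases hM : G ⊓ L = ⊥
    · -- `G` has no proper nontrivial `L`-invariant subgroups
      have hG1 : Nat.card G ≠ 1 := by
        intro h
        apply hGL
        rw [Subgroup.card_eq_one.mp h]
        exact bot_le
      obtain ⟨p, hp, hpG⟩ := Nat.exists_prime_and_dvd hG1
      have : Fact p.Prime := ⟨hp⟩
      have hsup : G ⊔ L = ⊤ := by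
        apply hL.2
        refine lt_of_le_of_ne le_sup_right fun h => hGL ?_
        rw [h]; exact le_sup_left
      have hLcard : Nat.card L = G.index := by
        have h1 : IsComplement' G L := isComplement'_of_disjoint_and_mul_eq_univ
          (disjoint_iff.mpr hM) (by rw [← normal_mul, hsup, coe_top])
        exact h1.symm.index_eq_card ▸ rfl
      obtain ⟨P, hP⟩ := Cfsg.Agent.S0023.result L G (by rw [normalizer_eq_top]; exact le_top)
        (by rw [hLcard]; exact hcop.symm) (Or.inl hLs) p
      have hPne : (P : Subgroup G).map G.subtype ≠ ⊥ := by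
        rw [Ne, Subgroup.map_eq_bot_iff_of_injective _ (Subgroup.subtype_injective G)]
        exact P.ne_bot_of_dvd_card hpG
      have hPG : (P : Subgroup G).map G.subtype ≤ G := map_subtype_le _
      have hPL : (P : Subgroup G).map G.subtype ⊔ L = ⊤ := by
        apply hL.2
        refine lt_of_le_of_ne le_sup_right fun h => hPne ?_
        rw [eq_bot_iff, ← hM]
        refine le_inf hPG ?_
        rw [h]; exact le_sup_left
      have hGP : ∀ g ∈ G, g ∈ (P : Subgroup G).map G.subtype := by
        intro g hg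
        have h1 : g ∈ (P : Subgroup G).map G.subtype ⊔ L := by rw [hPL]; exact mem_top g
        rw [← SetLike.mem_coe, coe_mul_of_right_le_normalizer_left _ _ hP] at h1
        obtain ⟨a, ha, b, hb, hab⟩ := h1
        have hab' : a * b = g := hab
        have hb1 : b ∈ G ⊓ L := by
          refine mem_inf.mpr ⟨?_, hb⟩
          have h2 : b = a⁻¹ * g := by rw [← hab']; group
          rw [h2]
          exact mul_mem (inv_mem (hPG ha)) hg
        rw [hM, mem_bot] at hb1
        rw [← hab', hb1, mul_one]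
        exact ha
      have hGp : IsPGroup p G := by
        have h1 : (P : Subgroup G) = ⊤ := by
          rw [eq_top_iff]
          intro g _
          obtain ⟨g', hg', hgg⟩ := hGP g g.2
          have : g' = g := Subtype.ext hgg
          rwa [← this]
        have h2 := P.2
        rw [h1] at h2
        exact h2.of_equiv topEquiv
      have := hGp.isNilpotent
      infer_instance
    · -- a prime with a normal complement
      obtain ⟨p, hp, hpG, hpc⟩ : ∃ p : ℕ, ∃ _ : Fact p.Prime, p ∣ Nat.card G ∧
          Cfsg.HasNormalPComplement p G := by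
        by_cases h2 : IsPGroup 2 ↥(G ⊓ L)
        · refine ⟨2, ⟨Nat.prime_two⟩, ?_, ?_⟩
          · have h1 : 2 ∣ Nat.card ↥(G ⊓ L) := by
              rcases h2.card_eq_or_dvd with h | h
              · exact absurd (Subgroup.card_eq_one.mp h) hM
              · exact h
            exact h1.trans (card_dvd_of_le inf_le_left)
          · refine KeyTwo.hasNormalPComplement_two G L hcop hL h2 hM ?_ hcore'
            intro a ha b hb c hc
            have key : ∀ d ∈ G ⊓ L, ∃ k : ℕ, d ^ 2 ^ k = 1 := by
              intro d hd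
              obtain ⟨k, hk⟩ := h2 ⟨d, hd⟩
              exact ⟨k, congrArg Subtype.val hk⟩
            exact hcl a ha b hb c hc (key a ha) (key b hb) (key c hc)
        · obtain ⟨p, hp, hpd, hp2⟩ : ∃ p : ℕ, p.Prime ∧ p ∣ Nat.card ↥(G ⊓ L) ∧ p ≠ 2 := by
            by_contra hcon
            push Not at hcon
            apply h2
            have h3 := Nat.eq_prime_pow_of_unique_prime_dvd (n := Nat.card ↥(G ⊓ L)) (p := 2)
              Nat.card_pos.ne' (fun {d} hd hdd => hcon d hd hdd)
            exact IsPGroup.of_card h3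
          have : Fact p.Prime := ⟨hp⟩
          exact ⟨p, this, hpd.trans (card_dvd_of_le inf_le_left),
            hasNormalPComplement_odd G L hL hnil hcore' hp2 hpd⟩
      obtain ⟨K₀, hK₀n, hK₀c, hK₀q⟩ :=
        Cfsg.Agent.Transfer.NormalPComplement.hasNormalPComplement_iff.mp hpc
      have hK₀mem : ∀ g : G, g ∈ K₀ ↔ (orderOf g).Coprime p := fun g =>
        Cfsg.Agent.Transfer.NormalPComplement.mem_iff_coprime_orderOf' K₀ hK₀c hK₀q g
      set K : Subgroup Γ := K₀.map G.subtype with hK
      have hKG : K ≤ G := map_subtype_le _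
      have hKmem : ∀ g, g ∈ K ↔ g ∈ G ∧ (orderOf g).Coprime p := by
        intro g
        constructor
        · rintro ⟨m, hm, rfl⟩
          refine ⟨m.2, ?_⟩
          have := (hK₀mem m).mp hm
          rwa [← Subgroup.orderOf_coe] at this
        · rintro ⟨h1, h2⟩
          refine ⟨⟨g, h1⟩, (hK₀mem ⟨g, h1⟩).mpr ?_, rfl⟩
          rw [Subgroup.orderOf_mk]; exact h2
      have hKn : K.Normal := by
        refine ⟨fun g hg γ => ?_⟩
        obtain ⟨h1, h2⟩ := (hKmem g).mp hg
        refine (hKmem _).mpr ⟨hG.conj_mem g h1 γ, ?_⟩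
        have h3 : orderOf (γ * g * γ⁻¹) = orderOf g :=
          orderOf_injective (MulAut.conj γ).toMonoidHom (MulAut.conj γ).injective g
        rw [h3]; exact h2
      have hKcard : Nat.card K = Nat.card K₀ :=
        (Nat.card_congr (K₀.equivMapOfInjective G.subtype (Subgroup.subtype_injective G)).toEquiv).symm
      have hquot : Group.IsSolvable (G ⧸ K₀) := by
        have := hK₀q.isNilpotent
        infer_instance
      have hfin : Group.IsSolvable K → Group.IsSolvable G := by
        intro h
        have h1 : Group.IsSolvable K₀ := Group.isSolvable_of_isSolvable_injective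
          (f := (K₀.equivMapOfInjective G.subtype (Subgroup.subtype_injective G)).toMonoidHom)
          (K₀.equivMapOfInjective G.subtype (Subgroup.subtype_injective G)).injective
        exact (Group.isSolvable_iff_subgroup_quotient K₀).mpr ⟨h1, hquot⟩
      apply hfin
      by_cases hKL : K ≤ L
      · have h1 : K = ⊥ := hcore' K hKn (le_inf hKG hKL)
        rw [h1]
        infer_instance
      · refine ih (Nat.card K) ?_ Γ K L hKn ?_ hLs hL hKL ?_ ?_ rfl
        · rw [← hn]
          refine lt_of_le_of_ne (card_le_of_le hKG) fun h => ?_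
          rw [hKcard] at h
          rw [← h] at hpG
          have h1 := Nat.Coprime.eq_one_of_dvd hK₀c.symm hpG
          exact hp.out.one_lt.ne' h1
        · rw [← relIndex_mul_index hKG]
          refine Nat.Coprime.mul_right ?_ (Nat.Coprime.coprime_dvd_left (card_dvd_of_le hKG) hcop)
          have h1 : K.relIndex G = K₀.index := by
            rw [relIndex]
            congr 1
            exact comap_map_eq_self_of_injective (Subgroup.subtype_injective G) K₀
          rw [h1, hKcard]
          obtain ⟨m, hm⟩ := IsPGroup.iff_card.mp hK₀q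
          rw [index_eq_card, hm]
          exact hK₀c.pow_right m
        · exact isNilpotent_of_le hnil (inf_le_inf_right L hKG)
        · exact hcl.mono (inf_le_inf_right L hKG)

/-- **Nilpotent maximal subgroups, relative version.** Let `G` be a normal Hall subgroup of the finite
group `Γ` and `L` a solvable maximal subgroup of `Γ` with `G ⊄ L`. If `G ∩ L` is nilpotent and its
`2`-elements satisfy `[[a, b], c] = 1`, then `G` is solvable. -/
theorem isSolvable_of_maximal {Γ : Type*} [Group Γ] [Finite Γ] (G L : Subgroup Γ) [hG : G.Normal]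
    (hcop : (Nat.card G).Coprime G.index) (hLs : Group.IsSolvable L) (hL : IsCoatom L)
    (hGL : ¬ G ≤ L) (hnil : Group.IsNilpotent ↥(G ⊓ L)) (hcl : TwoCl (G ⊓ L)) :
    Group.IsSolvable G :=
  main (Nat.card G) Γ G L hG hcop hLs hL hGL hnil hcl rfl

/-- The absolute version: a finite group with a nilpotent maximal subgroup whose `2`-elements satisfy
`[[a, b], c] = 1` is solvable. -/
theorem isSolvable_of_coatom {G : Type*} [Group G] [Finite G] (M : Subgroup G) (hM : IsCoatom M)
    (hnil : Group.IsNilpotent M) (hcl : TwoCl M) : Group.IsSolvable G := by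
  have h1 : Group.IsSolvable (⊤ : Subgroup G) := by
    refine isSolvable_of_maximal (⊤ : Subgroup G) M ?_ ?_ hM ?_ ?_ ?_
    · rw [index_top]; exact Nat.coprime_one_right _
    · infer_instance
    · exact fun h => hM.1 (top_le_iff.mp h)
    · rw [top_inf_eq]; exact hnil
    · rw [top_inf_eq]; exact hcl
  exact Group.isSolvable_of_isSolvable_injective (f := (topEquiv (G := G)).symm.toMonoidHom)
    (topEquiv (G := G)).symm.injective

end Cfsg.Agent.H504.MaxNil
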