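import Cfsg.Agent.H504.ZerosSt
import Cfsg.Agent.H167.HasStLie

/-!
# Zeros of the Steinberg character: simple groups of Lie type
-/

set_option autoImplicit false

namespace Cfsg.Agent.H504.Zeros

open Cfsg

universe u

/-- nine non-conjugate `p`-singular elements in a simple group of Lie type of characteristic `p` -/
theorem big_of_lie {p : ℕ} (hp : p.Prime) {T : Type u} [Group T] [Finite T] [IsSimpleGroup T]
    (h : IsLieTypeChar p T) (s : Finset T) (hs : NonConj s) (hps : ∀ g ∈ s, p ∣ orderOf g)
    (hcard : 9 ≤ s.card) : Big T :=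
  haveI : Fact p.Prime := ⟨hp⟩
  big_of_hasSt (Cfsg.Agent.H167.StChar.hasSt_of_lie hp h) s hs hps hcard

end Cfsg.Agent.H504.Zeros
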