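import Mathlib
import Cfsg.Prelude.Def_OddOrderLocal
import Cfsg.Prelude.Def_KGroupFacts
import Cfsg.Agent.Lib.NormalAbelian
import Cfsg.Agent.H504.FpfReduce

/-!
# Fixed points of operator groups on groups with cyclic outer automorphism group
-/

set_option autoImplicit false

namespace Cfsg.Agent.H504.FpfSimple

open Subgroup Cfsg.Agent.H504.FpfReduce

universe u v

section Hall

variable {A : Type v} [Group A] [Finite A]

omit [Finite A] in
/-- A Hall `π`-subgroup is isomorphic to the factor group by the normal `π`-complement. -/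
theorem bijective_of_hall {n : ℕ} (H K : Subgroup A) [K.Normal]
    (hH : Cfsg.IsPiHall {r : ℕ | r.Prime ∧ r ∣ n} H)
    (h1 : ∀ r : ℕ, r.Prime → r ∣ Nat.card K → ¬ r ∣ n)
    (h2 : ∀ r : ℕ, r.Prime → r ∣ K.index → r ∣ n) :
    Function.Bijective ((QuotientGroup.mk' K).comp H.subtype) := by
  constructor
  · rw [injective_iff_map_eq_one]
    intro x hx
    have hxK : (x : A) ∈ K := by
      have : QuotientGroup.mk' K (x : A) = 1 := hx
      rwa [← MonoidHom.mem_ker, QuotientGroup.ker_mk'] at this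
    by_contra hx1
    have h3 : orderOf (x : A) ≠ 1 := by
      rw [Ne, orderOf_eq_one_iff]
      exact fun h => hx1 (Subtype.ext h)
    obtain ⟨r, hr, hrx⟩ := Nat.exists_prime_and_dvd h3
    have h4 : r ∣ Nat.card K := hrx.trans (Subgroup.orderOf_dvd_natCard K hxK)
    have h5 : r ∣ Nat.card H := hrx.trans (Subgroup.orderOf_dvd_natCard H x.2)
    exact h1 r hr h4 (hH.1 r hr h5).2
  · rw [← MonoidHom.range_eq_top, ← Subgroup.index_eq_one]
    have h3 : ((QuotientGroup.mk' K).comp H.subtype).range = H.map (QuotientGroup.mk' K) := by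
      rw [MonoidHom.range_comp, Subgroup.range_subtype]
    rw [h3]
    by_contra hne
    obtain ⟨r, hr, hri⟩ := Nat.exists_prime_and_dvd hne
    have h4 : r ∣ H.index := hri.trans
      (Subgroup.index_map_dvd H (QuotientGroup.mk'_surjective K))
    have h5 : r ∣ K.index := by
      refine hri.trans ?_
      rw [Subgroup.index_eq_card K]
      exact Subgroup.index_dvd_card _
    exact hH.2 r hr ⟨hr, h2 r hr h5⟩ h4

omit [Finite A] in
theorem NC_of_hall {n : ℕ} (H K : Subgroup A) (hK : K.Normal)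
    (hH : Cfsg.IsPiHall {r : ℕ | r.Prime ∧ r ∣ n} H) (hnil : Group.IsNilpotent H)
    (h1 : ∀ r : ℕ, r.Prime → r ∣ Nat.card K → ¬ r ∣ n)
    (h2 : ∀ r : ℕ, r.Prime → r ∣ K.index → r ∣ n) : NC n A := by
  refine ⟨K, hK, ?_, ?_⟩
  · refine Nat.Coprime.symm ?_
    refine Nat.coprime_of_dvd ?_
    intro r hr hrn hrK
    exact h1 r hr hrK hrn
  · exact Group.nilpotent_of_surjective _ (bijective_of_hall H K hH h1 h2).2

end Hall

variable {G : Type u} [Group G] [Finite G]

/-- An automorphism fixing the conjugacy class of a nontrivial element fixes some nontrivial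
element. -/
theorem exists_fixed_of_isConj (α : MulAut G) (t : G) (ht : t ≠ 1) (h : IsConj t (α t)) :
    ∃ g : G, g ≠ 1 ∧ α g = g := by
  by_contra hcon
  push Not at hcon
  have hinj : Function.Injective (fun x : G => x⁻¹ * α x) := by
    intro x y hxy
    have hxy' : x⁻¹ * α x = y⁻¹ * α y := hxy
    have h1 : α (x * y⁻¹) = x * y⁻¹ := by
      rw [map_mul, map_inv]
      have h2 : α x = x * (y⁻¹ * α y) := by rw [← hxy']; group
      rw [h2]; group
    by_contra hne
    refine hcon (x * y⁻¹) ?_ h1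
    intro h2
    exact hne (mul_inv_eq_one.mp h2)
  have hsurj := Finite.surjective_of_injective hinj
  obtain ⟨g, hg⟩ := isConj_iff.mp h
  obtain ⟨x, hx⟩ := hsurj g⁻¹
  have hx' : x⁻¹ * α x = g⁻¹ := hx
  refine hcon (x * t * x⁻¹) ?_ ?_
  · intro h1
    apply ht
    have : t = x⁻¹ * (x * t * x⁻¹) * x := by group
    rw [this, h1]; group
  · rw [map_mul, map_mul, map_inv, ← hg]
    have h3 : α x = x * g⁻¹ := by rw [← hx']; group
    rw [h3]; group

omit [Finite G] in
/-- If some operator induces a nontrivial inner automorphism, then there are nontrivial fixed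
points. -/
theorem exists_fixed_of_inner (hZ : center G = ⊥) {A : Type v} [Group A] [Finite A]
    (φ : A →* MulAut G) (hNC : NC (Nat.card G) A) (hin : ∃ a : A, φ a ≠ 1 ∧ φ a ∈ Cfsg.Inn G) :
    ∃ g : G, g ≠ 1 ∧ ∀ a : A, φ a g = g := by
  have hB : NC (Nat.card G) φ.range := hNC.of_surjective φ.rangeRestrict φ.rangeRestrict_surjective
  obtain ⟨K, hK, hKc, hKn⟩ := hB
  set N : Subgroup φ.range := (Cfsg.Inn G).subgroupOf φ.range with hN
  have hNn : N.Normal := inferInstance
  -- `K ∩ N = 1`
  have hKN : ∀ x ∈ K, x ∈ N → x = 1 := by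
    intro x hxK hxN
    have h1 : orderOf x ∣ Nat.card K := Subgroup.orderOf_dvd_natCard K hxK
    have h2 : orderOf x ∣ Nat.card G := by
      rw [hN, mem_subgroupOf] at hxN
      obtain ⟨g, hg⟩ := hxN
      have h3 : orderOf x = orderOf (MulAut.conj g) := by
        rw [hg, ← orderOf_submonoid x]
      rw [h3]
      exact (orderOf_map_dvd (MulAut.conj : G →* MulAut G) g).trans (orderOf_dvd_natCard g)
    rw [← orderOf_eq_one_iff]
    exact Nat.eq_one_of_dvd_coprimes hKc h1 h2
  obtain ⟨a₀, ha1, ha2⟩ := hin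
  -- the image of `N`
  have hne : N.map (QuotientGroup.mk' K) ≠ ⊥ := by
    intro h
    have h1 : (⟨φ a₀, a₀, rfl⟩ : φ.range) ∈ N := by
      rw [hN, mem_subgroupOf]; exact ha2
    have h2 : QuotientGroup.mk' K (⟨φ a₀, a₀, rfl⟩ : φ.range) ∈ N.map (QuotientGroup.mk' K) :=
      mem_map_of_mem _ h1
    rw [h, mem_bot, ← MonoidHom.mem_ker, QuotientGroup.ker_mk'] at h2
    have h3 := hKN _ h2 h1
    exact ha1 (congrArg Subtype.val h3)
  have hmn : (N.map (QuotientGroup.mk' K)).Normal :=
    hNn.map _ (QuotientGroup.mk'_surjective K)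
  have hcen := Cfsg.Agent.Lib.NormalAbelian.normal_inf_center_ne_bot
    (N.map (QuotientGroup.mk' K)) hne
  obtain ⟨⟨z, hz⟩, hz0⟩ := Subgroup.ne_bot_iff_exists_ne_one.mp hcen
  have hz1 : z ≠ 1 := fun h => hz0 (Subtype.ext h)
  obtain ⟨⟨n, hn, hnz⟩, hzc⟩ := mem_inf.mp hz
  have hn1 : n ≠ 1 := by
    intro h
    apply hz1
    rw [← hnz, h, map_one]
  -- `n` is central
  have hcomm : ∀ b : φ.range, b * n * b⁻¹ = n := by
    intro b
    have h1 : b * n * b⁻¹ * n⁻¹ ∈ K := by
      rw [← QuotientGroup.ker_mk' K, MonoidHom.mem_ker, map_mul, map_mul, map_mul, map_inv,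
        map_inv, hnz]
      have h2 := mem_center_iff.mp hzc (QuotientGroup.mk' K b)
      rw [h2]; group
    have h2 : b * n * b⁻¹ * n⁻¹ ∈ N :=
      N.mul_mem (hNn.conj_mem n hn b) (N.inv_mem hn)
    exact mul_inv_eq_one.mp (hKN _ h1 h2)
  rw [hN, SetLike.mem_coe, mem_subgroupOf] at hn
  obtain ⟨g, hg⟩ := hn
  refine ⟨g, ?_, ?_⟩
  · intro h
    apply hn1
    apply Subtype.ext
    rw [← hg, h, map_one]; rfl
  · intro a
    have h1 := congrArg Subtype.val (hcomm ⟨φ a, a, rfl⟩)
    have h2 : φ a * MulAut.conj g * (φ a)⁻¹ = MulAut.conj g := by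
      rw [hg]; exact h1
    have h3 : MulAut.conj (φ a g) = MulAut.conj g := by
      rw [← h2]
      ext x
      simp [MulAut.conj_apply]
    have h4 : (φ a g) * g⁻¹ ∈ center G := by
      rw [mem_center_iff]
      intro x
      have h5 := DFunLike.congr_fun h3 (g⁻¹ * x * g)
      simp only [MulAut.conj_apply] at h5
      have h6 : φ a g * (g⁻¹ * x * g) * (φ a g)⁻¹ = x := by
        rw [h5]; group
      calc x * (φ a g * g⁻¹) = (φ a g * (g⁻¹ * x * g) * (φ a g)⁻¹) * (φ a g * g⁻¹) := by rw [h6]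
        _ = φ a g * g⁻¹ * x := by group
    rw [hZ, mem_bot] at h4
    exact mul_inv_eq_one.mp h4

/-- Operator groups with a nilpotent factor group modulo a normal subgroup of order prime to `|G|`
have nontrivial fixed points if `Out(G)` is cyclic and all automorphisms fix some nontrivial
conjugacy class. -/
theorem exists_fixed (hZ : center G = ⊥) (hOut : IsCyclic (Cfsg.Out G)) (t : G) (ht : t ≠ 1)
    (hcl : ∀ α : MulAut G, IsConj t (α t)) {A : Type v} [Group A] [Finite A]
    (φ : A →* MulAut G) (hNC : NC (Nat.card G) A) :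
    ∃ g : G, g ≠ 1 ∧ ∀ a : A, φ a g = g := by
  by_cases hin : ∃ a : A, φ a ≠ 1 ∧ φ a ∈ Cfsg.Inn G
  · exact exists_fixed_of_inner hZ φ hNC hin
  · push Not at hin
    let f : φ.range →* Cfsg.Out G := (QuotientGroup.mk' (Cfsg.Inn G)).comp φ.range.subtype
    have hf : Function.Injective f := by
      rw [injective_iff_map_eq_one]
      rintro ⟨x, a, rfl⟩ hx
      have h1 : φ a ∈ Cfsg.Inn G := by
        have : QuotientGroup.mk' (Cfsg.Inn G) (φ a) = 1 := hx
        rwa [← MonoidHom.mem_ker, QuotientGroup.ker_mk'] at this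
      by_contra hne
      refine hin a ?_ h1
      intro h
      exact hne (Subtype.ext h)
    have hcyc : IsCyclic φ.range := isCyclic_of_injective f hf
    obtain ⟨⟨α, a₀, rfl⟩, hα⟩ := hcyc.exists_generator
    obtain ⟨g, hg1, hg⟩ := exists_fixed_of_isConj (φ a₀) t ht (hcl _)
    refine ⟨g, hg1, ?_⟩
    intro a
    let S : Subgroup (MulAut G) :=
      { carrier := {β | β g = g}
        one_mem' := rfl
        mul_mem' := fun {β γ} hβ hγ => by
          change (β * γ) g = g
          rw [MulAut.mul_apply, show γ g = g from hγ, show β g = g from hβ]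
        inv_mem' := fun {β} hβ => by
          change β⁻¹ g = g
          rw [MulAut.inv_apply, MulEquiv.symm_apply_eq]
          exact (show β g = g from hβ).symm }
    obtain ⟨k, hk⟩ := Subgroup.mem_zpowers_iff.mp (hα ⟨φ a, a, rfl⟩)
    have h2 : (φ a₀) ^ k = φ a := by
      have := congrArg Subtype.val hk
      simpa using this
    have h3 : (φ a₀) ^ k ∈ S := S.zpow_mem (show φ a₀ ∈ S from hg) k
    rw [h2] at h3
    exact h3

end Cfsg.Agent.H504.FpfSimple
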