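import Mathlib
import Cfsg.Prelude.Def_KGroupFacts
import Cfsg.Agent.H183.OutPSL

/-!
# `Out(PSL₂(q))` is cyclic for `q = p ^ f` with `p` and `f` odd
-/

set_option autoImplicit false

namespace Cfsg.Agent.H504.PslOut

/-- A finite group with a normal subgroup of order 2 and cyclic factor group of odd order is
cyclic. -/
theorem isCyclic_of_two_odd {Q : Type*} [Group Q] [Finite Q] {f : ℕ} (hf : Odd f)
    (φ : Q →* Multiplicative (ZMod f)) (hs : Function.Surjective φ) (hk : Nat.card φ.ker = 2) :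
    IsCyclic Q := by
  have hf0 : f ≠ 0 := by rintro rfl; exact absurd hf (by decide)
  have : NeZero f := ⟨hf0⟩
  -- the kernel is central
  have hcen : φ.ker ≤ Subgroup.center Q := by
    have h2 : Nat.card φ.ker = 2 := hk
    obtain ⟨z, hz1, hz⟩ := (Nat.card_eq_two_iff' (1 : φ.ker)).mp h2
    intro x hx
    rw [Subgroup.mem_center_iff]
    intro g
    by_cases hx1 : x = 1
    · rw [hx1]; group
    · have h3 : (⟨x, hx⟩ : φ.ker) = z := hz _ (fun h => hx1 (congrArg Subtype.val h))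
      have hgx : g * x * g⁻¹ ∈ φ.ker := (inferInstance : φ.ker.Normal).conj_mem x hx g
      have h4 : (⟨g * x * g⁻¹, hgx⟩ : φ.ker) = z := by
        refine hz _ (fun h => hx1 ?_)
        have h5 : g * x * g⁻¹ = 1 := congrArg Subtype.val h
        have : x = g⁻¹ * (g * x * g⁻¹) * g := by group
        rw [this, h5]; group
      have h6 : g * x * g⁻¹ = x := by
        have := h4.trans h3.symm
        exact congrArg Subtype.val this
      calc g * x = (g * x * g⁻¹) * g := by group
        _ = x * g := by rw [h6]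
  obtain ⟨g, hg⟩ := hs (Multiplicative.ofAdd (1 : ZMod f))
  obtain ⟨⟨z, hzk⟩, hz1⟩ : ∃ z : φ.ker, z ≠ 1 := by
    have : Nontrivial φ.ker := by
      rw [← Finite.one_lt_card_iff_nontrivial, hk]; norm_num
    exact exists_ne 1
  have hz1' : z ≠ 1 := fun h => hz1 (Subtype.ext h)
  have hker2 : ∀ x ∈ φ.ker, x ^ 2 = 1 := by
    intro x hx
    have := pow_card_eq_one' (x := (⟨x, hx⟩ : φ.ker))
    rw [hk] at this
    exact congrArg Subtype.val this
  have hz2 : orderOf z = 2 := orderOf_eq_prime (hker2 z hzk) hz1'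
  -- the order of `g ^ 2`
  have h1 : (g ^ f) ∈ φ.ker := by
    rw [MonoidHom.mem_ker, map_pow, hg, ← ofAdd_nsmul]
    simp
  have h2 : (g ^ 2) ^ f = 1 := by
    rw [← pow_mul, mul_comm, pow_mul]
    exact hker2 _ h1
  have h3 : orderOf (φ (g ^ 2)) = f := by
    rw [map_pow, hg]
    have h4 : orderOf (Multiplicative.ofAdd (1 : ZMod f)) = f := by
      rw [orderOf_ofAdd_eq_addOrderOf, ZMod.addOrderOf_one]
    rw [orderOf_pow, h4, Nat.Coprime.gcd_eq_one ((Nat.coprime_two_right).mpr hf), Nat.div_one]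
  have h4 : orderOf (g ^ 2) = f := by
    refine Nat.dvd_antisymm (orderOf_dvd_of_pow_eq_one h2) ?_
    rw [← h3]
    exact orderOf_map_dvd φ _
  have hcomm : Commute z (g ^ 2) := by
    have := Subgroup.mem_center_iff.mp (hcen hzk) (g ^ 2)
    exact this.symm
  have h5 : orderOf (z * g ^ 2) = 2 * f := by
    rw [hcomm.orderOf_mul_eq_mul_orderOf_of_coprime, hz2, h4]
    rw [hz2, h4]
    exact (Nat.coprime_two_left).mpr hf
  refine isCyclic_of_orderOf_eq_card (z * g ^ 2) ?_
  rw [h5]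
  have h6 : Nat.card φ.ker * φ.ker.index = Nat.card Q := φ.ker.card_mul_index
  have h7 : φ.ker.index = f := by
    rw [Subgroup.index_ker]
    have h8 : φ.range = ⊤ := MonoidHom.range_eq_top.mpr hs
    rw [h8, Subgroup.card_top]
    simp
  rw [← h6, hk, h7]

/-- `Out(PSL₂(q))` is cyclic for `q = p ^ f` with `p` and `f` odd. -/
theorem isCyclic_out {F : Type*} [Field F] [Fintype F] {p f : ℕ} [hp : Fact p.Prime]
    (hp2 : Odd p) (hf : Odd f) (hF : Fintype.card F = p ^ f) (h4 : 4 ≤ p ^ f) :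
    IsCyclic (Cfsg.Out (Matrix.ProjectiveSpecialLinearGroup (Fin 2) F)) := by
  have hf1 : 1 ≤ f := hf.pos
  obtain ⟨φ, h1, -, h3⟩ := Cfsg.Agent.H183.OutPSL.out_two (p := p) hf1 hF h4
  have hodd : Odd (p ^ f) := hp2.pow
  have h5 : Nat.gcd 2 (p ^ f - 1) = 2 := by
    refine Nat.gcd_eq_left ?_
    obtain ⟨k, hk⟩ := hodd
    exact ⟨k, by omega⟩
  rw [h5] at h3
  exact isCyclic_of_two_odd hf φ h1 h3

end Cfsg.Agent.H504.PslOut
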