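import Mathlib
import Cfsg.Prelude.Def_LocalEven
import Cfsg.Agent.ClassicalGeometry.SLTwoFour
import Cfsg.Agent.TwoFusion.SLTwoFacts
import Cfsg.Agent.LieClassical.Order72
import Cfsg.Agent.H504.SzOut
import Cfsg.Agent.H504.PslOut

/-!
# Suzuki groups and `PSL₂(3 ^ odd)`: cyclic outer automorphism group and one class of involutions
-/

set_option autoImplicit false

namespace Cfsg.Agent.H504.SFreeKey

open Cfsg.Agent Matrix

theorem isCyclic_out_congr {G H : Type*} [Group G] [Group H] (e : G ≃* H)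
    (h : IsCyclic (Cfsg.Out H)) : IsCyclic (Cfsg.Out G) := by
  refine isCyclic_of_surjective (QuotientGroup.map (Cfsg.Inn H) (Cfsg.Inn G)
    (MulAut.congr e.symm).toMonoidHom ?_) ?_
  · rintro _ ⟨g, rfl⟩
    refine ⟨e.symm g, ?_⟩
    ext x
    simp [MulAut.congr, MulAut.conj_apply]
  · intro y
    obtain ⟨φ, rfl⟩ := QuotientGroup.mk_surjective y
    obtain ⟨ψ, hψ⟩ := (MulAut.congr e.symm).surjective φ
    exact ⟨(ψ : Cfsg.Out H), by rw [← hψ]; rfl⟩

/-- `PSL₂(3)` is solvable. -/
theorem isSolvable_psl_three {F : Type*} [Field F] [Fintype F] (h : Fintype.card F = 3) :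
    Group.IsSolvable (ProjectiveSpecialLinearGroup (Fin 2) F) := by
  have h1 : Group.IsSolvable (SpecialLinearGroup (Fin 2) F) :=
    LieClassical.Order72.isSolvable_of_card_dvd (by
      rw [TwoFusion.SLTwoFacts.card_eq_24 h]; norm_num)
  exact Group.isSolvable_of_surjective (QuotientGroup.mk'_surjective _)

/-- There is an involution in `PSL₂(q)`, `q` odd. -/
theorem exists_involution {F : Type*} [Field F] :
    ∃ x : ProjectiveSpecialLinearGroup (Fin 2) F, orderOf x = 2 := by
  classical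
  let w := (ClassicalGeometry.SLTwoFour.w : SpecialLinearGroup (Fin 2) F)
  refine ⟨(QuotientGroup.mk w : ProjectiveSpecialLinearGroup (Fin 2) F), ?_⟩
  refine orderOf_eq_prime ?_ ?_
  · rw [pow_two, ← QuotientGroup.mk_mul, ClassicalGeometry.SLTwoFour.w_mul_self]
    refine (QuotientGroup.eq_one_iff _).mpr ?_
    rw [Subgroup.mem_center_iff]
    intro y
    simp
  · intro h
    have h1 := (QuotientGroup.eq_one_iff _).mp h
    obtain ⟨r, hr, hrz⟩ := Matrix.SpecialLinearGroup.mem_center_iff.mp h1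
    have h3 := congrFun (congrFun hrz 0) 1
    have h4 : (w : Matrix (Fin 2) (Fin 2) F) 0 1 = 1 := rfl
    rw [h4] at h3
    simp at h3

/-- Nonabelian simple groups `Sz(q)` and `PSL₂(3 ^ (2n+1))`. -/
theorem key {G : Type*} [Group G] [Finite G] (hG : Cfsg.IsSuzukiOrPSL2OddPowerThree G)
    (hns : ¬ Group.IsSolvable G) :
    IsCyclic (Cfsg.Out G) ∧ ∃ t : G, t ≠ 1 ∧ ∀ α : MulAut G, IsConj t (α t) := by
  rcases hG with h | ⟨F, _, _, n, hF, ⟨e⟩⟩
  · refine ⟨SzOut.isCyclic_out h, ?_⟩
    obtain ⟨F, iF, iF', m, hm, hc, ⟨R⟩⟩ := ThreePrime.SzRel.exists_rel h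
    have h1 : R.u 0 1 ≠ 1 := R.u_ne_one one_ne_zero
    have h2 : R.u 0 1 * R.u 0 1 = 1 := (R.u_sq_iff 0 1).2 rfl
    refine ⟨R.u 0 1, h1, ?_⟩
    intro α
    refine SzOut.isConj_of_isoSuzuki h h1 h2 ?_ ?_
    · intro h3
      apply h1
      exact α.injective (h3.trans (map_one α).symm)
    · rw [← map_mul, h2, map_one]
  · have hodd : Odd (Fintype.card F) := by
      rw [hF]; exact (by decide : Odd 3).pow
    have h3 : Fintype.card F ≠ 3 := by
      intro h
      have := isSolvable_psl_three h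
      exact hns (Group.isSolvable_of_isSolvable_injective (f := e.toMonoidHom) e.injective)
    have hn : n ≠ 0 := by
      rintro rfl
      exact h3 (by rw [hF]; norm_num)
    have h4 : 4 ≤ 3 ^ (2 * n + 1) := by
      have : 3 ^ 3 ≤ 3 ^ (2 * n + 1) := Nat.pow_le_pow_right (by norm_num) (by omega)
      omega
    have hp : Fact (Nat.Prime 3) := ⟨Nat.prime_three⟩
    refine ⟨isCyclic_out_congr e (PslOut.isCyclic_out (p := 3) (by decide) ⟨n, rfl⟩ hF h4), ?_⟩
    obtain ⟨x, hx⟩ := exists_involution (F := F)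
    refine ⟨e.symm x, ?_, ?_⟩
    · intro h
      have : x = 1 := by
        have := congrArg e h
        rwa [e.apply_symm_apply, map_one] at this
      rw [this, orderOf_one] at hx
      omega
    · intro α
      have h5 : orderOf (e (α (e.symm x))) = 2 := by
        rw [MulEquiv.orderOf_eq, MulEquiv.orderOf_eq, MulEquiv.orderOf_eq, hx]
      have h6 := ClassicalGeometry.SLTwoFour.psl_isConj hodd x _ hx h5
      have h7 := e.symm.toMonoidHom.map_isConj h6
      change IsConj (e.symm x) (e.symm (e (α (e.symm x)))) at h7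
      rwa [e.symm_apply_apply] at h7

end Cfsg.Agent.H504.SFreeKey
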