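import Cfsg.Agent.H504.TwoAb

/-!
# S4897: abelian normal subgroups, the action of the quotient

`π : G →* Q` is surjective with abelian kernel `N`; `cN π g = |C_N(g)|`.

* `cN_modEq` : `|N| ≡ |C_N(g)| mod r` if `o(π g)` is a power of `r`;
* `cN_dvd_ker`, `cN_dvd_cent`;
* `no_four` : the inversion argument for a four-group;
* `card_ker_le_sq` : `|N| ≤ |C_N(g)|²` for an involution `π g`, `N` of exponent two;
* `cN_eq_card_of_simple` : if some element outside `N` centralizes `N` and `Q` is simple, all do.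
-/

set_option autoImplicit false
set_option linter.unusedSectionVars false

namespace Cfsg.Agent.H504.TwoZ

open Cfsg Cfsg.Agent.Characters.Core Cfsg.Agent.H504.ZeroTI Cfsg.Agent.H504.Zeros

universe u v

variable {G : Type u} [Group G] [Finite G] {Q : Type v} [Group Q] (π : G →* Q)

theorem cN_dvd_ker (g : G) : cN π g ∣ Nat.card π.ker := by
  let H : Subgroup π.ker := (Subgroup.centralizer ({g} : Set G)).subgroupOf π.ker
  have h1 : cN π g = Nat.card H := by
    unfold cN
    refine Nat.card_congr (Equiv.subtypeEquivRight fun n => ?_)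
    rw [Subgroup.mem_subgroupOf, Subgroup.mem_centralizer_iff]
    constructor
    · intro h x hx
      rw [Set.mem_singleton_iff.1 hx]
      exact h.symm
    · intro h
      exact (h g (Set.mem_singleton g)).symm
  rw [h1]
  exact Subgroup.card_subgroup_dvd_card H

theorem cN_dvd_cent (g : G) : cN π g ∣ Nat.card (Subgroup.centralizer ({g} : Set G)) := by
  let H : Subgroup (Subgroup.centralizer ({g} : Set G)) := π.ker.subgroupOf _
  have h1 : cN π g = Nat.card H := by
    unfold cN
    refine Nat.card_congr (Equiv.ofBijective (fun n => (⟨⟨(n.1 : G), ?_⟩, ?_⟩ : H)) ⟨?_, ?_⟩)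
    · rw [Subgroup.mem_centralizer_iff]
      intro x hx
      rw [Set.mem_singleton_iff.1 hx]
      exact n.2.symm
    · rw [Subgroup.mem_subgroupOf]
      exact n.1.2
    · intro a b hab
      have h2 : ((a.1 : π.ker) : G) = b.1 := congrArg (fun x : H => ((x : Subgroup.centralizer ({g} : Set G)) : G)) hab
      exact Subtype.ext (Subtype.ext h2)
    · rintro ⟨⟨n, hn⟩, hn'⟩
      rw [Subgroup.mem_subgroupOf] at hn'
      exact ⟨⟨⟨n, hn'⟩, (Subgroup.mem_centralizer_iff.1 hn g (Set.mem_singleton g)).symm⟩, rfl⟩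
  rw [h1]
  exact Subgroup.card_subgroup_dvd_card H

theorem cN_eq (hπ : Function.Surjective π) (hA : AbK π) {g h : G} (hgh : π g = π h) : cN π h = cN π g :=
  cN_of_isConj π hπ hA (by rw [hgh])

/-- an element of `r`-power order above an element of `r`-power order -/
theorem exists_rpower {r k : ℕ} (hr : r.Prime) (g : G) (hg : orderOf (π g) = r ^ k) :
    ∃ (g' : G) (b : ℕ), π g' = π g ∧ orderOf g' = r ^ b := by
  obtain ⟨a, s, hs, hn⟩ := Nat.exists_eq_pow_mul_and_not_dvd (orderOf_pos g).ne' r hr.ne_one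
  have hco : Nat.Coprime (r ^ a) s := Nat.Coprime.pow_left _ ((Nat.Prime.coprime_iff_not_dvd hr).2 hs)
  obtain ⟨m, hm1, hm2⟩ := Nat.chineseRemainder hco 1 0
  have h1 : (g ^ m) ^ (r ^ a) = 1 := by
    rw [← pow_mul]
    apply orderOf_dvd_iff_pow_eq_one.1
    rw [hn, mul_comm m]
    exact Nat.mul_dvd_mul_left _ ((Nat.modEq_zero_iff_dvd).1 hm2)
  obtain ⟨b, -, hb⟩ := (Nat.dvd_prime_pow hr).1 (orderOf_dvd_of_pow_eq_one h1)
  refine ⟨g ^ m, b, ?_, hb⟩
  rw [map_pow]
  have h2 : r ^ k ∣ r ^ a := by
    have h3 : r ^ k ∣ r ^ a * s := by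
      rw [← hn, ← hg]
      exact orderOf_map_dvd π g
    exact (Nat.Coprime.pow_left k ((Nat.Prime.coprime_iff_not_dvd hr).2 hs)).dvd_of_dvd_mul_right h3
  have h3 : m ≡ 1 [MOD orderOf (π g)] := by
    rw [hg]
    exact hm1.of_dvd h2
  have h4 := (pow_eq_pow_iff_modEq (x := π g)).2 h3
  rwa [pow_one] at h4

/-- **`|N| ≡ |C_N(g)| mod r`** -/
theorem cN_modEq (hπ : Function.Surjective π) (hA : AbK π) {r k : ℕ} (hr : r.Prime) (g : G)
    (hg : orderOf (π g) = r ^ k) : Nat.card π.ker ≡ cN π g [MOD r] := by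
  obtain ⟨g', b, h1, h2⟩ := exists_rpower π hr g hg
  rw [cN_eq π hπ hA h1]
  have : Fact r.Prime := ⟨hr⟩
  let f : Subgroup.zpowers g' →* MulAut π.ker := (MulAut.conjNormal (H := π.ker)).comp (Subgroup.zpowers g').subtype
  let _ : MulAction (Subgroup.zpowers g') π.ker := MulAction.compHom π.ker f
  have hP : IsPGroup r (Subgroup.zpowers g') := IsPGroup.of_card (n := b) (by rw [Nat.card_zpowers, h2])
  have h3 := hP.card_modEq_card_fixedPoints π.ker
  have h4 : Nat.card (MulAction.fixedPoints (Subgroup.zpowers g') π.ker) = cN π g' := by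
    unfold cN
    refine Nat.card_congr (Equiv.subtypeEquivRight fun n => ?_)
    rw [MulAction.mem_fixedPoints]
    have hact : ∀ (x : Subgroup.zpowers g') (n : π.ker), x • n = MulAut.conjNormal (x : G) n := fun x n => rfl
    constructor
    · intro h
      have h5 := h ⟨g', Subgroup.mem_zpowers g'⟩
      rw [hact] at h5
      have h6 := congrArg Subtype.val h5
      rw [MulAut.conjNormal_apply] at h6
      calc (n : G) * g' = g' * n * g'⁻¹ * g' := by rw [h6]
        _ = g' * n := by group
    · rintro h ⟨x, m, rfl⟩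
      rw [hact]
      apply Subtype.ext
      rw [MulAut.conjNormal_apply]
      have h5 : Commute (n : G) (g' ^ m) := (show Commute (n : G) g' from h).zpow_right m
      show g' ^ m * n * (g' ^ m)⁻¹ = n
      rw [← h5.eq]
      group
  rwa [h4] at h3

/-- **the inversion argument** -/
theorem no_four (hA : AbK π) (hne : π.ker ≠ ⊥) {A B : G} (hA2 : π A * π A = 1)
    (hB2 : π B * π B = 1) (h1 : cN π A = 1) (h2 : cN π B = 1) (h3 : cN π (A * B) = 1) : False := by
  apply hne
  rw [cN_eq_one_iff] at h1 h2 h3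
  have inv_of : ∀ X : G, π X * π X = 1 → (∀ n ∈ π.ker, n * X = X * n → n = 1) →
      ∀ n ∈ π.ker, X * n * X⁻¹ = n⁻¹ := by
    intro X hX hX1 n hn
    have hXX : X * X ∈ π.ker := by rw [MonoidHom.mem_ker, map_mul, hX]
    have hm : X * n * X⁻¹ ∈ π.ker := by
      rw [MonoidHom.mem_ker, map_mul, map_mul, map_inv, show π n = 1 from hn]
      simp
    have h4 : n * (X * n * X⁻¹) = 1 := by
      apply hX1 _ (π.ker.mul_mem hn hm)
      have h5 := hA n hn _ hXX
      have h6 := hA n hn _ hm
      calc n * (X * n * X⁻¹) * X = n * (X * n) := by group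
        _ = X * n * X⁻¹ * n * X := by
          rw [← mul_assoc]
          have : X * n * X⁻¹ * n * X = n * (X * n * X⁻¹) * X := by rw [h6]
          rw [this]
          group
        _ = X * n * X⁻¹ * X * (X⁻¹ * n * X) := by group
        _ = X * n * (X⁻¹ * n * X) := by group
        _ = X * n * (X⁻¹ * n * (X * X) * X⁻¹) := by group
        _ = X * n * (X⁻¹ * (n * (X * X)) * X⁻¹) := by group
        _ = X * n * (X⁻¹ * (X * X * n) * X⁻¹) := by rw [h5]
        _ = X * (n * (X * n * X⁻¹)) := by group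
    exact (eq_inv_of_mul_eq_one_right h4)
  rw [Subgroup.eq_bot_iff_forall]
  intro n hn
  apply h3 n hn
  have h4 := inv_of B hB2 h2 n hn
  have h5 := inv_of A hA2 h1 _ (π.ker.inv_mem hn)
  rw [inv_inv] at h5
  calc n * (A * B) = A * n⁻¹ * A⁻¹ * (A * B) := by rw [h5]
    _ = A * n⁻¹ * B := by group
    _ = A * (B * n * B⁻¹) * B := by rw [h4]
    _ = A * B * n := by group

/-- **`|N| ≤ |C_N(g)|²`** for `N` of exponent two and `(π g)² = 1` -/
theorem card_ker_le_sq (hA : AbK π) (h2 : ∀ n ∈ π.ker, n * n = 1) {g : G} (hg : π g * π g = 1) :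
    Nat.card π.ker ≤ cN π g * cN π g := by
  classical
  have hgg : g * g ∈ π.ker := by rw [MonoidHom.mem_ker, map_mul, hg]
  have hmem : ∀ n ∈ π.ker, g * n * g⁻¹ ∈ π.ker := by
    intro n hn
    rw [MonoidHom.mem_ker, map_mul, map_mul, map_inv, show π n = 1 from hn]
    simp
  let f : π.ker →* π.ker :=
    { toFun := fun n => ⟨(n : G) * (g * n * g⁻¹), π.ker.mul_mem n.2 (hmem n n.2)⟩
      map_one' := by
        apply Subtype.ext
        simp
      map_mul' := by
        intro a b
        apply Subtype.ext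
        have h1 := hA b b.2 _ (hmem a a.2)
        show (a : G) * b * (g * (a * b) * g⁻¹) = (a : G) * (g * a * g⁻¹) * (b * (g * b * g⁻¹))
        calc (a : G) * b * (g * (a * b) * g⁻¹) = a * (b * (g * a * g⁻¹)) * (g * b * g⁻¹) := by group
          _ = a * ((g * a * g⁻¹) * b) * (g * b * g⁻¹) := by rw [h1]
          _ = _ := by group }
  have h1 : Nat.card π.ker = Nat.card f.range * Nat.card f.ker := by
    rw [← Subgroup.index_ker, mul_comm, Subgroup.card_mul_index]
  have hfix : ∀ n : π.ker, (n : G) * (g * n * g⁻¹) = 1 → (n : G) * g = g * n := by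
    intro n hn
    have h3 : (n : G)⁻¹ = n := inv_eq_of_mul_eq_one_left (h2 n n.2)
    have h4 : g * n * g⁻¹ = (n : G) := by
      rw [← h3, eq_inv_iff_mul_eq_one, h3] 
      have h5 := hA n n.2 _ (hmem n n.2)
      rw [← h5]
      exact hn
    calc (n : G) * g = g * n * g⁻¹ * g := by rw [h4]
      _ = g * n := by group
  have hk : Nat.card f.ker ≤ cN π g := by
    unfold cN
    refine Nat.card_le_card_of_injective (fun x : f.ker => ⟨x.1, hfix _ (congrArg Subtype.val x.2)⟩) ?_
    intro a b hab
    have h3 := congrArg Subtype.val hab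
    exact Subtype.ext h3
  have hr : Nat.card f.range ≤ cN π g := by
    unfold cN
    refine Nat.card_le_card_of_injective (fun x : f.range => ⟨x.1, ?_⟩) ?_
    · obtain ⟨x, hx⟩ := x
      obtain ⟨n, rfl⟩ := hx
      show (n : G) * (g * n * g⁻¹) * g = g * ((n : G) * (g * n * g⁻¹))
      have h5 := hA n n.2 _ hgg
      have h6 := hA n n.2 _ (hmem n n.2)
      have h7 : g * (g * n * g⁻¹) * g⁻¹ = n := by
        calc g * (g * n * g⁻¹) * g⁻¹ = g * g * n * (g * g)⁻¹ := by group
          _ = n * (g * g) * (g * g)⁻¹ := by rw [h5]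
          _ = n := by group
      calc (n : G) * (g * n * g⁻¹) * g = (g * n * g⁻¹) * n * g := by rw [h6]
        _ = (g * n * g⁻¹) * (g * (g * n * g⁻¹) * g⁻¹) * g := by rw [h7]
        _ = g * ((n : G) * (g * n * g⁻¹)) := by group
    · intro a b hab
      have h3 := congrArg Subtype.val hab
      exact Subtype.ext h3
  rw [h1]
  exact Nat.mul_le_mul hr hk

/-- if an element outside the kernel centralizes the kernel and `Q` is simple, all elements do -/
theorem cN_eq_card_of_simple (hπ : Function.Surjective π) (hA : AbK π) [IsSimpleGroup Q] {g : G}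
    (hg : π g ≠ 1) (hc : cN π g = Nat.card π.ker) (h : G) : cN π h = Nat.card π.ker := by
  have full_of : ∀ x : G, cN π x = Nat.card π.ker → x ∈ Subgroup.centralizer (π.ker : Set G) := by
    intro x hx
    rw [Subgroup.mem_centralizer_iff]
    intro n hn
    unfold cN at hx
    have h1 : Function.Bijective (Subtype.val : {n : π.ker // (n : G) * x = x * n} → π.ker) := by
      rw [Nat.bijective_iff_injective_and_card]
      exact ⟨Subtype.val_injective, hx⟩
    obtain ⟨m, hm⟩ := h1.2 ⟨n, hn⟩
    have h2 := m.2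
    rw [hm] at h2
    exact h2
  have of_full : ∀ x : G, x ∈ Subgroup.centralizer (π.ker : Set G) → cN π x = Nat.card π.ker := by
    intro x hx
    unfold cN
    refine Nat.card_congr (Equiv.subtypeUnivEquiv fun n => ?_)
    exact Subgroup.mem_centralizer_iff.1 hx n n.2
  have hn : ((Subgroup.centralizer (π.ker : Set G)).map π).Normal :=
    Subgroup.Normal.map inferInstance π hπ
  rcases hn.eq_bot_or_eq_top with h1 | h1
  · exfalso
    apply hg
    rw [← Subgroup.mem_bot, ← h1]
    exact ⟨g, full_of g hc, rfl⟩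
  · have h2 : π h ∈ (Subgroup.centralizer (π.ker : Set G)).map π := by
      rw [h1]
      exact Subgroup.mem_top _
    obtain ⟨c, hc', hch⟩ := h2
    rw [← of_full c hc']
    exact cN_eq π hπ hA hch

end Cfsg.Agent.H504.TwoZ
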