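import Cfsg.Agent.H504.TwoRows
import Cfsg.Agent.H397.Rk.TwoRowsAll
import Cfsg.Agent.H442.TwoSmall
import Cfsg.Agent.H442.TwoSix
import Cfsg.Agent.H686.TZ.Alt
import Cfsg.Agent.H797.TwoPsl.Row
import Cfsg.Agent.H686.TZ.PSL34
import Cfsg.Agent.H679.TwoPslRow
import Cfsg.Agent.H107.DZ.PSpAll
import Cfsg.Agent.H686.TZ.PSU3
import Cfsg.Agent.H934.Two.PSURow
import Cfsg.Agent.H934.Two.RowE6
import Cfsg.Agent.H934.Two.RowTE6
import Cfsg.Agent.H934.Two.RowE7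
import Cfsg.Agent.H521.TwoTw
import Cfsg.Agent.H120.Two.Rows
import Cfsg.Agent.H120.Two.D4
import Cfsg.Agent.H279.TwoMathieu
import Cfsg.Agent.H442.TwoJanko
import Cfsg.Agent.H442.TwoJTwo
import Cfsg.Agent.H978.TZ.Co3
import Cfsg.Agent.H978.TZ.Co12
import Cfsg.Agent.H978.TZ.ON
import Cfsg.Agent.H978.TZ.Suz
import Cfsg.Agent.H187.FiTwoZ.FiTwo
import Cfsg.Agent.H187.FiTwoZ.FiThree
import Cfsg.Agent.H187.FiTwoZ.FiFour
import Cfsg.Agent.H187.FiTwoZ.HN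
import Cfsg.Agent.H859.Two.Th
import Cfsg.Agent.H859.Two.Ly
import Cfsg.Agent.H859.Two.B
import Cfsg.Agent.H859.Two.M
import Cfsg.Agent.H713.Two.HSMcL
import Cfsg.Agent.H713.Two.Ru
import Cfsg.Agent.H713.Two.He

/-!
# S4897: all rows
-/

set_option autoImplicit false

namespace Cfsg.Agent.H504.TwoZ

open Cfsg

theorem spor_all {S : Type} [Group S] (h : IsSporadicGroup S) : RowT S := by
  rcases h with h | h | h | h | h | h | h | h | h | h | h | h | h | h | h | h | h | h | h | h | h | h |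
    h | h | h | h
  · exact Cfsg.Agent.H279.TwoMathieu.m11 h
  · exact Cfsg.Agent.H279.TwoMathieu.m12 h
  · exact Cfsg.Agent.H279.TwoMathieu.m22 h
  · exact Cfsg.Agent.H279.TwoMathieu.m23 h
  · exact Cfsg.Agent.H279.TwoMathieu.m24 h
  · exact Cfsg.Agent.H442.TwoJanko.j1 h
  · exact Cfsg.Agent.H442.TwoJTwo.j2 h
  · exact Cfsg.Agent.H442.TwoJanko.j3 h
  · exact Cfsg.Agent.H442.TwoJanko.j4 h
  · exact Cfsg.Agent.H978.TZ.Co12.co1 h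
  · exact Cfsg.Agent.H978.TZ.Co12.co2 h
  · exact Cfsg.Agent.H978.TZ.Co3.co3 h
  · exact Cfsg.Agent.H713.Two.HSMcL.mcl h
  · exact Cfsg.Agent.H713.Two.HSMcL.hs h
  · exact Cfsg.Agent.H978.TZ.Suzuki.suz h
  · exact Cfsg.Agent.H713.Two.HeRow.he h
  · exact Cfsg.Agent.H713.Two.Ru.ru h
  · exact Cfsg.Agent.H978.TZ.ONan.on h
  · exact Cfsg.Agent.H859.Two.ly h
  · exact Cfsg.Agent.H187.FiTwoZ.fi22 h
  · exact Cfsg.Agent.H187.FiTwoZ.fi23 h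
  · exact Cfsg.Agent.H187.FiTwoZ.fi24 h
  · exact Cfsg.Agent.H187.FiTwoZ.hn h
  · exact Cfsg.Agent.H859.Two.th h
  · exact Cfsg.Agent.H859.Two.b h
  · exact Cfsg.Agent.H859.Two.m h

theorem rowsT_all : RowsT where
  a5 := Cfsg.Agent.H442.TwoSmall.row2_a5
  a6 := Cfsg.Agent.H442.TwoSix.row2_a6
  l7 := Cfsg.Agent.H442.TwoSmall.row2_l7
  alt := fun n hn => Cfsg.Agent.H686.TZ.rowT_alt n hn
  psl2 := fun F _ _ h8 h9 => Cfsg.Agent.H797.TwoPsl.rowT_psl2 h8 h9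
  psl3 := fun F _ _ h => Cfsg.Agent.H686.TZ.PSL34.rowT_psl3 h
  psl := fun F _ _ n hn h => Cfsg.Agent.H679.TwoPsl.rowT_psl hn h
  psp4 := fun F _ _ h => Cfsg.Agent.H107.DZ.PSpRow.rowT_psp4 h
  psp := fun F _ _ m hm => Cfsg.Agent.H107.DZ.PSpRow.rowT_psp hm
  psu3 := fun F _ _ q hF hq => Cfsg.Agent.H686.TZ.PSU3.rowT_psu3 hF hq
  psu := fun F _ _ n q hF hn => Cfsg.Agent.H934.Two.PSU.rowT_psu hF hn
  oodd := fun F _ _ m hm hF => Cfsg.Agent.H397.Rk.rowT_oodd F m hm hF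
  oplus := fun F _ _ m hm => Cfsg.Agent.H397.Rk.rowT_oplus F m hm
  ominus := fun F _ _ m a b hm hab => Cfsg.Agent.H397.Rk.rowT_ominus F m a b hm hab
  g2 := fun F _ _ h => Cfsg.Agent.H120.Two.row_g2 h
  f4 := fun F _ _ => Cfsg.Agent.H120.Two.row_f4
  e6 := fun F _ _ => Cfsg.Agent.H934.Two.RowE6.rowT_e6
  e7 := fun F _ _ => Cfsg.Agent.H934.Two.RowE7.rowT_e7
  e8 := fun F _ _ => Cfsg.Agent.H120.Two.row_e8
  te6 := fun K _ _ q hq hK => Cfsg.Agent.H934.Two.RowTE6.rowT_te6 hq hK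
  td4 := fun K _ _ q hq hK => Cfsg.Agent.H120.Two.row_td4 hq hK
  sz := fun K _ _ m hm hK => Cfsg.Agent.H521.TwoTw.rowT_sz hm hK
  ree := fun K _ _ m hm hK => Cfsg.Agent.H521.TwoTw.rowT_ree hm hK
  tf4 := fun K _ _ m hm hK => Cfsg.Agent.H521.TwoTw.rowT_tf4 hm hK
  tits := fun h => Cfsg.Agent.H521.TwoTw.rowT_tits h
  spor := fun h => spor_all h

end Cfsg.Agent.H504.TwoZ
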