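import Cfsg.Agent.H504.TwoFourAlt
import Cfsg.Agent.H377.TwoConv.LSeven
import Cfsg.Agent.H528.LSevenFacts

/-!
# S4897: `AbCase` for `L₂(7)`, and the four groups together
-/

set_option autoImplicit false

namespace Cfsg.Agent.H504.TwoZ

open Cfsg Cfsg.Agent.Characters.Core Cfsg.Agent.H504.Zeros

theorem abCase_l7 : AbCase (Matrix.ProjectiveSpecialLinearGroup (Fin 2) (ZMod 7)) := by
  intro G _ _ π hπ hA hne p n hp hc hx
  obtain ⟨ψ₆, ψ₇, ψ₈, -, h68, h78, z63, z64, z77, z82, z84⟩ := Cfsg.Agent.H377.TwoConv.l7_chars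
  obtain ⟨a, b, x, s, s', t, ha, hb, ox, hxc, hq, hs, hs', hss, ht⟩ := Cfsg.Agent.H528.LSevenFacts.l7_facts
  exact two_of_l7 π hπ hA hne hp hc h68 h78 (c₃ := ConjClasses.mk t) (c₇ := ConjClasses.mk s)
    (c₇' := ConjClasses.mk s') ha hb ox hxc
    (mk_ne_of_not_conj hss) (mk_ne_of_order (by rw [ht, hs]; norm_num))
    (mk_ne_of_order (by rw [ht, hs']; norm_num)) (mk_ne_of_order (by rw [ht, ox]; norm_num))
    (zeroOn_of_order z63 ht) (zeroOn_of_order z64 ox) (zeroOn_of_order z77 hs) (zeroOn_of_order z77 hs')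
    (zeroOn_of_order z84 ox)
    fun q hq' => ⟨zeroOn_of_order z82 (hq q hq').1, hq q hq'⟩

theorem abCase_four (Q : Type) [Group Q] (h : Four Q) : AbCase Q := by
  rcases h with h | h | h | h <;> obtain ⟨f⟩ := h
  · exact abCase_a5.of_equiv f
  · exact abCase_s5.of_equiv f
  · exact abCase_l7.of_equiv f
  · exact abCase_a6.of_equiv f

theorem atMost_four {G : Type*} [Group G] (h : Four G) : AtMost G := by
  rcases h with h | h | h | h <;> obtain ⟨f⟩ := h
  · exact Cfsg.Agent.H377.TwoConv.atMost_a5.of_equiv f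
  · exact Cfsg.Agent.H377.TwoConv.atMost_s5.of_equiv f
  · exact Cfsg.Agent.H377.TwoConv.atMost_l7.of_equiv f
  · exact Cfsg.Agent.H377.TwoConv.atMost_a6.of_equiv f

end Cfsg.Agent.H504.TwoZ
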