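import Cfsg.Agent.H504.TwoMain
import Cfsg.Agent.H377.TwoConv.Alt
import Cfsg.Agent.H377.TwoConv.SymFive

/-!
# S4897: `AbCase` for `A₅`, `A₆`, `S₅`
-/

set_option autoImplicit false

namespace Cfsg.Agent.H504.TwoZ

open Cfsg Cfsg.Agent.Characters.Core Cfsg.Agent.H504.Zeros Equiv

/-- the order of a centralizer in a decidable way -/
theorem card_cent_eq {X : Type*} [Group X] [Fintype X] [DecidableEq X] (x : X) :
    Nat.card (Subgroup.centralizer ({x} : Set X)) = (Finset.univ.filter fun g : X => g * x = x * g).card := by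
  rw [← Fintype.card_subtype, ← Nat.card_eq_fintype_card]
  refine Nat.card_congr (Equiv.subtypeEquivRight fun g => ?_)
  rw [Subgroup.mem_centralizer_iff]
  constructor
  · intro h
    exact (h x (Set.mem_singleton x)).symm
  · intro h y hy
    rw [Set.mem_singleton_iff.1 hy]
    exact h.symm

theorem zeroOn_of_order {X : Type*} [Group X] {ψ : IrrCharacter X} {n : ℕ}
    (h : ∀ g, orderOf g = n → (ψ : X → ℂ) g = 0) {x : X} (hx : orderOf x = n) : ZeroOn ψ (ConjClasses.mk x) := by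
  intro q hq
  apply h
  obtain ⟨k, hk⟩ := isConj_iff.1 (ConjClasses.mk_eq_mk_iff_isConj.1 hq)
  rw [← hx, ← hk]
  exact ((MulAut.conj k).orderOf_eq q).symm

theorem mk_ne_of_not_conj {X : Type*} [Group X] {x y : X} (h : ¬ IsConj x y) :
    ConjClasses.mk x ≠ ConjClasses.mk y := fun h' => h (ConjClasses.mk_eq_mk_iff_isConj.1 h')

theorem abCase_a6 : AbCase (alternatingGroup (Fin 6)) := by
  intro G _ _ π hπ hA hne p n hp hc hx
  obtain ⟨ψ₁₀, ψ₅, ψ₈, h1, h2, -, h10, h5, h82, h84⟩ := Cfsg.Agent.H377.TwoConv.a6_chars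
  exact two_of_a6 π hπ hne h1 h2 h10 (c := ConjClasses.mk Cfsg.Agent.H377.TwoConv.f6)
    (d := ConjClasses.mk (Cfsg.Agent.H377.TwoConv.f6 ^ 2)) (e := ConjClasses.mk Cfsg.Agent.H442.ZerosSmall.t2)
    (f := ConjClasses.mk Cfsg.Agent.H377.TwoConv.f4)
    (mk_ne_of_not_conj Cfsg.Agent.H377.TwoConv.not_conj_f6)
    (mk_ne_of_order (by rw [Cfsg.Agent.H377.TwoConv.ord_t2, Cfsg.Agent.H377.TwoConv.ord_f4]; norm_num))
    (mk_ne_of_order (by rw [Cfsg.Agent.H377.TwoConv.ord_t2, Cfsg.Agent.H377.TwoConv.ord_f6]; norm_num))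
    (mk_ne_of_order (by rw [Cfsg.Agent.H377.TwoConv.ord_t2, Cfsg.Agent.H377.TwoConv.ord_f6']; norm_num))
    (zeroOn_of_order h5 Cfsg.Agent.H377.TwoConv.ord_f6) (zeroOn_of_order h5 Cfsg.Agent.H377.TwoConv.ord_f6')
    (zeroOn_of_order h82 Cfsg.Agent.H377.TwoConv.ord_t2) (zeroOn_of_order h84 Cfsg.Agent.H377.TwoConv.ord_f4)

/-! ### `A₅` -/

def u5 : alternatingGroup (Fin 5) := ⟨swap 0 2 * swap 1 3, Perm.mem_alternatingGroup.2 (by decide +kernel)⟩

theorem abCase_a5 : AbCase (alternatingGroup (Fin 5)) := by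
  intro G _ _ π hπ hA hne p n hp hc hx
  have hs : IsSimpleGroup (alternatingGroup (Fin 5)) := alternatingGroup.isSimpleGroup_five
  obtain ⟨ψ₁, ψ₂, ψ₃, ψ₄, h12, h13, h14, h23, h24, h34, z1, z2, z3, z4⟩ := Cfsg.Agent.H377.TwoConv.a5_chars
  have o5' : orderOf (Cfsg.Agent.H377.TwoConv.f5 ^ 2) = 5 := by
    have : Fact (Nat.Prime 5) := ⟨by norm_num⟩
    exact orderOf_eq_prime (by decide +kernel) (by decide +kernel)
  have ord2 : ∀ q : alternatingGroup (Fin 5), q = Cfsg.Agent.H377.TwoConv.t5 ∨ q = u5 ∨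
      q = Cfsg.Agent.H377.TwoConv.t5 * u5 → orderOf q = 2 ∧
        Nat.card (Subgroup.centralizer ({q} : Set (alternatingGroup (Fin 5)))) = 4 := by
    rintro q (rfl | rfl | rfl)
    · exact ⟨orderOf_eq_prime (by decide +kernel) (by decide +kernel), by rw [card_cent_eq]; decide +kernel⟩
    · exact ⟨orderOf_eq_prime (by decide +kernel) (by decide +kernel), by rw [card_cent_eq]; decide +kernel⟩
    · exact ⟨orderOf_eq_prime (by decide +kernel) (by decide +kernel), by rw [card_cent_eq]; decide +kernel⟩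
  have nc : ¬ IsConj Cfsg.Agent.H377.TwoConv.f5 (Cfsg.Agent.H377.TwoConv.f5 ^ 2) := by
    rw [isConj_iff]
    decide +kernel
  exact two_of_a5 π hπ hA hne hp hc hx Cfsg.Agent.H377.TwoConv.card_a5 Cfsg.Agent.H377.TwoConv.k_a5 h12 h34
    (t := Cfsg.Agent.H377.TwoConv.c5) (f := Cfsg.Agent.H377.TwoConv.f5) (f' := Cfsg.Agent.H377.TwoConv.f5 ^ 2)
    (a := Cfsg.Agent.H377.TwoConv.t5) (b := u5)
    Cfsg.Agent.H377.TwoConv.ord_c5 (by rw [card_cent_eq]; decide +kernel) Cfsg.Agent.H377.TwoConv.ord_f5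
    (by rw [card_cent_eq]; decide +kernel) o5' (by rw [card_cent_eq]; decide +kernel)
    (mk_ne_of_not_conj nc) (zeroOn_of_order z1 Cfsg.Agent.H377.TwoConv.ord_c5)
    (zeroOn_of_order z2 Cfsg.Agent.H377.TwoConv.ord_c5) (zeroOn_of_order z4 Cfsg.Agent.H377.TwoConv.ord_f5)
    (zeroOn_of_order z4 o5') (by decide +kernel) (by decide +kernel)
    fun q hq => ⟨zeroOn_of_order z3 (ord2 q hq).1, ord2 q hq⟩

/-! ### `S₅` -/

theorem abCase_s5 : AbCase (Perm (Fin 5)) := by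
  intro G _ _ π hπ hA hne p n hp hc hx
  obtain ⟨ψ₄, ψ₆, h46, h6, z4, z2⟩ := Cfsg.Agent.H377.TwoConv.s5_chars
  have z2' : ∀ q : Perm (Fin 5), orderOf q = 2 → Perm.sign q = 1 → ZeroOn ψ₄ (ConjClasses.mk q) := by
    intro q hq hs x hx
    obtain ⟨k, hk⟩ := isConj_iff.1 (ConjClasses.mk_eq_mk_iff_isConj.1 hx)
    apply z2
    · rw [← hq, ← hk]
      exact ((MulAut.conj k).orderOf_eq x).symm
    · rw [← hs, ← hk, Perm.sign_mul, Perm.sign_mul, Perm.sign_inv]
      rw [mul_comm (Perm.sign k), mul_assoc, Int.units_mul_self, mul_one]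
  have ord2 : ∀ q : Perm (Fin 5), q = swap 0 1 * swap 2 3 ∨ q = swap 0 2 * swap 1 3 ∨
      q = (swap 0 1 * swap 2 3) * (swap 0 2 * swap 1 3) → orderOf q = 2 ∧ Perm.sign q = 1 ∧
        Nat.card (Subgroup.centralizer ({q} : Set (Perm (Fin 5)))) = 8 := by
    rintro q (rfl | rfl | rfl)
    · exact ⟨orderOf_eq_prime (by decide +kernel) (by decide +kernel), by decide +kernel,
        by rw [card_cent_eq]; decide +kernel⟩
    · exact ⟨orderOf_eq_prime (by decide +kernel) (by decide +kernel), by decide +kernel,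
        by rw [card_cent_eq]; decide +kernel⟩
    · exact ⟨orderOf_eq_prime (by decide +kernel) (by decide +kernel), by decide +kernel,
        by rw [card_cent_eq]; decide +kernel⟩
  have o4 : orderOf (swap (0 : Fin 5) 1 * swap 1 2 * swap 2 3) = 4 :=
    orderOf_eq_prime_pow (p := 2) (n := 1) (by decide +kernel) (by decide +kernel)
  exact two_of_s5 π hπ hA hne hp hc h46 h6 (a := swap 0 1 * swap 2 3) (b := swap 0 2 * swap 1 3)
    (x := swap 0 1 * swap 1 2 * swap 2 3) (by decide +kernel) (by decide +kernel) o4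
    (by rw [card_cent_eq]; decide +kernel) (zeroOn_of_order z4 o4)
    fun q hq => ⟨z2' q (ord2 q hq).1 (ord2 q hq).2.1, (ord2 q hq).1, 3, by rw [(ord2 q hq).2.2]; norm_num⟩

end Cfsg.Agent.H504.TwoZ
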