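import Cfsg.Agent.H504.TwoNonab
import Cfsg.Agent.H504.TwoQuotA5
import Cfsg.Agent.H504.TwoRows
import Cfsg.Agent.H671.Frame

/-!
# S4897: the induction
-/

set_option autoImplicit false
set_option linter.unusedSectionVars false

namespace Cfsg.Agent.H504.TwoZ

open Cfsg Cfsg.Agent.Characters.Core Cfsg.Agent.H504.ZeroTI Cfsg.Agent.H504.Zeros
open Cfsg.Agent.H671.H5

universe u

/-- abelian (elementary) normal subgroups with quotient `Q` -/
def AbCase (Q : Type) [Group Q] : Prop :=
  ∀ (G : Type) [Group G] [Finite G] (π : G →* Q), Function.Surjective π → AbK π → π.ker ≠ ⊥ →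
    ∀ p n : ℕ, p.Prime → Nat.card π.ker = p ^ n → (∀ m ∈ π.ker, m ^ p = 1) → Two G

theorem AbCase.of_equiv {Q R : Type} [Group Q] [Group R] (e : Q ≃* R) (h : AbCase R) : AbCase Q := by
  intro G _ _ π hπ hA hne p n hp hc hx
  have hk : (e.toMonoidHom.comp π).ker = π.ker := by
    ext x
    rw [MonoidHom.mem_ker, MonoidHom.mem_ker]
    exact map_eq_one_iff e e.injective
  refine h G (e.toMonoidHom.comp π) (e.surjective.comp hπ) ?_ (by rwa [hk]) p n hp (by rwa [hk]) (by rwa [hk])
  unfold AbK
  rw [hk]
  exact hA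

/-- an abelian minimal normal subgroup is elementary abelian -/
theorem exists_elementary {G : Type u} [Group G] [Finite G] {K : Subgroup G} (hK : K.Normal) (hne : K ≠ ⊥)
    (hmin : ∀ L : Subgroup G, L.Normal → L ≤ K → L = ⊥ ∨ L = K) (hab : ∀ a ∈ K, ∀ b ∈ K, a * b = b * a) :
    ∃ p n : ℕ, p.Prime ∧ Nat.card K = p ^ n ∧ ∀ m ∈ K, m ^ p = 1 := by
  have h1 : Nat.card K ≠ 1 := fun h => hne (Subgroup.card_eq_one.1 h)
  obtain ⟨p, hp, hpd⟩ := Nat.exists_prime_and_dvd h1
  have : Fact p.Prime := ⟨hp⟩
  let L : Subgroup G :=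
    { carrier := {x | x ∈ K ∧ x ^ p = 1}
      one_mem' := ⟨K.one_mem, one_pow p⟩
      mul_mem' := by
        rintro a b ⟨ha, ha'⟩ ⟨hb, hb'⟩
        refine ⟨K.mul_mem ha hb, ?_⟩
        rw [(show Commute a b from hab a ha b hb).mul_pow, ha', hb', one_mul]
      inv_mem' := by
        rintro a ⟨ha, ha'⟩
        exact ⟨K.inv_mem ha, by rw [inv_pow, ha', inv_one]⟩ }
  have hL : L.Normal := by
    refine ⟨?_⟩
    rintro a ⟨ha, ha'⟩ g
    refine ⟨hK.conj_mem a ha g, ?_⟩
    rw [conj_pow, ha']
    group
  have hLK : L ≤ K := fun x hx => hx.1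
  have hLne : L ≠ ⊥ := by
    obtain ⟨x, hx⟩ := exists_prime_orderOf_dvd_card' p hpd
    intro h
    have h2 : (x : G) ∈ L := ⟨x.2, by
      rw [← Subgroup.coe_pow, ← hx, pow_orderOf_eq_one]
      rfl⟩
    rw [h, Subgroup.mem_bot] at h2
    have h3 : x = 1 := Subtype.ext h2
    rw [h3, orderOf_one] at hx
    exact hp.one_lt.ne hx
  have hLe : L = K := (hmin L hL hLK).resolve_left hLne
  have hexp : ∀ m ∈ K, m ^ p = 1 := fun m hm => by
    rw [← hLe] at hm
    exact hm.2
  have hP : IsPGroup p K := fun x => ⟨1, by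
    rw [pow_one]
    exact Subtype.ext (hexp x x.2)⟩
  obtain ⟨n, hn⟩ := IsPGroup.iff_card.1 hP
  exact ⟨p, n, hp, hn, hexp⟩

theorem isMulCommutative_of_forall {G : Type u} [Group G] {K : Subgroup G} (h : IsMulCommutative K) :
    ∀ a ∈ K, ∀ b ∈ K, a * b = b * a := fun a ha b hb =>
  congrArg Subtype.val (h.1.1 (⟨a, ha⟩ : K) ⟨b, hb⟩)

section main

variable (hF : FactExt.{0})
  (hOut : ∀ (S : Type) [Group S] [Finite S] [IsSimpleGroup S], Group.IsSolvable (Cfsg.Out S))
  (hRow : ∀ (S : Type) [Group S] [Finite S] [IsSimpleGroup S], ¬ IsMulCommutative S → RowT S)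
  (hAb : ∀ (Q : Type) [Group Q], Four Q → AbCase Q)

include hF hOut in
/-- non-abelian minimal normal subgroups with non-solvable quotient -/
theorem two_of_nonab {G : Type} [Group G] [Finite G] {K : Subgroup G} (hK : K.Normal) (hne : K ≠ ⊥)
    (hmin : ∀ L : Subgroup G, L.Normal → L ≤ K → L = ⊥ ∨ L = K) (hna : ¬ IsMulCommutative K)
    (hQ : ¬ Group.IsSolvable (G ⧸ K)) : Two G := by
  obtain ⟨S, iS, iS', k, hk, hSna, ⟨e⟩⟩ := Cfsg.Agent.H671.Frame.minNormal_pi hK hne hmin hna
  have hKt : K ≠ ⊤ := by
    rintro rfl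
    apply hQ
    have : Subsingleton (G ⧸ (⊤ : Subgroup G)) := QuotientGroup.subsingleton_quotient_top
    infer_instance
  have hfin : Finite S := by
    have : Finite (Fin k → S) := Finite.of_equiv _ e.toEquiv
    have h0 : Fin k := ⟨0, hk⟩
    exact Finite.of_surjective (fun f : Fin k → S => f h0) fun s => ⟨fun _ => s, rfl⟩
  obtain ⟨θ, hθ1, hθ⟩ := hF S hSna
  rcases Nat.lt_or_ge k 2 with h2 | h2
  · have h1 : k = 1 := by omega
    subst h1
    have e' : K ≃* S := e.trans (MulEquiv.funUnique (Fin 1) S)
    exact two_of_simple K hQ hSna (hOut S) e' hθ1 hθ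
  · exact two_of_pi K hKt hSna h2 e hθ1 hθ

include hF hOut hRow hAb in
/-- **S4897, the induction** -/
theorem two_or_four (n : ℕ) : ∀ (G : Type) [Group G] [Finite G], Nat.card G = n → ¬ Group.IsSolvable G →
    Two G ∨ Four G := by
  induction n using Nat.strong_induction_on with
  | _ n ih =>
  intro G _ _ hn hG
  have hsub : ∀ N : Subgroup G, N = ⊤ → ∀ [N.Normal], Group.IsSolvable (G ⧸ N) := by
    rintro N rfl _
    have : Subsingleton (G ⧸ (⊤ : Subgroup G)) := QuotientGroup.subsingleton_quotient_top
    infer_instance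
  by_cases h : ∃ (N : Subgroup G) (_ : N.Normal), N ≠ ⊥ ∧ ¬ Group.IsSolvable (G ⧸ N)
  · obtain ⟨N, hN, hN1, hNs⟩ := h
    obtain ⟨K, hK, hKN, hK1, hmin⟩ := Cfsg.Agent.H671.Frame.exists_minNormal hN hN1
    have hKs : ¬ Group.IsSolvable (G ⧸ K) := by
      intro hs
      apply hNs
      have hsurj : Function.Surjective (QuotientGroup.map K N (MonoidHom.id G) hKN) := by
        intro q
        obtain ⟨g, rfl⟩ := QuotientGroup.mk_surjective q
        exact ⟨(g : G ⧸ K), rfl⟩
      exact Group.isSolvable_of_surjective (f := QuotientGroup.map K N (MonoidHom.id G) hKN) hsurj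
    have hlt : Nat.card (G ⧸ K) < n := by
      rw [← hn, Subgroup.card_eq_card_quotient_mul_card_subgroup K]
      have h1 : 1 < Nat.card K := by
        rw [Subgroup.one_lt_card_iff_ne_bot]
        exact hK1
      have h2 : 0 < Nat.card (G ⧸ K) := Nat.card_pos
      exact lt_mul_of_one_lt_right h2 h1
    rcases ih _ hlt (G ⧸ K) rfl hKs with h2 | h4
    · exact Or.inl (Two.of_quotient K h2)
    · left
      by_cases hab : IsMulCommutative K
      · have hab' := isMulCommutative_of_forall hab
        obtain ⟨p, m, hp, hc, hx⟩ := exists_elementary hK hK1 hmin hab'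
        have hk : (QuotientGroup.mk' K).ker = K := QuotientGroup.ker_mk' K
        refine hAb (G ⧸ K) h4 G (QuotientGroup.mk' K) (QuotientGroup.mk'_surjective K) ?_ ?_ p m hp ?_ ?_
        · unfold AbK
          rw [hk]
          exact hab'
        · rwa [hk]
        · rwa [hk]
        · rwa [hk]
      · exact two_of_nonab hF hOut hK hK1 hmin hab hKs
  · push Not at h
    have htb : (⊤ : Subgroup G) ≠ ⊥ := by
      intro h1
      apply hG
      have : Subsingleton G := by
        rw [← Subgroup.subsingleton_iff]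
        exact ⟨fun a b => by
          have ha : a = ⊥ := by rw [eq_bot_iff, ← h1]; exact le_top
          have hb : b = ⊥ := by rw [eq_bot_iff, ← h1]; exact le_top
          rw [ha, hb]⟩
      infer_instance
    obtain ⟨N, hN, -, hN1, hmin⟩ := Cfsg.Agent.H671.Frame.exists_minNormal (inferInstance : (⊤ : Subgroup G).Normal) htb
    have hQ := h N hN hN1
    have hNs : ¬ Group.IsSolvable N := by
      intro hs
      apply hG
      exact Group.isSolvable_of_ker_le_range N.subtype (QuotientGroup.mk' N) (by simp)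
    have hna : ¬ IsMulCommutative N := by
      intro hc
      apply hNs
      let _ : CommGroup N := { (inferInstance : Group N) with mul_comm := fun a b => hc.1.1 a b }
      infer_instance
    obtain ⟨S, iS, iS', k, hk, hSna, ⟨e⟩⟩ := Cfsg.Agent.H671.Frame.minNormal_pi hN hN1 hmin hna
    have h0 : Fin k := ⟨0, hk⟩
    have hfin : Finite S := by
      have : Finite (Fin k → S) := Finite.of_equiv _ e.toEquiv
      exact Finite.of_surjective (fun f : Fin k → S => f h0) fun s => ⟨fun _ => s, rfl⟩
    rcases Nat.lt_or_ge k 2 with h2 | h2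
    · have h1 : k = 1 := by omega
      subst h1
      have e' : N ≃* S := e.trans (MulEquiv.funUnique (Fin 1) S)
      have hrow := hRow S hSna
      by_cases hNt : N = ⊤
      · subst hNt
        have e2 : G ≃* S := (Subgroup.topEquiv (G := G)).symm.trans e'
        rcases hrow.1 with h3 | h3
        · exact Or.inl (h3.of_equiv e2)
        · exact Or.inr (h3.of_equiv e2)
      · refine hrow.2 G N ⟨e'⟩ ?_ hQ hNt
        by_contra hC
        have hCs := h (Subgroup.centralizer (N : Set G)) inferInstance hC
        apply hNs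
        let f : N →* G ⧸ Subgroup.centralizer (N : Set G) := (QuotientGroup.mk' _).comp N.subtype
        have hf : Function.Injective f := by
          rw [injective_iff_map_eq_one]
          intro x hx
          have h3 : (x : G) ∈ Subgroup.centralizer (N : Set G) := (QuotientGroup.eq_one_iff _).1 hx
          have h4 : e' x ∈ Subgroup.center S := by
            rw [Subgroup.mem_center_iff]
            intro s
            apply e'.symm.injective
            rw [map_mul, map_mul, MulEquiv.symm_apply_apply]
            exact Subtype.ext (Subgroup.mem_centralizer_iff.1 h3 _ (e'.symm s).2)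
          have h5 : Subgroup.center S = ⊥ := by
            rcases (inferInstance : (Subgroup.center S).Normal).eq_bot_or_eq_top with h | h
            · exact h
            · exfalso
              apply hSna
              refine ⟨⟨fun a b => ?_⟩⟩
              have : b ∈ Subgroup.center S := h ▸ Subgroup.mem_top b
              exact Subgroup.mem_center_iff.1 this a
          rw [h5, Subgroup.mem_bot, map_eq_one_iff e' e'.injective] at h4
          exact h4
        exact Group.isSolvable_of_isSolvable_injective hf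
    · left
      obtain ⟨θ, hθ1, hθ⟩ := hF S hSna
      refine two_of_pi N ?_ hSna h2 e hθ1 hθ
      rintro rfl
      -- `G = S ^ k` is simple
      let ev : G →* S := (Pi.evalMonoidHom (fun _ : Fin k => S) h0).comp
        (e.toMonoidHom.comp (Subgroup.topEquiv (G := G)).symm.toMonoidHom)
      have hsurj : Function.Surjective ev := by
        intro s
        refine ⟨(e.symm (fun _ => s) : (⊤ : Subgroup G)), ?_⟩
        show e ((Subgroup.topEquiv (G := G)).symm ((e.symm (fun _ => s) : (⊤ : Subgroup G)) : G)) h0 = s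
        have h3 : (Subgroup.topEquiv (G := G)).symm ((e.symm (fun _ => s) : (⊤ : Subgroup G)) : G) =
            e.symm (fun _ => s) := rfl
        rw [h3, MulEquiv.apply_symm_apply]
      rcases hmin ev.ker inferInstance le_top with h3 | h3
      · have hinj : Function.Injective ev := (MonoidHom.ker_eq_bot_iff ev).1 h3
        have hcard : Nat.card G = Nat.card S := Nat.card_congr (Equiv.ofBijective ev ⟨hinj, hsurj⟩)
        have hcard2 : Nat.card G = Nat.card S ^ k := by
          rw [Nat.card_congr ((Subgroup.topEquiv (G := G)).symm.trans e).toEquiv, Nat.card_fun]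
          simp
        have hS1 : 1 < Nat.card S := by
          rw [Finite.one_lt_card_iff_nontrivial]
          infer_instance
        have h4 : Nat.card S ^ 1 < Nat.card S ^ k := Nat.pow_lt_pow_right hS1 (by omega)
        rw [pow_one, ← hcard2, ← hcard] at h4
        exact lt_irrefl _ h4
      · obtain ⟨s, hs⟩ := exists_ne (1 : S)
        obtain ⟨g, hg⟩ := hsurj s
        have h4 : g ∈ ev.ker := by rw [h3]; exact Subgroup.mem_top g
        rw [MonoidHom.mem_ker, hg] at h4
        exact hs h4

end main

/-- transfer of the condition of S4897 -/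
theorem AtMost.of_equiv {G H : Type*} [Group G] [Group H] (e : G ≃* H) (h : AtMost H) : AtMost G := by
  obtain ⟨φ, hφ⟩ := h
  refine ⟨irrEquiv e φ, fun χ h1 h2 => ?_⟩
  have h3 := hφ ((irrEquiv e).symm χ) (by
    have h4 := charDegree_comp e.symm (χ : G → ℂ)
    show charDegree ((χ : G → ℂ) ∘ e.symm) ≠ 1
    rwa [h4]) (by
    intro h4
    apply h2
    rw [← h4, Equiv.apply_symm_apply])
  refine le_trans (le_of_eq ?_) h3
  refine Nat.card_congr (Equiv.subtypeEquiv (ccEquiv e) fun c => ?_)
  show (∀ g : G, ConjClasses.mk g = c → (χ : G → ℂ) g = 0) ↔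
      (∀ g : H, ConjClasses.mk g = ccEquiv e c → (χ : G → ℂ) (e.symm g) = 0)
  constructor
  · intro h4 g hg
    apply h4
    apply (ccEquiv e).injective
    rw [ccEquiv_mk, e.apply_symm_apply, hg]
  · intro h4 g hg
    have := h4 (e g) (by rw [← ccEquiv_mk, hg])
    rwa [e.symm_apply_apply] at this

end Cfsg.Agent.H504.TwoZ
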