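import Cfsg.Agent.H504.TwoAct

/-!
# S4897: abelian normal subgroups with quotient `A₆`, `L₂(7)`, `S₅`
-/

set_option autoImplicit false
set_option linter.unusedSectionVars false

namespace Cfsg.Agent.H504.TwoZ

open Cfsg Cfsg.Agent.Characters.Core Cfsg.Agent.H504.ZeroTI Cfsg.Agent.H504.Zeros

universe u v

variable {G : Type u} [Group G] [Finite G] {Q : Type v} [Group Q] (π : G →* Q)

/-- `ψ` vanishes on the class `c` -/
def ZeroOn {X : Type*} [Group X] (ψ : IrrCharacter X) (c : ConjClasses X) : Prop :=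
  ∀ q : X, ConjClasses.mk q = c → (ψ : X → ℂ) q = 0

theorem sum_fib_le_zc' (χ : IrrCharacter G) (T : Finset (ConjClasses Q))
    (hT : ∀ g : G, ConjClasses.mk (π g) ∈ T → (χ : G → ℂ) g = 0) : ∑ c ∈ T, fib π c ≤ zc χ := by
  rw [sum_fib]
  refine Nat.card_le_card_of_injective (fun d => ⟨d.1, fun g hg => ?_⟩) ?_
  · refine hT g ?_
    rw [← map_mk, hg]
    exact d.2
  · intro a b hab
    have h1 := congrArg Subtype.val hab
    exact Subtype.ext h1

/-- a class with one class above -/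
theorem zero_of_fib_one (hπ : Function.Surjective π) {χ : IrrCharacter G} (hχ : Faith π χ)
    {c : ConjClasses Q} (hc : fib π c = 1) {g : G} (hg : ConjClasses.mk (π g) = c) : (χ : G → ℂ) g = 0 := by
  subst hg
  exact zero_of_one π hπ hχ ((fib_eq_one_iff π hπ g).1 hc)

theorem faith_zc (hπ : Function.Surjective π) {χ : IrrCharacter G} (hχ : Faith π χ)
    (T : Finset (ConjClasses Q)) (hT : ∀ c ∈ T, fib π c = 1) : T.card ≤ zc χ := by
  refine le_trans ?_ (sum_fib_le_zc' π χ T fun g hg => zero_of_fib_one π hπ hχ (hT _ hg) rfl)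
  rw [Finset.sum_congr rfl hT, Finset.sum_const, smul_eq_mul, mul_one]

theorem two_le_fib_one (hne : π.ker ≠ ⊥) : 2 ≤ fib π (ConjClasses.mk 1) := by
  classical
  obtain ⟨n, hn⟩ := Subgroup.ne_bot_iff_exists_ne_one.1 hne
  have hn1 : (n : G) ≠ 1 := fun h' => hn (Subtype.ext h')
  have h1 : 1 < fib π (ConjClasses.mk 1) := by
    unfold fib
    rw [Finite.one_lt_card_iff_nontrivial]
    refine ⟨⟨ConjClasses.mk 1, by rw [map_mk, map_one]⟩, ⟨ConjClasses.mk (n : G), by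
      rw [map_mk, show π (n : G) = 1 from n.2]⟩, fun h => ?_⟩
    have h2 := ConjClasses.mk_eq_mk_iff_isConj.1 (congrArg Subtype.val h)
    rw [isConj_one_right] at h2
    exact hn1 h2
  omega

/-- lower bound for the class number -/
theorem card_classes_ge (hπ : Function.Surjective π) (T : Finset (ConjClasses Q)) :
    ∑ c ∈ T, fib π c + Nat.card (ConjClasses Q) ≤ Nat.card (ConjClasses G) + T.card := by
  classical
  have hQ : Finite Q := Finite.of_surjective π hπ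
  have := Fintype.ofFinite (ConjClasses Q)
  rw [card_classes_eq_sum π, ← Finset.sum_add_sum_compl T]
  have h1 : Tᶜ.card ≤ ∑ c ∈ Tᶜ, fib π c := by
    rw [Finset.card_eq_sum_ones]
    exact Finset.sum_le_sum fun c _ => fib_pos π hπ c
  have h2 : Tᶜ.card + T.card = Nat.card (ConjClasses Q) := by
    rw [Finset.card_compl, Nat.card_eq_fintype_card]
    have := Finset.card_le_univ T
    omega
  omega

theorem exists_faith (hπ : Function.Surjective π) (hne : π.ker ≠ ⊥) : ∃ χ : IrrCharacter G, Faith π χ := by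
  classical
  have h1 := card_classes_ge π hπ {ConjClasses.mk 1}
  rw [Finset.sum_singleton, Finset.card_singleton] at h1
  have h2 := two_le_fib_one π hne
  have h3 := card_faith π hπ
  have h4 : 0 < Nat.card {χ : IrrCharacter G // Faith π χ} := by omega
  obtain ⟨⟨χ, hχ⟩⟩ := (Nat.card_pos_iff.1 h4).1
  exact ⟨χ, hχ⟩

/-- two classes on which `ψ` vanishes, if `inf ψ` has at most two zeros -/
theorem fib_one_of_zc (hπ : Function.Surjective π) {ψ : IrrCharacter Q} (h : zc (inf π hπ ψ) ≤ 2)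
    {c d : ConjClasses Q} (hcd : c ≠ d) (hc : ZeroOn ψ c) (hd : ZeroOn ψ d) : fib π c = 1 ∧ fib π d = 1 := by
  classical
  have h1 := sum_fib_le_zc π hπ ψ {c, d} fun q hq => by
    rcases Finset.mem_insert.1 hq with h | h
    · exact hc q h
    · exact hd q (Finset.mem_singleton.1 h)
  rw [Finset.sum_pair hcd] at h1
  have h2 := fib_pos π hπ c
  have h3 := fib_pos π hπ d
  omega

theorem two_of_zc {χ ψ : IrrCharacter G} (hne : χ ≠ ψ) (h1 : 3 ≤ zc χ) (h2 : 3 ≤ zc ψ) : Two G :=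
  ⟨χ, ψ, hne, h1, h2⟩

/-- if `¬ Two G` and `inf χ` has three zeros, the others have at most two -/
theorem zc_le_of (hT : ¬ Two G) {χ ψ : IrrCharacter G} (hne : χ ≠ ψ) (h1 : 3 ≤ zc χ) : zc ψ ≤ 2 := by
  by_contra h
  exact hT ⟨χ, ψ, hne, h1, by omega⟩

theorem inf_ne (hπ : Function.Surjective π) {ψ φ : IrrCharacter Q} (h : ψ ≠ φ) : inf π hπ ψ ≠ inf π hπ φ :=
  fun h' => h (inf_injective π hπ h')

/-- **quotient `A₆`** -/
theorem two_of_a6 (hπ : Function.Surjective π) (hne : π.ker ≠ ⊥) {ψ₁₀ ψ₅ ψ₈ : IrrCharacter Q}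
    (h1 : ψ₁₀ ≠ ψ₅) (h2 : ψ₁₀ ≠ ψ₈) (h10 : 3 ≤ zc ψ₁₀) {c d e f : ConjClasses Q} (hcd : c ≠ d)
    (hef : e ≠ f) (hce : c ≠ e) (hde : d ≠ e) (hc : ZeroOn ψ₅ c) (hd : ZeroOn ψ₅ d) (he : ZeroOn ψ₈ e)
    (hf : ZeroOn ψ₈ f) : Two G := by
  classical
  by_contra hT
  have h3 : 3 ≤ zc (inf π hπ ψ₁₀) := h10.trans (zc_le_comp π hπ ψ₁₀)
  obtain ⟨h4, h5⟩ := fib_one_of_zc π hπ (zc_le_of hT (inf_ne π hπ h1) h3) hcd hc hd
  obtain ⟨h6, h7⟩ := fib_one_of_zc π hπ (zc_le_of hT (inf_ne π hπ h2) h3) hef he hf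
  obtain ⟨χ, hχ⟩ := exists_faith π hπ hne
  refine hT (two_of_zc (faith_ne_inf π hπ hχ ψ₁₀) ?_ h3)
  refine le_trans ?_ (faith_zc π hπ hχ {c, d, e} ?_)
  · rw [Finset.card_eq_three.2 ⟨c, d, e, hcd, hce, hde, rfl⟩]
  · intro x hx
    simp only [Finset.mem_insert, Finset.mem_singleton] at hx
    rcases hx with rfl | rfl | rfl <;> assumption

/-- the four-group argument: elements of order four and two -/
theorem false_of_four (hπ : Function.Surjective π) (hA : AbK π) (hne : π.ker ≠ ⊥) {p n : ℕ} (hp : p.Prime)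
    (hcard : Nat.card π.ker = p ^ n) {a b x : Q} (ha : a * a = 1) (hb : b * b = 1)
    (hx : orderOf x = 4) (hxc : Nat.card (Subgroup.centralizer ({x} : Set Q)) = 4)
    (hx1 : fib π (ConjClasses.mk x) = 1)
    (h1 : ∀ q : Q, q = a ∨ q = b ∨ q = a * b → fib π (ConjClasses.mk q) = 1 ∧
      ∃ k, Nat.card (Subgroup.centralizer ({q} : Set Q)) = 2 ^ k) : False := by
  have hn : n ≠ 0 := by
    rintro rfl
    rw [pow_zero, Subgroup.card_eq_one] at hcard
    exact hne hcard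
  -- `p` is odd
  have hp2 : p ≠ 2 := by
    rintro rfl
    obtain ⟨g, rfl⟩ := hπ x
    have h2 := (fib_eq_one_iff π hπ g).1 hx1
    have h3 := cN_eq_one_of_one π hπ h2 (by rw [hxc, hx])
    have h4 := cN_modEq π hπ hA (r := 2) (k := 2) Nat.prime_two g (by rw [hx]; norm_num)
    rw [h3, hcard] at h4
    have h5 : 2 ∣ 2 ^ n := dvd_pow_self 2 hn
    have h6 : (2 : ℕ) ∣ 1 := (h4.dvd_iff (dvd_refl 2)).1 h5
    omega
  have key : ∀ q : Q, q = a ∨ q = b ∨ q = a * b → ∀ g : G, π g = q → cN π g = 1 := by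
    intro q hq g hg
    obtain ⟨h2, k, h3⟩ := h1 q hq
    subst hg
    have h4 := card_cent_of_one π hπ ((fib_eq_one_iff π hπ g).1 h2)
    have h5 := cN_dvd_cent π g
    rw [h4, h3] at h5
    have h6 := cN_dvd_ker π g
    rw [hcard] at h6
    have h7 : Nat.Coprime (2 ^ k) (p ^ n) :=
      Nat.Coprime.pow _ _ ((Nat.coprime_primes Nat.prime_two hp).2 hp2.symm)
    exact Nat.eq_one_of_dvd_coprimes h7 h5 h6
  obtain ⟨A, rfl⟩ := hπ a
  obtain ⟨B, rfl⟩ := hπ b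
  exact no_four π hA hne ha hb (key _ (Or.inl rfl) A rfl) (key _ (Or.inr (Or.inl rfl)) B rfl)
    (key _ (Or.inr (Or.inr rfl)) (A * B) (map_mul π A B))

/-- **quotient `S₅`** -/
theorem two_of_s5 (hπ : Function.Surjective π) (hA : AbK π) (hne : π.ker ≠ ⊥) {p n : ℕ} (hp : p.Prime)
    (hcard : Nat.card π.ker = p ^ n) {ψ₄ ψ₆ : IrrCharacter Q} (h46 : ψ₄ ≠ ψ₆) (h6 : 3 ≤ zc ψ₆)
    {a b x : Q} (ha : a * a = 1) (hb : b * b = 1) (hx : orderOf x = 4)
    (hxc : Nat.card (Subgroup.centralizer ({x} : Set Q)) = 4)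
    (hzx : ZeroOn ψ₄ (ConjClasses.mk x))
    (h1 : ∀ q : Q, q = a ∨ q = b ∨ q = a * b → ZeroOn ψ₄ (ConjClasses.mk q) ∧ orderOf q = 2 ∧
      ∃ k, Nat.card (Subgroup.centralizer ({q} : Set Q)) = 2 ^ k) : Two G := by
  by_contra hT
  have h3 : 3 ≤ zc (inf π hπ ψ₆) := h6.trans (zc_le_comp π hπ ψ₆)
  have h4 := zc_le_of hT (inf_ne π hπ h46.symm) h3
  have key : ∀ q : Q, q = a ∨ q = b ∨ q = a * b →
      fib π (ConjClasses.mk x) = 1 ∧ fib π (ConjClasses.mk q) = 1 := by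
    intro q hq
    obtain ⟨h5, h6, -⟩ := h1 q hq
    refine fib_one_of_zc π hπ h4 (fun h => ?_) hzx h5
    obtain ⟨k, hk⟩ := isConj_iff.1 (ConjClasses.mk_eq_mk_iff_isConj.1 h)
    have : orderOf q = orderOf x := by
      rw [← hk]
      exact (MulAut.conj k).orderOf_eq _
    omega
  exact false_of_four π hπ hA hne hp hcard ha hb hx hxc (key a (Or.inl rfl)).1
    fun q hq => ⟨(key q hq).2, (h1 q hq).2.2⟩

/-- **quotient `L₂(7)`** -/
theorem two_of_l7 (hπ : Function.Surjective π) (hA : AbK π) (hne : π.ker ≠ ⊥) {p n : ℕ} (hp : p.Prime)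
    (hcard : Nat.card π.ker = p ^ n) {ψ₆ ψ₇ ψ₈ : IrrCharacter Q} (h68 : ψ₆ ≠ ψ₈)
    (h78 : ψ₇ ≠ ψ₈) {c₃ c₇ c₇' : ConjClasses Q} {a b x : Q} (ha : a * a = 1) (hb : b * b = 1)
    (hx : orderOf x = 4) (hxc : Nat.card (Subgroup.centralizer ({x} : Set Q)) = 4)
    (h77 : c₇ ≠ c₇') (h37 : c₃ ≠ c₇) (h37' : c₃ ≠ c₇') (h3x : c₃ ≠ ConjClasses.mk x)
    (hz6 : ZeroOn ψ₆ c₃) (hz6' : ZeroOn ψ₆ (ConjClasses.mk x)) (hz7 : ZeroOn ψ₇ c₇) (hz7' : ZeroOn ψ₇ c₇')
    (hz8 : ZeroOn ψ₈ (ConjClasses.mk x))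
    (h1 : ∀ q : Q, q = a ∨ q = b ∨ q = a * b → ZeroOn ψ₈ (ConjClasses.mk q) ∧ orderOf q = 2 ∧
      ∃ k, Nat.card (Subgroup.centralizer ({q} : Set Q)) = 2 ^ k) : Two G := by
  classical
  by_contra hT
  by_cases h8 : zc (inf π hπ ψ₈) ≤ 2
  · have key : ∀ q : Q, q = a ∨ q = b ∨ q = a * b →
        fib π (ConjClasses.mk x) = 1 ∧ fib π (ConjClasses.mk q) = 1 := by
      intro q hq
      obtain ⟨h5, h6, -⟩ := h1 q hq
      refine fib_one_of_zc π hπ h8 (fun h => ?_) hz8 h5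
      obtain ⟨k, hk⟩ := isConj_iff.1 (ConjClasses.mk_eq_mk_iff_isConj.1 h)
      have : orderOf q = orderOf x := by
        rw [← hk]
        exact (MulAut.conj k).orderOf_eq _
      omega
    exact false_of_four π hπ hA hne hp hcard ha hb hx hxc (key a (Or.inl rfl)).1
      fun q hq => ⟨(key q hq).2, (h1 q hq).2.2⟩
  · have h9 : 3 ≤ zc (inf π hπ ψ₈) := by omega
    obtain ⟨f3, -⟩ := fib_one_of_zc π hπ (zc_le_of hT (inf_ne π hπ h68.symm) h9) h3x hz6 hz6'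
    obtain ⟨f7, f7'⟩ := fib_one_of_zc π hπ (zc_le_of hT (inf_ne π hπ h78.symm) h9) h77 hz7 hz7'
    obtain ⟨χ, hχ⟩ := exists_faith π hπ hne
    refine hT (two_of_zc (faith_ne_inf π hπ hχ ψ₈) ?_ h9)
    refine le_trans ?_ (faith_zc π hπ hχ {c₃, c₇, c₇'} ?_)
    · rw [Finset.card_eq_three.2 ⟨c₃, c₇, c₇', h37, h37', h77, rfl⟩]
    · intro y hy
      simp only [Finset.mem_insert, Finset.mem_singleton] at hy
      rcases hy with rfl | rfl | rfl <;> assumption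

end Cfsg.Agent.H504.TwoZ
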