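import Cfsg.Agent.H504.ZerosRows
import Cfsg.Agent.H504.ZerosExc
import Cfsg.Agent.H504.ZerosG23
import Cfsg.Agent.H504.ZerosD4
import Cfsg.Agent.H701.ZerosAlt
import Cfsg.Agent.H681.ZerosPSL2E
import Cfsg.Agent.H681.ZerosPSL3
import Cfsg.Agent.H956.ZerosPSU3
import Cfsg.Agent.H206.ZerosPSLn
import Cfsg.Agent.H279.ZerosPSU
import Cfsg.Agent.H956.ZerosPSp4
import Cfsg.Agent.H279.ZerosPSp
import Cfsg.Agent.H621.Zer.Main
import Cfsg.Agent.H224.ZerosE7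
import Cfsg.Agent.H605.ZerosE6
import Cfsg.Agent.H442.ZerosTwisted
import Cfsg.Agent.H701.ZerosMathieu
import Cfsg.Agent.H442.ZerosJanko
import Cfsg.Agent.H153.ZerosHS
import Cfsg.Agent.H153.ZerosMcL
import Cfsg.Agent.H153.ZerosHe
import Cfsg.Agent.H153.ZerosRu
import Cfsg.Agent.H153.ZerosSuz
import Cfsg.Agent.H153.ZerosON
import Cfsg.Agent.H153.ZerosCo1
import Cfsg.Agent.H153.ZerosCo2
import Cfsg.Agent.H153.ZerosCo3
import Cfsg.Agent.H455.ZerosFi22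
import Cfsg.Agent.H455.ZerosFi23
import Cfsg.Agent.H455.ZerosFi24
import Cfsg.Agent.H455.ZerosHN
import Cfsg.Agent.H455.ZerosTh
import Cfsg.Agent.H455.ZerosLy
import Cfsg.Agent.H455.ZerosB
import Cfsg.Agent.H455.ZerosM

/-!
# S4895: all rows
-/

set_option autoImplicit false

namespace Cfsg.Agent.H504.Zeros

open Cfsg

universe u

theorem rows_all : Rows where
  alt := fun n hn => Cfsg.Agent.H701.ZAlt.big_alt hn
  psl2 := fun F _ _ h8 h9 => Cfsg.Agent.H681.ZerosPSL2.big_psl2 h8 h9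
  psl3 := fun F _ _ h => Cfsg.Agent.H681.ZerosPSL3.big_psl3 h
  psl := fun F _ _ n hn h => Cfsg.Agent.H206.ZPsl.big_psl hn h
  psp4 := fun F _ _ h => Cfsg.Agent.H956.ZerosPSp4.big_psp4 h
  psp := fun F _ _ m hm => Cfsg.Agent.H279.ZerosPSp.big_psp hm
  psu3 := fun F _ _ q hF hq => Cfsg.Agent.H956.ZerosPSU3.big_psu3 hF hq
  psu := fun F _ _ n q hF hn => Cfsg.Agent.H279.ZerosPSU.big_psu hF hn
  oodd := fun F _ _ m hm ho => Cfsg.Agent.H621.Zer.big_oodd hm ho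
  oplus := fun F _ _ m hm => Cfsg.Agent.H621.Zer.big_oplus hm
  ominus := fun F _ _ m a b hm hab => Cfsg.Agent.H621.Zer.big_ominus a b hm hab
  g2 := fun F _ _ h => Cfsg.Agent.H504.ZerosG23.big_g2 h
  f4 := fun F _ _ => ZerosExc.big_f4
  e6 := fun F _ _ => Cfsg.Agent.H605.ZerosE6.big_e6
  e7 := fun F _ _ => Cfsg.Agent.H224.ZerosE7.big_e7
  e8 := fun F _ _ => ZerosExc.big_e8
  te6 := fun K _ _ q hq hK => Cfsg.Agent.H605.ZerosE6.big_te6 hq hK
  td4 := fun K _ _ q hq hK => Cfsg.Agent.H504.ZerosD4.big_td4 hq hK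
  sz := fun K _ _ m hm hK => Cfsg.Agent.H442.ZerosTwisted.big_sz hm hK
  ree := fun K _ _ m hm hK => Cfsg.Agent.H442.ZerosTwisted.big_ree hm hK
  tf4 := fun K _ _ m hm hK => Cfsg.Agent.H442.ZerosTwisted.big_tf4 hm hK

theorem tits_all : TitsRow.{u} := fun h => Cfsg.Agent.H442.ZerosTwisted.big_tits h

theorem spor_all : SporRows.{u} := by
  intro S _ h
  rcases h with h | h | h | h | h | h | h | h | h | h | h | h | h | h | h | h | h | h | h | h | h | h |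
    h | h | h | h
  · exact Cfsg.Agent.H701.ZMathieu.m11 h
  · exact Cfsg.Agent.H701.ZMathieu.m12 h
  · exact Cfsg.Agent.H701.ZMathieu.m22 h
  · exact Cfsg.Agent.H701.ZMathieu.m23 h
  · exact Cfsg.Agent.H701.ZMathieu.m24 h
  · exact Cfsg.Agent.H442.ZerosJanko.j1 h
  · exact Cfsg.Agent.H442.ZerosJanko.j2 h
  · exact Cfsg.Agent.H442.ZerosJanko.j3 h
  · exact Cfsg.Agent.H442.ZerosJanko.j4 h
  · exact Cfsg.Agent.H153.Zeros.co1 h
  · exact Cfsg.Agent.H153.Zeros.co2 h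
  · exact Cfsg.Agent.H153.Zeros.co3 h
  · exact Cfsg.Agent.H153.Zeros.mcl h
  · exact Cfsg.Agent.H153.Zeros.hs h
  · exact Cfsg.Agent.H153.Zeros.suz h
  · exact Cfsg.Agent.H153.Zeros.he h
  · exact Cfsg.Agent.H153.Zeros.ru h
  · exact Cfsg.Agent.H153.Zeros.on h
  · exact Cfsg.Agent.H455.ZerosLy.ly h
  · exact Cfsg.Agent.H455.ZerosFi22.fi22 h
  · exact Cfsg.Agent.H455.ZerosFi23.fi23 h
  · exact Cfsg.Agent.H455.ZerosFi24.fi24 h
  · exact Cfsg.Agent.H455.ZerosHN.hn h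
  · exact Cfsg.Agent.H455.ZerosTh.th h
  · exact Cfsg.Agent.H455.ZerosB.b h
  · exact Cfsg.Agent.H455.ZerosM.m h

end Cfsg.Agent.H504.Zeros
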